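import Cfsg.Agent.Suzuki.Structure
import Cfsg.Prelude.Def_Sz

/-!
The group `Cfsg.Lie.Sz` (elements of Sp₄ with g* = g^θ) equals the stabiliser of the ovoid.
-/

set_option autoImplicit false

open Cfsg Matrix MulAction
open scoped Pointwise

namespace Cfsg.Agent.Suzuki

variable {F : Type*} [Field F]

/-- The exterior square coordinates used in the definition of `star4`. -/
def plucker (v u : Fin 4 → F) : Fin 4 → F :=
  fun p => v (Lie.pairOf p).1 * u (Lie.pairOf p).2 - v (Lie.pairOf p).2 * u (Lie.pairOf p).1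

theorem altForm4_eq (u v : Fin 4 → F) : Lie.altForm4 u v = u ⬝ᵥ (suzukiForm F *ᵥ v) := by
  simp [Lie.altForm4, suzukiForm, dotProduct, Matrix.mulVec, Fin.sum_univ_four]

theorem mem_Sp4_iff {g : GL (Fin 4) F} :
    g ∈ Lie.Sp4 F ↔ (g : Matrix (Fin 4) (Fin 4) F).transpose * suzukiForm F * (g : Matrix (Fin 4) (Fin 4) F) =
      suzukiForm F := by
  have key : ∀ u v : Fin 4 → F, Lie.altForm4 ((g : Matrix (Fin 4) (Fin 4) F) *ᵥ u)
      ((g : Matrix (Fin 4) (Fin 4) F) *ᵥ v) =
      u ⬝ᵥ (((g : Matrix (Fin 4) (Fin 4) F).transpose * suzukiForm F * (g : Matrix (Fin 4) (Fin 4) F)) *ᵥ v) := by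
    intro u v
    rw [altForm4_eq, ← Matrix.mulVec_mulVec, ← Matrix.mulVec_mulVec, Matrix.dotProduct_mulVec u,
      Matrix.vecMul_transpose]
  constructor
  · intro h
    ext i j
    have h1 := h (Pi.single i 1) (Pi.single j 1)
    rw [Units.coeHom_apply, key, altForm4_eq] at h1
    simpa using h1
  · intro h u v
    rw [Units.coeHom_apply, key, h, altForm4_eq]

theorem form_right {g : Matrix (Fin 4) (Fin 4) F} (h : g.transpose * suzukiForm F * g = suzukiForm F) :
    g * suzukiForm F * g.transpose = suzukiForm F := by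
  have hJ : suzukiForm F * suzukiForm F = 1 := by
    ext i j
    fin_cases i <;> fin_cases j <;> simp [suzukiForm]
  have h1 : (suzukiForm F * g.transpose * suzukiForm F) * g = 1 := by
    rw [Matrix.mul_assoc, Matrix.mul_assoc, ← Matrix.mul_assoc g.transpose, h, hJ]
  have h2 := mul_eq_one_comm.mp h1
  calc g * suzukiForm F * g.transpose
      = g * (suzukiForm F * g.transpose * suzukiForm F) * suzukiForm F := by
        simp only [Matrix.mul_assoc, hJ, Matrix.mul_one]
    _ = suzukiForm F := by rw [h2, Matrix.one_mul]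

theorem star4_uMat [Fintype F] (m : ℕ) [SzField F m] (a b : F) :
    Lie.star4 (uMat m a b) = (uMat m a b).map (th m) := by
  ext i j
  fin_cases i <;> fin_cases j <;>
    simp [Lie.star4, Lie.pairOf, uMat, ovf, th_add, th_mul, th_pow, th_th, neg_eq m, sub_eq m]
  all_goals char_two_ring (m)

theorem star4_tMat [Fintype F] (m : ℕ) [SzField F m] (s : Fˣ) :
    Lie.star4 (tMat m s) = (tMat m s).map (th m) := by
  have h1 : (s : F) ≠ 0 := s.ne_zero
  have h2 : th m (s : F) ≠ 0 := by simp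
  ext i j
  fin_cases i <;> fin_cases j <;>
    simp [Lie.star4, Lie.pairOf, tMat, th_mul, th_inv, th_th, neg_eq m, sub_eq m] <;> field_simp

theorem star4_wMat [Fintype F] (m : ℕ) [SzField F m] :
    Lie.star4 (!![0, 0, 0, 1; 0, 0, 1, 0; 0, 1, 0, 0; 1, 0, 0, 0] : Matrix (Fin 4) (Fin 4) F) =
      (!![0, 0, 0, 1; 0, 0, 1, 0; 0, 1, 0, 0; 1, 0, 0, 0] : Matrix (Fin 4) (Fin 4) F).map (th m) := by
  have h2 := neg_eq (F := F) m
  ext i j
  fin_cases i <;> fin_cases j <;> simp [Lie.star4, Lie.pairOf, h2]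

variable [Fintype F] (m : ℕ) [SzField F m]

include m in
/-- The map `g ↦ π(g v ∧ g u)` is `g*` on isotropic pairs. -/
theorem plucker_mulVec {g : Matrix (Fin 4) (Fin 4) F}
    (h : g * suzukiForm F * g.transpose = suzukiForm F) {v u : Fin 4 → F}
    (hvu : Lie.altForm4 v u = 0) :
    plucker (g *ᵥ v) (g *ᵥ u) = Lie.star4 g *ᵥ plucker v u := by
  have hJ : ∀ k l, (g * suzukiForm F * g.transpose) k l = suzukiForm F k l := fun k l => by rw [h]
  have a01 := hJ 0 1
  have a02 := hJ 0 2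
  have a13 := hJ 1 3
  have a23 := hJ 2 3
  simp only [Matrix.mul_apply, Matrix.transpose_apply, Fin.sum_univ_four, suzukiForm] at a01 a02 a13 a23
  simp at a01 a02 a13 a23
  have hn : ∀ x : F, -x = x := neg_eq m
  have h2 := two_eq_zero (F := F) m
  simp [Lie.altForm4] at hvu
  funext p
  fin_cases p <;>
    simp [plucker, Lie.star4, Lie.pairOf, Matrix.mulVec, dotProduct, Fin.sum_univ_four, sub_eq m]
  · linear_combination (norm := char_two_ring (m)) (g 0 2 * g 1 1 + g 0 1 * g 1 2) * hvu +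
      (v 0 * u 3 + v 3 * u 0) * a01
  · linear_combination (norm := char_two_ring (m)) (g 0 2 * g 2 1 + g 0 1 * g 2 2) * hvu +
      (v 0 * u 3 + v 3 * u 0) * a02
  · linear_combination (norm := char_two_ring (m)) (g 1 2 * g 3 1 + g 1 1 * g 3 2) * hvu +
      (v 0 * u 3 + v 3 * u 0) * a13
  · linear_combination (norm := char_two_ring (m)) (g 2 2 * g 3 1 + g 2 1 * g 3 2) * hvu +
      (v 0 * u 3 + v 3 * u 0) * a23

theorem plucker_smul_left (c : F) (v u : Fin 4 → F) : plucker (c • v) u = c • plucker v u := by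
  funext p
  simp [plucker]
  ring

/-- `v` spans an absolute point of the polarity attached to θ. -/
def IsAbsolute (v : Fin 4 → F) : Prop :=
  v ≠ 0 ∧ ∃ u : Fin 4 → F, Lie.altForm4 v u = 0 ∧ plucker v u = fun i => th m (v i)

theorem isAbsolute_ovoid {v : Fin 4 → F} (hv : IsAbsolute m v) :
    Projectivization.mk F v hv.1 ∈ suzukiOvoid F m := by
  obtain ⟨hv0, u, hB, hP⟩ := hv
  have e0 := congrFun hP 0
  have e1 := congrFun hP 1
  have e2 := congrFun hP 2
  have e3 := congrFun hP 3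
  simp [plucker, Lie.pairOf] at e0 e1 e2 e3
  simp [Lie.altForm4] at hB
  rw [mem_ovoid]
  by_cases h3 : v 3 = 0
  · left
    rw [h3] at e2 e3 hB
    simp at e2 e3 hB
    have hv2 : v 2 = 0 := by
      rcases e3 with h | h
      · exact h
      · rw [h, mul_zero] at e2
        exact (th_eq_zero m).mp e2.symm
    have hv1 : v 1 = 0 := by
      by_contra hne
      have hu3 : u 3 = 0 := by
        rw [hv2, th_zero] at e2
        exact (mul_eq_zero.mp e2).resolve_left hne
      rw [hv2, hu3] at hB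
      simp at hB
      have hu2 := hB.resolve_left hne
      rw [hu2, hv2] at e1
      simp at e1
      exact hne ((th_eq_zero m).mp e1.symm)
    rw [pInf, suzukiPointInfinity, Projectivization.mk_eq_mk_iff']
    refine ⟨v 0, ?_⟩
    funext i
    fin_cases i <;> simp [hv1, hv2, h3]
  · right
    refine ⟨v 2 / v 3, v 1 / v 3, ?_⟩
    rw [pt, Projectivization.mk_eq_mk_iff']
    refine ⟨v 3, ?_⟩
    funext i
    fin_cases i
    · show v 3 * ovf m (v 2 / v 3) (v 1 / v 3) = v 0
      have ht : th m (v 3) ≠ 0 := by simpa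
      have key : v 0 * v 3 * th m (v 3) = v 2 * v 1 * th m (v 3) + v 2 ^ 2 * th m (v 2) +
          v 3 ^ 2 * th m (v 1) := by
        linear_combination (norm := char_two_ring (m)) (v 0 * v 3 + v 2 * v 1) * e3 + v 3 ^ 2 * e1 +
          v 2 ^ 2 * e2 + v 2 * v 3 * hB
      simp only [ovf, div_eq_mul_inv, th_mul, th_inv]
      field_simp
      linear_combination -key
    · show v 3 * (v 1 / v 3) = v 1
      field_simp
    · show v 3 * (v 2 / v 3) = v 2
      field_simp
    · show v 3 * 1 = v 3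
      rw [mul_one]

theorem ovoid_isAbsolute {v : Fin 4 → F}
    (hv : v = ![1, 0, 0, 0] ∨ ∃ x y : F, v = ![ovf m x y, y, x, 1]) : IsAbsolute m v := by
  rcases hv with rfl | ⟨x, y, rfl⟩
  · refine ⟨fun h => by simpa using congrFun h 0, ![0, 1, 0, 0], by simp [Lie.altForm4], ?_⟩
    funext p
    fin_cases p <;> simp [plucker, Lie.pairOf]
  · refine ⟨fun h => by simpa using congrFun h 3, ![y + x * th m x, th m x, 1, 0], ?_, ?_⟩
    · simp [Lie.altForm4]
      char_two_ring (m)
    · funext p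
      fin_cases p <;> simp [plucker, Lie.pairOf, ovf, th_add, th_mul, th_pow, th_th, sub_eq m,
        neg_eq m]
      all_goals char_two_ring (m)

include m in
theorem det_eq_one_of_form {g : Matrix (Fin 4) (Fin 4) F}
    (h : g.transpose * suzukiForm F * g = suzukiForm F) : g.det = 1 := by
  have h1 := congrArg Matrix.det h
  rw [Matrix.det_mul, Matrix.det_mul, Matrix.det_transpose] at h1
  have hJ : (suzukiForm F).det = 1 := (wSL : Matrix.SpecialLinearGroup (Fin 4) F).2
  rw [hJ, mul_one] at h1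
  exact eq_one_of_sq m (by rw [sq]; exact h1)

theorem generator_mem {g : GL (Fin 4) F} (h1 : g ∈ Lie.Sp4 F)
    (h2 : Lie.star4 (g : Matrix (Fin 4) (Fin 4) F) =
      (g : Matrix (Fin 4) (Fin 4) F).map (fun x => x ^ 2 ^ (m + 1))) :
    g ∈ (Cfsg.Sz F m).map Matrix.SpecialLinearGroup.toGL := by
  have hform := mem_Sp4_iff.mp h1
  let g' : Matrix.SpecialLinearGroup (Fin 4) F :=
    ⟨(g : Matrix (Fin 4) (Fin 4) F), det_eq_one_of_form m hform⟩
  refine ⟨g', ?_, Units.ext rfl⟩
  refine (MulAction.mem_stabilizer_set_iff_smul_set_subset (a := g') (Set.toFinite _)).mpr ?_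
  rintro _ ⟨p, hp, rfl⟩
  have habs : ∃ (v : Fin 4 → F) (hv : IsAbsolute m v), p = Projectivization.mk F v hv.1 := by
    rcases mem_ovoid.mp hp with rfl | ⟨x, y, rfl⟩
    · exact ⟨_, ovoid_isAbsolute m (Or.inl rfl), rfl⟩
    · exact ⟨_, ovoid_isAbsolute m (Or.inr ⟨x, y, rfl⟩), rfl⟩
  obtain ⟨v, ⟨hv, u, hB, hP⟩, rfl⟩ := habs
  have hgv : IsAbsolute m ((g : Matrix (Fin 4) (Fin 4) F) *ᵥ v) := by
    refine ⟨?_, (g : Matrix (Fin 4) (Fin 4) F) *ᵥ u, ?_, ?_⟩
    · intro h
      apply hv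
      have h' := congrArg (fun x => ((g⁻¹ : GL (Fin 4) F) : Matrix (Fin 4) (Fin 4) F) *ᵥ x) h
      rw [Matrix.mulVec_mulVec, ← Units.val_mul, inv_mul_cancel, Units.val_one, Matrix.one_mulVec,
        Matrix.mulVec_zero] at h'
      exact h'
    · have := h1 v u
      rw [Units.coeHom_apply] at this
      rw [this, hB]
    · rw [plucker_mulVec m (form_right hform) hB, h2, hP]
      funext i
      show ((g : Matrix (Fin 4) (Fin 4) F).map (thHom m) *ᵥ (thHom m ∘ v)) i = thHom m _
      rw [← RingHom.map_mulVec]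
  exact isAbsolute_ovoid m hgv

theorem sz_map_toGL :
    (Cfsg.Sz F m).map Matrix.SpecialLinearGroup.toGL = Lie.Sz F (2 ^ (m + 1)) := by
  apply le_antisymm
  · rintro _ ⟨g, hg, rfl⟩
    have := mem_of_generators m
      (H := (Lie.Sz F (2 ^ (m + 1))).comap
        (Matrix.SpecialLinearGroup.toGL.comp (Cfsg.Sz F m).subtype))
      (fun a b => Subgroup.subset_closure ⟨mem_Sp4_iff.mpr (form_u m a b), star4_uMat m a b⟩)
      (fun s => Subgroup.subset_closure ⟨mem_Sp4_iff.mpr (form_t m s), star4_tMat m s⟩)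
      (Subgroup.subset_closure ⟨mem_Sp4_iff.mpr (preserves_form m (w m).2), star4_wMat m⟩)
      ⟨g, hg⟩
    exact this
  · exact (Subgroup.closure_le _).mpr fun g hg => generator_mem m hg.1 hg.2

/-- The two realisations of the Suzuki group are isomorphic. -/
noncomputable def lieEquiv : ↥(Cfsg.Sz F m) ≃* ↥(Lie.Sz F (2 ^ (m + 1))) :=
  ((Cfsg.Sz F m).equivMapOfInjective _ Matrix.SpecialLinearGroup.toGL_injective).trans
    (MulEquiv.subgroupCongr (sz_map_toGL m))

theorem card_lieSz : Nat.card ↥(Lie.Sz F (2 ^ (m + 1))) =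
    Nat.card F ^ 2 * (Nat.card F - 1) * (Nat.card F ^ 2 + 1) := by
  rw [← Nat.card_congr (lieEquiv m).toEquiv, card_Sz]

theorem isSimpleGroup_lieSz : IsSimpleGroup ↥(Lie.Sz F (2 ^ (m + 1))) := by
  have := isSimpleGroup (F := F) m
  exact MulEquiv.isSimpleGroup (lieEquiv m).symm

theorem isSuzuki_lieSz : IsSimpleGroup ↥(Lie.Sz F (2 ^ (m + 1))) ∧ ∃ k : ℕ, 1 ≤ k ∧
    Nat.card ↥(Lie.Sz F (2 ^ (m + 1))) =
      (2 ^ (2 * k + 1)) ^ 2 * ((2 ^ (2 * k + 1)) ^ 2 + 1) * (2 ^ (2 * k + 1) - 1) :=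
  ⟨isSimpleGroup_lieSz m, m, SzField.pos F, by rw [card_lieSz, card_nat (F := F) m]; ring⟩

end Cfsg.Agent.Suzuki
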