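import Cfsg.Agent.Suzuki.Structure

/-!
The normaliser of the unipotent subgroup, and transport of the permutation action to isomorphic groups.
-/

set_option autoImplicit false

open Cfsg MulAction
open scoped Pointwise

namespace Cfsg.Agent.Suzuki

variable {F : Type*} [Field F] [Fintype F] (m : ℕ) [SzField F m]

theorem eq_oInf_of_fixed_U {p : suzukiOvoid F m}
    (hp : ∀ g ∈ (U m : Subgroup (Cfsg.Sz F m)), g • p = p) : p = oInf m := by
  rcases ovoid_cases p with h | ⟨x, y, rfl⟩
  · exact h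
  · have := hp _ (u_mem_U m 1 0)
    rw [u_smul_oPt, oPt_inj] at this
    have h1 : (1 : F) = 0 := by linear_combination this.1
    exact absurd h1 one_ne_zero

theorem normalizer_U :
    Subgroup.normalizer ((U m : Subgroup (Cfsg.Sz F m)) : Set (Cfsg.Sz F m)) = B m := by
  refine le_antisymm (fun g hg => ?_) (B_le_normalizer_U m)
  refine eq_oInf_of_fixed_U m (fun v hv => ?_)
  have h : g⁻¹ * v * g ∈ U m := (Subgroup.mem_normalizer_iff''.mp hg v).mp hv
  have h' := U_le_B m h
  rw [mem_B, mul_smul, mul_smul, inv_smul_eq_iff] at h'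
  exact h'

theorem mk_B_eq_iff {g k : Cfsg.Sz F m} :
    (QuotientGroup.mk g : Cfsg.Sz F m ⧸ B (F := F) m) = QuotientGroup.mk k ↔
      g • oInf m = k • (oInf m : suzukiOvoid F m) := by
  rw [QuotientGroup.eq, mem_B, mul_smul, inv_smul_eq_iff, eq_comm]

/-- `U` is regular on the ovoid points other than infinity. -/
theorem U_regular {p q : suzukiOvoid F m} (hp : p ≠ oInf m) (hq : q ≠ oInf m) :
    ∃! g, g ∈ (U m : Subgroup (Cfsg.Sz F m)) ∧ g • p = q := by
  obtain ⟨x, y, rfl⟩ := (ovoid_cases p).resolve_left hp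
  obtain ⟨x', y', rfl⟩ := (ovoid_cases q).resolve_left hq
  refine ⟨u m (x' + x) (y' + y + th m (x' + x) * x), ⟨u_mem_U m _ _, ?_⟩, ?_⟩
  · rw [u_smul_oPt, oPt_inj]
    exact ⟨by linear_combination x * two_eq_zero (F := F) m,
      by linear_combination (y + th m (x' + x) * x) * two_eq_zero (F := F) m⟩
  · rintro g ⟨hg, h⟩
    obtain ⟨a, b, rfl⟩ := (mem_U m).mp hg
    rw [u_smul_oPt, oPt_inj] at h
    have ha : a = x' + x := by linear_combination h.1 - x * two_eq_zero (F := F) m
    subst ha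
    rw [u_inj]
    exact ⟨rfl, by linear_combination h.2 - (y + th m (x' + x) * x) * two_eq_zero (F := F) m⟩

section transport

variable {L : Type*} [Group L] (e : Cfsg.Sz F m ≃* L)

theorem normalizer_map_U :
    Subgroup.normalizer (((U m : Subgroup (Cfsg.Sz F m)).map e.toMonoidHom : Subgroup L) : Set L) =
      (B m : Subgroup (Cfsg.Sz F m)).map e.toMonoidHom := by
  rw [← normalizer_U, ← Subgroup.map_equiv_normalizer_eq]

theorem isMultiplyPretransitive_transport {H : Subgroup L}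
    (hH : H = (B m : Subgroup (Cfsg.Sz F m)).map e.toMonoidHom) :
    IsMultiplyPretransitive L (L ⧸ H) 2 := by
  subst hH
  have h2 := two_pretransitive (F := F) m
  rw [is_two_pretransitive_iff] at h2 ⊢
  have key : ∀ g k : L,
      (QuotientGroup.mk g : L ⧸ (B m : Subgroup (Cfsg.Sz F m)).map e.toMonoidHom) = QuotientGroup.mk k ↔
        e.symm g • oInf m = e.symm k • (oInf m : suzukiOvoid F m) := by
    intro g k
    rw [← mk_B_eq_iff, QuotientGroup.eq, QuotientGroup.eq, Subgroup.mem_map_equiv, map_mul, map_inv]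
  intro a b c d hab hcd
  obtain ⟨a, rfl⟩ := QuotientGroup.mk_surjective a
  obtain ⟨b, rfl⟩ := QuotientGroup.mk_surjective b
  obtain ⟨c, rfl⟩ := QuotientGroup.mk_surjective c
  obtain ⟨d, rfl⟩ := QuotientGroup.mk_surjective d
  obtain ⟨g, hg1, hg2⟩ := h2 (fun h => hab ((key _ _).mpr h)) (fun h => hcd ((key _ _).mpr h))
  refine ⟨e g, ?_, ?_⟩
  · show (QuotientGroup.mk (e g * a) : L ⧸ _) = _
    rw [key, map_mul, MulEquiv.symm_apply_apply, mul_smul, hg1]
  · show (QuotientGroup.mk (e g * b) : L ⧸ _) = _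
    rw [key, map_mul, MulEquiv.symm_apply_apply, mul_smul, hg2]

theorem regular_transport {H V : Subgroup L}
    (hH : H = (B m : Subgroup (Cfsg.Sz F m)).map e.toMonoidHom)
    (hV : V = (U m : Subgroup (Cfsg.Sz F m)).map e.toMonoidHom) (x y : L ⧸ H)
    (hx : x ≠ QuotientGroup.mk 1) (hy : y ≠ QuotientGroup.mk 1) :
    ∃! s : V, (s : L) • x = y := by
  subst hH hV
  have key : ∀ g k : L,
      (QuotientGroup.mk g : L ⧸ (B m : Subgroup (Cfsg.Sz F m)).map e.toMonoidHom) = QuotientGroup.mk k ↔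
        e.symm g • oInf m = e.symm k • (oInf m : suzukiOvoid F m) := by
    intro g k
    rw [← mk_B_eq_iff, QuotientGroup.eq, QuotientGroup.eq, Subgroup.mem_map_equiv, map_mul, map_inv]
  obtain ⟨x, rfl⟩ := QuotientGroup.mk_surjective x
  obtain ⟨y, rfl⟩ := QuotientGroup.mk_surjective y
  rw [ne_eq, key, map_one, one_smul] at hx hy
  obtain ⟨g, ⟨hg, hgxy⟩, huniq⟩ := U_regular m hx hy
  refine ⟨⟨e g, Subgroup.mem_map_of_mem _ hg⟩, ?_, ?_⟩
  · show (QuotientGroup.mk (e g * x) : L ⧸ _) = _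
    rw [key, map_mul, MulEquiv.symm_apply_apply, mul_smul, hgxy]
  · rintro ⟨s, hs⟩ h
    have h' : (QuotientGroup.mk (s * x) : L ⧸ _) = QuotientGroup.mk y := h
    rw [key, map_mul, mul_smul] at h'
    exact Subtype.ext ((MulEquiv.symm_apply_eq e).mp (huniq _ ⟨Subgroup.mem_map_equiv.mp hs, h'⟩))

end transport

end Cfsg.Agent.Suzuki
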