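import Cfsg.Agent.Suzuki.Fixed

/-!
Real 2-elements, maximality of the Borel subgroup, two generators, elementary abelian TI-subgroups.
-/

set_option autoImplicit false

open Cfsg MulAction
open scoped Pointwise

namespace Cfsg.Agent.Suzuki

variable {F : Type*} [Field F] [Fintype F] (m : ℕ) [SzField F m]

theorem real_in_U {g : Cfsg.Sz F m} (hg : g ∈ U m) (hg1 : g ≠ 1) (h : IsConj g g⁻¹) : g * g = 1 := by
  obtain ⟨j, hj⟩ := isConj_iff.mp h
  obtain ⟨a, b, rfl⟩ := (mem_U m).mp hg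
  have hjB : j ∈ B m := U_TI m hg hg1 (hj ▸ inv_mem hg)
  obtain ⟨c, d, s, rfl⟩ := exists_u_t_of_fix_oInf m hjB
  rw [show u m c d * t m s * u m a b * (u m c d * t m s)⁻¹ =
    u m c d * (t m s * u m a b * (t m s)⁻¹) * (u m c d)⁻¹ by group, t_u, u_conj, u_inv, u_inj] at hj
  obtain ⟨h1, h2⟩ := hj
  by_contra hne
  have ha : a ≠ 0 := by
    rintro rfl
    exact hne (by rw [u_sq]; simp)
  have hs : (s : F) = 1 := (th_eq_one m).mp (mul_right_cancel₀ ha (h1.trans (one_mul a).symm))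
  rw [hs] at h2
  simp only [th_one, one_pow, one_mul] at h2
  set z := c / a with hz
  have hca : c = z * a := (div_mul_cancel₀ c ha).symm
  rw [hca, th_mul] at h2
  have hne' : th m a * a ≠ 0 := mul_ne_zero (by simpa) ha
  have e1 : z + th m z = 1 := by
    refine mul_right_cancel₀ hne' ?_
    linear_combination h2
  have e2 : th m z + z ^ 2 = 1 := by
    have := congrArg (th m) e1
    rwa [th_add, th_th, th_one] at this
  have e3 : z * (z - 1) = 0 := by linear_combination e2 - e1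
  rcases mul_eq_zero.mp e3 with h | h
  · rw [h] at e1; simp at e1
  · rw [sub_eq_zero.mp h, th_one] at e1
    exact one_ne_zero (by linear_combination e1)

theorem eq_top_of_U_le {M : Subgroup (Cfsg.Sz F m)} (hU : U m ≤ M) (hne : ¬ M ≤ B m) : M = ⊤ := by
  obtain ⟨g₀, hg₀, hg₀B⟩ := SetLike.not_le_iff_exists.mp hne
  have htr : ∀ p : suzukiOvoid F m, ∃ n ∈ M, n • oInf m = p := by
    intro p
    by_cases hp : p = oInf m
    · exact ⟨1, one_mem _, by rw [one_smul, hp]⟩
    · obtain ⟨v, ⟨hv, hvp⟩, -⟩ := U_regular m (p := g₀ • oInf m) hg₀B hp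
      exact ⟨v * g₀, mul_mem (hU hv) hg₀, by rw [mul_smul, hvp]⟩
  have hcore : U m ≤ M.normalCore := by
    intro v hv g
    obtain ⟨n, hn, hnp⟩ := htr (g • oInf m)
    have hb : n⁻¹ * g ∈ B m := by rw [mem_B, mul_smul, inv_smul_eq_iff, hnp]
    have hin : n⁻¹ * g * v * (n⁻¹ * g)⁻¹ ∈ M :=
      hU (((Subgroup.mem_normalizer_iff.mp (B_le_normalizer_U m hb)) v).mp hv)
    have := mul_mem (mul_mem hn hin) (inv_mem hn)
    rwa [show n * (n⁻¹ * g * v * (n⁻¹ * g)⁻¹) * n⁻¹ = g * v * g⁻¹ by group] at this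
  have := isSimpleGroup (F := F) m
  rcases (Subgroup.normalCore_normal M).eq_bot_or_eq_top with h | h
  · exfalso
    have h1 := hcore (u_mem_U m (1 : F) 0)
    rw [h, Subgroup.mem_bot, u_eq_one] at h1
    simp at h1
  · exact top_le_iff.mp (h ▸ Subgroup.normalCore_le M)

theorem B_ne_top : (B m : Subgroup (Cfsg.Sz F m)) ≠ ⊤ := by
  intro h
  have h' := index_B (F := F) m
  rw [h, Subgroup.index_top] at h'
  have : 0 < Nat.card F := Nat.card_pos
  nlinarith

theorem isCoatom_B : IsCoatom (B m : Subgroup (Cfsg.Sz F m)) := by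
  refine ⟨B_ne_top m, fun M hM => ?_⟩
  exact eq_top_of_U_le m ((U_le_B m).trans hM.le) (not_le_of_gt hM)

theorem coatom_eq_B {M : Subgroup (Cfsg.Sz F m)} (hM : IsCoatom M) (hU : U m ≤ M) : M = B m := by
  have hle : M ≤ B m := by
    by_contra h
    exact hM.1 (eq_top_of_U_le m hU h)
  by_contra hne
  exact B_ne_top m (hM.2 _ (lt_of_le_of_ne hle hne))

theorem two_generated : ∃ a b : Cfsg.Sz F m, Subgroup.closure ({a, b} : Set (Cfsg.Sz F m)) = ⊤ := by
  obtain ⟨g, hg⟩ := IsCyclic.exists_generator (α := Fˣ)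
  refine ⟨t m g, u m 1 0 * w m, ?_⟩
  set H := Subgroup.closure ({t m g, u m 1 0 * w m} : Set (Cfsg.Sz F m)) with hH
  have ht : ∀ s, t m s ∈ H := by
    intro s
    obtain ⟨k, rfl⟩ := Subgroup.mem_zpowers_iff.mp (hg s)
    rw [map_zpow]
    exact zpow_mem (Subgroup.subset_closure (Set.mem_insert _ _)) k
  have hb : u m 1 0 * w m ∈ H := Subgroup.subset_closure (Set.mem_insert_of_mem _ rfl)
  obtain ⟨x, hx0, hx1⟩ := exists_ne_zero_one (F := F) m
  obtain ⟨a, d0, ha, ha'⟩ : ∃ a d, a ≠ 0 ∧ u m a d ∈ H := by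
    set r : Fˣ := Units.mk0 x hx0
    have h1 : (u m 1 0 * w m) * t m r⁻¹ * (u m 1 0 * w m)⁻¹ * (t m r)⁻¹ ∈ H :=
      mul_mem (mul_mem (mul_mem hb (ht _)) (inv_mem hb)) (inv_mem (ht r))
    rw [show (u m 1 0 * w m) * t m r⁻¹ * (u m 1 0 * w m)⁻¹ * (t m r)⁻¹ =
      u m 1 0 * (w m * t m r⁻¹ * (w m)⁻¹) * (u m 1 0)⁻¹ * (t m r)⁻¹ by group, w_t, inv_inv,
      mul_assoc (u m 1 0), mul_assoc, u_inv, t_u, u_mul] at h1
    exact ⟨_, _, fun h => hx1 ((th_eq_one m).mp (eq_of_add_eq_zero m h).symm), by simpa [r] using h1⟩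
  have hsurj : ∀ c : F, ∃ d : F, u m c d ∈ H := by
    intro c
    by_cases hc : c = 0
    · exact ⟨0, by rw [hc, u_zero]; exact one_mem _⟩
    · obtain ⟨s, hs⟩ := (th_bijective (F := F) m).2 (c / a)
      have hs0 : s ≠ 0 := by
        rintro rfl
        rw [th_zero] at hs
        exact (div_ne_zero hc ha) hs.symm
      have hmem := mul_mem (mul_mem (ht (Units.mk0 s hs0)) ha') (inv_mem (ht (Units.mk0 s hs0)))
      rw [t_u] at hmem
      refine ⟨s ^ 2 * th m s * d0, ?_⟩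
      rw [show c = th m s * a by rw [hs, div_mul_cancel₀ c ha]]
      exact hmem
  have hZ : ∀ z : F, u m 0 z ∈ H := by
    intro z
    obtain ⟨c, hc⟩ := (mul_th_bijective (F := F) m).2 z
    obtain ⟨d, hd⟩ := hsurj c
    have := mul_mem hd hd
    rw [u_sq] at this
    dsimp only at hc
    rwa [← hc, mul_comm]
  have hu : ∀ c d : F, u m c d ∈ H := by
    intro c d
    obtain ⟨d', hd'⟩ := hsurj c
    have := mul_mem (hZ (d + d')) hd'
    rw [u_mul] at this
    convert this using 2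
    · simp
    · simp only [th_zero, zero_mul, add_zero]
      linear_combination -d' * two_eq_zero (F := F) m
  refine eq_top_iff.mpr (fun y _ => mem_of_generators m hu ht ?_ y)
  have := mul_mem (inv_mem (hu 1 0)) hb
  rwa [inv_mul_cancel_left] at this

section TI

variable {m}

theorem mem_Z_of_sq {g : Cfsg.Sz F m} (hg : g ∈ U m) (h : g * g = 1) : ∃ b, g = u m 0 b := by
  obtain ⟨a, b, rfl⟩ := (mem_U m).mp hg
  rw [u_sq, u_eq_one] at h
  have ha : a = 0 := by simpa using h.2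
  exact ⟨b, by rw [ha]⟩

end TI

/-- An elementary abelian TI-subgroup of order `2^n` inside the centre of `U` gives `n ∣ 2m+1`. -/
theorem dvd_of_TI {n : ℕ} (hn : 1 ≤ n) {E : Subgroup (Cfsg.Sz F m)} (hEU : E ≤ U m)
    (hsq : ∀ g ∈ E, g * g = 1) (hcard : Nat.card E = 2 ^ n)
    (hTI : ∀ x : Cfsg.Sz F m, E ⊓ E.map (MulAut.conj x).toMonoidHom ≠ ⊥ →
      x ∈ Subgroup.normalizer (E : Set (Cfsg.Sz F m))) :
    n ∣ 2 * m + 1 := by
  classical
  let S : AddSubgroup F :=
    { carrier := {b | u m 0 b ∈ E}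
      add_mem' := fun {x y} hx hy => by
        have := mul_mem (show u m 0 x ∈ E from hx) (show u m 0 y ∈ E from hy)
        simpa [u_mul] using this
      zero_mem' := by simp
      neg_mem' := fun {x} hx => by simpa [neg_eq (F := F) m] using hx }
  have hScard : Nat.card S = 2 ^ n := by
    rw [← hcard]
    refine Nat.card_congr (Equiv.ofBijective (fun b : S => (⟨u m 0 b.1, b.2⟩ : E)) ⟨?_, ?_⟩)
    · intro b c h
      exact Subtype.ext ((u_inj m).mp (congrArg Subtype.val h)).2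
    · rintro ⟨g, hg⟩
      obtain ⟨b, rfl⟩ := mem_Z_of_sq (hEU hg) (hsq g hg)
      exact ⟨⟨b, hg⟩, rfl⟩
  have key : ∀ r : F, r ≠ 0 → (∃ e ∈ S, e ≠ 0 ∧ r * e ∈ S) → ∀ e ∈ S, r * e ∈ S := by
    intro r hr ⟨e, he, he0, hre⟩ e' he'
    obtain ⟨s, hs⟩ := (sq_mul_th_bijective (F := F) m).2 r
    dsimp only at hs
    have hs0 : s ≠ 0 := by
      rintro rfl
      simp at hs
      exact hr hs.symm
    have hconj : ∀ b, t m (Units.mk0 s hs0) * u m 0 b * (t m (Units.mk0 s hs0))⁻¹ = u m 0 (r * b) := by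
      intro b
      rw [t_u, Units.val_mk0, hs]
      simp
    have hN : t m (Units.mk0 s hs0) ∈ Subgroup.normalizer (E : Set (Cfsg.Sz F m)) := by
      refine hTI _ (fun h => ?_)
      have hmem : u m 0 (r * e) ∈ E ⊓ E.map (MulAut.conj (t m (Units.mk0 s hs0))).toMonoidHom :=
        ⟨hre, u m 0 e, he, hconj e⟩
      rw [h, Subgroup.mem_bot, u_eq_one] at hmem
      exact (mul_ne_zero hr he0) hmem.2
    have := (Subgroup.mem_normalizer_iff.mp hN _).mp he'
    rwa [hconj] at this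
  let K : Subfield F :=
    { carrier := {r | ∀ e ∈ S, r * e ∈ S}
      mul_mem' := fun {x y} hx hy e he => by rw [mul_assoc]; exact hx _ (hy e he)
      one_mem' := fun e he => by rwa [one_mul]
      add_mem' := fun {x y} hx hy e he => by rw [add_mul]; exact S.add_mem (hx e he) (hy e he)
      zero_mem' := fun e _ => by rw [zero_mul]; exact S.zero_mem
      neg_mem' := fun {x} hx e he => by rw [neg_mul]; exact S.neg_mem (hx e he)
      inv_mem' := fun x hx e he => by
        by_cases hx0 : x = 0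
        · subst hx0; rw [inv_zero, zero_mul]; exact S.zero_mem
        by_cases he0 : e = 0
        · subst he0; rw [mul_zero]; exact S.zero_mem
        exact key x⁻¹ (inv_ne_zero hx0) ⟨x * e, hx e he, mul_ne_zero hx0 he0, by
          rwa [inv_mul_cancel_left₀ hx0]⟩ e he }
  obtain ⟨e0, he0, he0'⟩ : ∃ e ∈ S, e ≠ 0 := by
    by_contra h
    push Not at h
    have : S = ⊥ := (AddSubgroup.eq_bot_iff_forall _).mpr h
    rw [this, AddSubgroup.card_bot] at hScard
    exact absurd hScard.symm (Nat.one_lt_two_pow (by omega)).ne'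
  have hK : Nat.card K = 2 ^ n := by
    rw [← hScard]
    refine Nat.card_congr (Equiv.ofBijective (fun r : K => (⟨r.1 * e0, r.2 e0 he0⟩ : S)) ⟨?_, ?_⟩)
    · intro a b h
      exact Subtype.ext (mul_right_cancel₀ he0' (congrArg Subtype.val h))
    · rintro ⟨e, he⟩
      refine ⟨⟨e / e0, fun f hf => ?_⟩, Subtype.ext (div_mul_cancel₀ e he0')⟩
      by_cases he1 : e = 0
      · simp [he1]
      · exact key _ (div_ne_zero he1 he0') ⟨e0, he0, he0', by rwa [div_mul_cancel₀ e he0']⟩ f hf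
  have hdim := Module.natCard_eq_pow_finrank (K := K) (V := F)
  rw [hK, card_nat m, ← pow_mul] at hdim
  exact ⟨_, Nat.pow_right_injective (le_refl 2) hdim⟩

theorem exists_TI {n : ℕ} (hn : 1 ≤ n) (h : n ∣ 2 * m + 1) :
    ∃ E : Subgroup (Cfsg.Sz F m), (IsMulCommutative E ∧ ∀ a ∈ E, a ^ 2 = 1) ∧ Nat.card E = 2 ^ n ∧
      ∀ x : Cfsg.Sz F m, E ⊓ E.map (MulAut.conj x).toMonoidHom ≠ ⊥ →
        x ∈ Subgroup.normalizer (E : Set (Cfsg.Sz F m)) := by
  classical
  have : CharP F 2 := charTwo m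
  have : Fact (Nat.Prime 2) := ⟨Nat.prime_two⟩
  let _ : Algebra (ZMod 2) F := ZMod.algebra F 2
  have hfr : Module.finrank (ZMod 2) F = 2 * m + 1 := by
    have h1 := Module.natCard_eq_pow_finrank (K := ZMod 2) (V := F)
    rw [card_nat m, Nat.card_zmod] at h1
    exact Nat.pow_right_injective (le_refl 2) h1.symm
  obtain ⟨φ⟩ := FiniteField.nonempty_algHom_of_finrank_dvd (F := ZMod 2) (K := GaloisField 2 n) (L := F)
    (by rw [GaloisField.finrank 2 (by omega), hfr]; exact h)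
  let E : Subgroup (Cfsg.Sz F m) :=
    { carrier := {g | ∃ r : GaloisField 2 n, g = u m 0 (φ r)}
      mul_mem' := by
        rintro _ _ ⟨r, rfl⟩ ⟨r', rfl⟩
        exact ⟨r + r', by simp [u_mul]⟩
      one_mem' := ⟨0, by simp⟩
      inv_mem' := by
        rintro _ ⟨r, rfl⟩
        exact ⟨r, by simp [u_inv]⟩ }
  refine ⟨E, ⟨⟨⟨?_⟩⟩, ?_⟩, ?_, ?_⟩
  · rintro ⟨_, r, rfl⟩ ⟨_, r', rfl⟩
    exact Subtype.ext (by simp [u_mul, add_comm])
  · rintro _ ⟨r, rfl⟩
    rw [pow_two, u_sq]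
    simp
  · rw [← GaloisField.card 2 n (by omega)]
    refine (Nat.card_congr (Equiv.ofBijective
      (fun r : GaloisField 2 n => (⟨u m 0 (φ r), r, rfl⟩ : E)) ⟨?_, ?_⟩)).symm
    · intro a b h
      exact φ.injective ((u_inj m).mp (congrArg Subtype.val h)).2
    · rintro ⟨_, r, rfl⟩
      exact ⟨r, rfl⟩
  · intro x hx
    obtain ⟨y, ⟨hy1, z, hz, hzy⟩, hy⟩ : ∃ y, y ∈ E ⊓ E.map (MulAut.conj x).toMonoidHom ∧ y ≠ 1 := by
      by_contra hne
      push Not at hne
      exact hx ((Subgroup.eq_bot_iff_forall _).mpr hne)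
    obtain ⟨r, rfl⟩ := hz
    obtain ⟨r', rfl⟩ := hy1
    have hr : r ≠ 0 := by
      rintro rfl
      rw [map_zero φ, u_zero, map_one] at hzy
      exact hy hzy.symm
    have hxB : x ∈ B m := by
      refine U_TI m (u_mem_U m 0 (φ r)) ?_ ((show x * u m 0 (φ r) * x⁻¹ = u m 0 (φ r') from hzy) ▸ u_mem_U m 0 (φ r'))
      rw [ne_eq, u_eq_one, not_and]
      exact fun _ => (map_ne_zero φ).mpr hr
    obtain ⟨c, d, s, rfl⟩ := exists_u_t_of_fix_oInf m hxB
    set k := (s : F) ^ 2 * th m (s : F) with hk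
    have hconj : ∀ b, (u m c d * t m s) * u m 0 b * (u m c d * t m s)⁻¹ = u m 0 (k * b) := by
      intro b
      rw [show u m c d * t m s * u m 0 b * (u m c d * t m s)⁻¹ =
        u m c d * (t m s * u m 0 b * (t m s)⁻¹) * (u m c d)⁻¹ by group, t_u, u_conj]
      simp [hk]
    have e := hzy
    simp only [MulEquiv.coe_toMonoidHom, MulAut.conj_apply, hconj, u_inj] at e
    have hkr : k = φ (r' / r) := by
      rw [map_div₀, eq_div_iff ((map_ne_zero φ).mpr hr), e.2]
    have hr'0 : r' ≠ 0 := by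
      rintro rfl
      exact hy (by simp)
    rw [Subgroup.mem_normalizer_iff]
    intro g
    constructor
    · rintro ⟨q, rfl⟩
      exact ⟨r' / r * q, by rw [hconj, hkr, map_mul]⟩
    · rintro ⟨q, hq⟩
      refine ⟨r / r' * q, ?_⟩
      have h1 := hconj (φ (r / r' * q))
      rw [show k * φ (r / r' * q) = φ q by
        rw [hkr, ← map_mul φ]; congr 1; field_simp] at h1
      rw [← hq] at h1
      exact mul_left_cancel (mul_right_cancel h1).symm

end Cfsg.Agent.Suzuki
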