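import Cfsg.Agent.Suzuki.Group

/-!
The Suzuki group is perfect and simple; structure of its Sylow 2-subgroups.
-/

set_option autoImplicit false

open Cfsg Matrix MulAction
open scoped Pointwise

namespace Cfsg.Agent.Suzuki

variable {F : Type*} [Field F] [Fintype F] (m : ℕ) [SzField F m]

open scoped commutatorElement

theorem t_u_commutator (s : Fˣ) (a b : F) :
    ⁅t m s, u m a b⁆ = u m (th m (s : F) * a) ((s : F) ^ 2 * th m (s : F) * b) * (u m a b)⁻¹ := by
  rw [commutatorElement_def, t_u]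

theorem U_le_commutator : (U m : Subgroup (Cfsg.Sz F m)) ≤ commutator (Cfsg.Sz F m) := by
  have hcom : ∀ x y : Cfsg.Sz F m, ⁅x, y⁆ ∈ commutator (Cfsg.Sz F m) := fun x y =>
    Subgroup.commutator_mem_commutator trivial trivial
  obtain ⟨x, hx0, hx1⟩ := exists_ne_zero_one (F := F) m
  -- central elements
  have hZ : ∀ b : F, u m 0 b ∈ commutator (Cfsg.Sz F m) := by
    intro b
    set s := Units.mk0 x hx0
    have hne : x ^ 2 * th m x + 1 ≠ 0 := fun h =>
      hx1 (eq_one_of_sq_mul_th m (eq_of_add_eq_zero m h))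
    have h := hcom (t m s) (u m 0 (b / (x ^ 2 * th m x + 1)))
    rw [t_u_commutator, u_inv, u_mul] at h
    convert h using 2
    · simp
    · simp only [th_zero, mul_zero, zero_mul, add_zero]
      simp only [s, Units.val_mk0]
      field_simp
  intro g hg
  obtain ⟨a, b, rfl⟩ := (mem_U m).mp hg
  set s := Units.mk0 x hx0
  have hne : th m x + 1 ≠ 0 := fun h => hx1 ((th_eq_one m).mp (eq_of_add_eq_zero m h))
  have h := hcom (t m s) (u m (a / (th m x + 1)) 0)
  rw [t_u_commutator, u_inv, u_mul] at h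
  have ha : th m (s : F) * (a / (th m x + 1)) + a / (th m x + 1) = a := by
    simp only [s, Units.val_mk0]
    field_simp
  rw [ha] at h
  set c := (s : F) ^ 2 * th m (s : F) * 0 + (0 + th m (a / (th m x + 1)) * (a / (th m x + 1))) +
    th m (th m (s : F) * (a / (th m x + 1))) * (a / (th m x + 1)) with hc
  have h2 := mul_mem (hZ (b + c)) h
  rw [u_mul] at h2
  convert h2 using 2
  · simp
  · simp only [th_zero, zero_mul, add_zero]
    rw [add_assoc, add_self m c, add_zero]

theorem normal_pretransitive {N : Subgroup (Cfsg.Sz F m)} [hN : N.Normal] (h : N ≠ ⊥) :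
    IsPretransitive N (suzukiOvoid F m) := by
  have := two_pretransitive (F := F) m
  have : IsPreprimitive (Cfsg.Sz F m) (suzukiOvoid F m) :=
    isPreprimitive_of_is_two_pretransitive this
  apply IsQuasiPreprimitive.isPretransitive_of_normal
  intro hfix
  apply h
  rw [Subgroup.eq_bot_iff_forall]
  intro g hg
  apply FaithfulSMul.eq_of_smul_eq_smul (α := suzukiOvoid F m)
  intro p
  rw [one_smul]
  have hp : p ∈ fixedPoints N (suzukiOvoid F m) := hfix ▸ Set.mem_univ p
  exact hp ⟨g, hg⟩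

theorem nontrivial_Sz : Nontrivial (Cfsg.Sz F m) :=
  ⟨⟨u m 1 0, 1, fun h => by simpa using (u_eq_one m).mp h⟩⟩

theorem commutator_eq_top : commutator (Cfsg.Sz F m) = ⊤ := by
  have hne : commutator (Cfsg.Sz F m) ≠ ⊥ := by
    intro h
    have := U_le_commutator m (u_mem_U m (1 : F) 0)
    rw [h, Subgroup.mem_bot, u_eq_one] at this
    simp at this
  have := normal_pretransitive m hne
  have hT : (T m : Subgroup (Cfsg.Sz F m)) ≤ commutator (Cfsg.Sz F m) := by
    intro g hg
    obtain ⟨s, rfl⟩ := (mem_T m).mp hg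
    obtain ⟨k, hk⟩ := (odd_card_units (F := F) m)
    have hsq : s = (s * s) ^ (k + 1) := by
      rw [← pow_two, ← pow_mul, show 2 * (k + 1) = Nat.card Fˣ + 1 by omega, pow_succ,
        pow_card_eq_one', one_mul]
    rw [hsq, map_pow]
    refine pow_mem ?_ _
    have h : t m (s * s) = ⁅t m s, w m⁆ := by
      rw [commutatorElement_def, w_inv]
      have hw := w_t m s⁻¹
      rw [inv_inv, w_inv] at hw
      rw [← map_inv, mul_assoc, mul_assoc, ← mul_assoc (w m), hw, map_mul]
    rw [h]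
    exact Subgroup.commutator_mem_commutator trivial trivial
  rw [eq_top_iff]
  intro g _
  obtain ⟨⟨n, hn⟩, hgn⟩ := exists_smul_eq (commutator (Cfsg.Sz F m)) (g • oInf m)
    (oInf m : suzukiOvoid F m)
  have hgn' : (n * g) • oInf m = (oInf m : suzukiOvoid F m) := by rw [mul_smul]; exact hgn
  obtain ⟨a, b, s, hs⟩ := exists_u_t_of_fix_oInf m hgn'
  have : n * g ∈ commutator (Cfsg.Sz F m) := by
    rw [hs]
    exact mul_mem (U_le_commutator m (u_mem_U m a b)) (hT (t_mem_T m s))
  exact (Subgroup.mul_mem_cancel_left _ hn).mp this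

theorem isSolvable_B : Group.IsSolvable (B m : Subgroup (Cfsg.Sz F m)) := by
  -- the map to the multiplicative group given by the torus component has solvable kernel
  set H := (B m : Subgroup (Cfsg.Sz F m))
  refine ⟨⟨3, ?_⟩⟩
  have h1 : ∀ x y : H, ((⁅x, y⁆ : H) : Cfsg.Sz F m) ∈ (U m : Subgroup (Cfsg.Sz F m)) := by
    rintro ⟨x, hx⟩ ⟨y, hy⟩
    have hn : ∀ g ∈ H, ∀ v ∈ (U m : Subgroup (Cfsg.Sz F m)), g * v * g⁻¹ ∈ U m := fun g hg v hv =>
      ((Subgroup.mem_normalizer_iff.mp (B_le_normalizer_U m hg)) v).mp hv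
    obtain ⟨a, b, s, rfl⟩ := exists_u_t_of_fix_oInf m hx
    obtain ⟨c, d, s', rfl⟩ := exists_u_t_of_fix_oInf m hy
    show ⁅u m a b * t m s, u m c d * t m s'⁆ ∈ U m
    have hts : t m s * t m s' = t m s' * t m s := by rw [← map_mul, ← map_mul, mul_comm]
    have e : ⁅u m a b * t m s, u m c d * t m s'⁆ =
        u m a b * (t m s * u m c d * (t m s)⁻¹) * (t m s' * (u m a b)⁻¹ * (t m s')⁻¹) *
          (u m c d)⁻¹ := by
      rw [commutatorElement_def]
      calc u m a b * t m s * (u m c d * t m s') * (u m a b * t m s)⁻¹ * (u m c d * t m s')⁻¹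
          = u m a b * (t m s * u m c d * (t m s)⁻¹) * (t m s * t m s') * (t m s)⁻¹ * (u m a b)⁻¹ *
              (t m s')⁻¹ * (u m c d)⁻¹ := by group
        _ = u m a b * (t m s * u m c d * (t m s)⁻¹) * (t m s' * t m s) * (t m s)⁻¹ * (u m a b)⁻¹ *
              (t m s')⁻¹ * (u m c d)⁻¹ := by rw [hts]
        _ = _ := by group
    rw [e]
    exact mul_mem (mul_mem (mul_mem (u_mem_U m a b)
      (hn _ (T_le_B m (t_mem_T m s)) _ (u_mem_U m c d)))
      (hn _ (T_le_B m (t_mem_T m s')) _ (inv_mem (u_mem_U m a b)))) (inv_mem (u_mem_U m c d))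
  have h2 : ∀ x ∈ derivedSeries H 1, (x : Cfsg.Sz F m) ∈ (U m : Subgroup (Cfsg.Sz F m)) := by
    intro x hx
    rw [derivedSeries_one] at hx
    rw [commutator_eq_closure] at hx
    induction hx using Subgroup.closure_induction with
    | mem z hz => obtain ⟨p, q, rfl⟩ := hz; exact h1 p q
    | one => exact one_mem _
    | mul p q _ _ hp hq => exact mul_mem hp hq
    | inv p _ hp => exact inv_mem hp
  have h3 : ∀ x ∈ derivedSeries H 2, ∃ b : F, (x : Cfsg.Sz F m) = u m 0 b := by
    intro x hx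
    rw [derivedSeries_succ, Subgroup.commutator_def] at hx
    induction hx using Subgroup.closure_induction with
    | mem z hz =>
      obtain ⟨p, hp, q, hq, rfl⟩ := hz
      obtain ⟨a, b, hab⟩ := (mem_U m).mp (h2 p hp)
      obtain ⟨c, d, hcd⟩ := (mem_U m).mp (h2 q hq)
      simp only [commutatorElement_def, Subgroup.coe_mul, Subgroup.coe_inv, hab, hcd, u_inv, u_mul]
      refine ⟨_, (u_inj m).mpr ⟨?_, rfl⟩⟩
      linear_combination (a + c) * two_eq_zero (F := F) m
    | one => exact ⟨0, by simp⟩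
    | mul p q _ _ hp hq =>
      obtain ⟨b, hb⟩ := hp
      obtain ⟨d, hd⟩ := hq
      exact ⟨b + d, by simp [hb, hd, u_mul]⟩
    | inv p _ hp =>
      obtain ⟨b, hb⟩ := hp
      exact ⟨b, by simp [hb, u_inv]⟩
  rw [eq_bot_iff, derivedSeries_succ, Subgroup.commutator_le]
  intro p hp q hq
  obtain ⟨b, hb⟩ := h3 p hp
  obtain ⟨d, hd⟩ := h3 q hq
  rw [Subgroup.mem_bot, commutatorElement_eq_one_iff_mul_comm]
  apply Subtype.ext
  simp [hb, hd, u_mul, add_comm]

theorem isSimpleGroup : IsSimpleGroup (Cfsg.Sz F m) := by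
  have := nontrivial_Sz (F := F) m
  refine ⟨fun N hN => ?_⟩
  by_cases hbot : N = ⊥
  · exact Or.inl hbot
  refine Or.inr ?_
  have := normal_pretransitive m hbot
  let f : (B m : Subgroup (Cfsg.Sz F m)) →* Cfsg.Sz F m ⧸ N :=
    (QuotientGroup.mk' N).comp (B m : Subgroup (Cfsg.Sz F m)).subtype
  have hf : Function.Surjective f := by
    intro x
    obtain ⟨g, rfl⟩ := QuotientGroup.mk_surjective x
    obtain ⟨⟨n, hn⟩, hgn⟩ := exists_smul_eq N (g • oInf m) (oInf m : suzukiOvoid F m)
    refine ⟨⟨n * g, by rw [mem_stabilizer_iff, mul_smul]; exact hgn⟩, ?_⟩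
    simp [f, (QuotientGroup.eq_one_iff n).mpr hn]
  have hB := isSolvable_B (F := F) m
  have hsol : Group.IsSolvable (Cfsg.Sz F m ⧸ N) := solvable_of_surjective hf
  by_contra htop
  have : Nontrivial (Cfsg.Sz F m ⧸ N) := QuotientGroup.nontrivial_iff.mpr htop
  apply (Group.IsSolvable.commutator_lt_top_of_nontrivial (Cfsg.Sz F m ⧸ N)).ne
  rw [commutator_def, ← Subgroup.map_top_of_surjective (QuotientGroup.mk' N)
    (QuotientGroup.mk'_surjective N), ← Subgroup.map_commutator, ← commutator_def, commutator_eq_top]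

theorem isZassenhaus : Cfsg.IsZassenhausGroup (Cfsg.Sz F m) (suzukiOvoid F m) := by
  refine ⟨faithful m, two_pretransitive m, fun g a b c h1 h2 h3 => eq_one_of_three_fixed m h1 h2 h3,
    ?_, ?_⟩
  · obtain ⟨x, hx0, hx1⟩ := exists_ne_zero_one (F := F) m
    refine ⟨t m (Units.mk0 x hx0), fun h => ?_, oInf m, oPt m 0 0, (oPt_ne_oInf m _ _).symm,
      t_smul_oInf m _, by simp [t_smul_oPt]⟩
    exact hx1 (congrArg Units.val (t_injective m (h.trans (map_one (t m)).symm)))
  · intro N hN hNt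
    refine ⟨oInf m, fun h => ?_⟩
    have := isSimpleGroup (F := F) m
    rcases hN.eq_bot_or_eq_top with rfl | rfl
    · obtain ⟨⟨n, hn⟩, h'⟩ := exists_smul_eq (⊥ : Subgroup (Cfsg.Sz F m)) (oPt m (0 : F) 0) (oInf m)
      rw [Subgroup.mem_bot] at hn
      subst hn
      exact oPt_ne_oInf m _ _ (by simpa using h')
    · have hmem : (⟨u m 1 0, trivial⟩ : (⊤ : Subgroup (Cfsg.Sz F m))) ∈
          stabilizer (⊤ : Subgroup (Cfsg.Sz F m)) (oInf m : suzukiOvoid F m) := u_smul_oInf m 1 0
      rw [h, Subgroup.mem_bot] at hmem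
      simpa using (u_eq_one m).mp (congrArg Subtype.val hmem)

theorem isPGroup_U : IsPGroup 2 (U m : Subgroup (Cfsg.Sz F m)) :=
  IsPGroup.of_card (n := 2 * (2 * m + 1)) (by rw [card_U, card_nat m]; ring)

include m in
theorem odd_compl : ¬ 2 ∣ (Nat.card F - 1) * (Nat.card F ^ 2 + 1) := by
  intro h
  have h2 : 2 ∣ Nat.card F := by rw [card_nat m]; exact dvd_pow_self 2 (by omega)
  have h1 : 1 ≤ Nat.card F := Nat.card_pos
  rcases Nat.prime_two.dvd_mul.mp h with h | h
  · omega
  · have := (Nat.dvd_add_right (dvd_pow h2 two_ne_zero)).mp h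
    omega

/-- `U` as a Sylow 2-subgroup. -/
noncomputable def sylowU : Sylow 2 (Cfsg.Sz F m) :=
  (isPGroup_U m).toSylow (by
    have h := (U m : Subgroup (Cfsg.Sz F m)).card_mul_index
    rw [card_U, card_Sz, mul_assoc] at h
    rw [Nat.eq_of_mul_eq_mul_left (by have : 0 < Nat.card F := Nat.card_pos; positivity) h]
    exact odd_compl m)

theorem coe_sylowU : ((sylowU m : Sylow 2 (Cfsg.Sz F m)) : Subgroup (Cfsg.Sz F m)) = U m :=
  rfl

theorem exists_conj_U (P : Sylow 2 (Cfsg.Sz F m)) :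
    ∃ g : Cfsg.Sz F m, (P : Subgroup (Cfsg.Sz F m)) = (U m).map (MulAut.conj g).toMonoidHom := by
  obtain ⟨g, hg⟩ := exists_smul_eq (Cfsg.Sz F m) (sylowU m) P
  refine ⟨g, ?_⟩
  rw [← hg, ← coe_sylowU]
  rfl

theorem u_sq (a b : F) : u m a b * u m a b = u m 0 (th m a * a) := by
  rw [u_mul, add_self m a, add_self m b, zero_add]

theorem u_conj (a b c d : F) :
    u m a b * u m c d * (u m a b)⁻¹ = u m c (d + (th m a * c + th m c * a)) := by
  rw [u_inv, u_mul, u_mul, u_inj]
  refine ⟨by linear_combination a * two_eq_zero (F := F) m, ?_⟩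
  rw [th_add]
  linear_combination (b + th m a * a) * two_eq_zero (F := F) m

theorem u_commutator (a b c d : F) : ⁅u m a b, u m c d⁆ = u m 0 (th m a * c + th m c * a) := by
  rw [commutatorElement_def, u_conj, u_inv, u_mul, u_inj]
  refine ⟨add_self m c, ?_⟩
  linear_combination (d + th m c * c) * two_eq_zero (F := F) m

end Cfsg.Agent.Suzuki
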