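import Cfsg.Agent.Suzuki.Partition

/-!
The partition of the Suzuki group into Sylow 2-subgroups and cyclic subgroups; real elements of odd order.
-/

set_option autoImplicit false

open Cfsg MulAction
open scoped Pointwise

namespace Cfsg.Agent.Suzuki

variable {F : Type*} [Field F] [Fintype F] (m : ℕ) [SzField F m]

theorem aPlus_dvd_Q : aPlus m ∣ Nat.card F ^ 2 + 1 := by
  obtain ⟨g, hg, hc⟩ := (torus_classes (F := F) m).2.1
  exact hc ▸ card_centralizer_dvd m hg

theorem aMinus_dvd_Q : aMinus m ∣ Nat.card F ^ 2 + 1 := by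
  obtain ⟨g, hg, hc⟩ := (torus_classes (F := F) m).2.2
  exact hc ▸ card_centralizer_dvd m hg

/-- A part of the partition: a Sylow 2-subgroup or one of the three kinds of cyclic subgroups. -/
def IsPart (V : Subgroup (Cfsg.Sz F m)) : Prop :=
  (∃ P : Sylow 2 (Cfsg.Sz F m), V = (P : Subgroup (Cfsg.Sz F m))) ∨
    (IsCyclic V ∧ (Nat.card V = 2 ^ (2 * m + 1) - 1 ∨ Nat.card V = aPlus m ∨ Nat.card V = aMinus m))

theorem cyclic_part_eq_centralizer {V : Subgroup (Cfsg.Sz F m)} (hV : IsCyclic V)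
    (hn : Nat.card V = 2 ^ (2 * m + 1) - 1 ∨ Nat.card V = aPlus m ∨ Nat.card V = aMinus m)
    {g : Cfsg.Sz F m} (hg : g ∈ V) (hg1 : g ≠ 1) : V = Subgroup.centralizer {g} := by
  rcases hn with hn | hn
  · obtain ⟨x, hx⟩ := IsCyclic.exists_ofOrder_eq_natCard (α := V)
    have hx1 : (x : Cfsg.Sz F m) ≠ 1 := by
      intro h
      have h1 : orderOf x = 1 := by rw [← Subgroup.orderOf_coe, h, orderOf_one]
      rw [hx] at h1
      have := Subgroup.eq_bot_of_card_eq _ h1
      rw [this, Subgroup.mem_bot] at hg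
      exact hg1 hg
    have hxo : orderOf (x : Cfsg.Sz F m) = Nat.card F - 1 := by
      rw [Subgroup.orderOf_coe, hx, hn, card_nat (F := F) m]
    obtain ⟨c1, c2, c3⟩ := coprime_parts (F := F) m
    have hnf : ¬ FixFree m (x : Cfsg.Sz F m) := by
      intro hf
      refine hx1 (orderOf_eq_one_iff.mp ?_)
      exact Nat.eq_one_of_dvd_coprimes c3 hxo.dvd (orderOf_dvd_of_fixFree m hf)
    rcases exists_conj_U_or_T m hnf with ⟨k, hk⟩ | ⟨k, hk⟩
    · exfalso
      refine hx1 (orderOf_eq_one_iff.mp ?_)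
      have h1 : orderOf (k * x * k⁻¹) ∣ Nat.card F ^ 2 := card_U (F := F) m ▸ Subgroup.orderOf_dvd_natCard _ hk
      rw [← MulAut.conj_apply, MulEquiv.orderOf_eq] at h1
      exact Nat.eq_one_of_dvd_coprimes (c1.pow_left 2) h1 hxo.dvd
    · have hle : V.map (MulAut.conj k).toMonoidHom ≤ T m := by
        rintro _ ⟨v, hv, rfl⟩
        have hkc := centralizer_T_eq m hk (by rwa [ne_eq, conj_eq_one_iff])
        rw [← hkc, ← map_conj_centralizer]
        refine Subgroup.mem_map_of_mem _ ?_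
        rw [Subgroup.mem_centralizer_singleton_iff]
        let _ := IsCyclic.commGroup (α := V)
        exact congrArg Subtype.val (mul_comm (⟨v, hv⟩ : V) x)
      have heq : V.map (MulAut.conj k).toMonoidHom = T m := by
        refine Subgroup.eq_of_le_of_card_ge hle (le_of_eq ?_)
        rw [← Nat.card_congr (V.equivMapOfInjective _ (MulAut.conj k).injective).toEquiv, card_T, hn,
          card_nat (F := F) m]
      refine Subgroup.map_injective (f := (MulAut.conj k).toMonoidHom) (MulAut.conj k).injective ?_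
      rw [map_conj_centralizer, heq, centralizer_T_eq m ?_ (by rwa [ne_eq, conj_eq_one_iff])]
      exact heq ▸ Subgroup.mem_map_of_mem _ hg
  · obtain ⟨x, hx, rfl⟩ := isCyclic_card_eq m hV hn
    exact (centralizer_eq_of_mem m hx hg hg1).symm

theorem cyclic_part_orderOf {V : Subgroup (Cfsg.Sz F m)}
    (hn : Nat.card V = 2 ^ (2 * m + 1) - 1 ∨ Nat.card V = aPlus m ∨ Nat.card V = aMinus m)
    {g : Cfsg.Sz F m} (hg : g ∈ V) :
    orderOf g ∣ (Nat.card F - 1) * (Nat.card F ^ 2 + 1) := by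
  refine (Subgroup.orderOf_dvd_natCard _ hg).trans ?_
  rcases hn with h | h | h <;> rw [h]
  · rw [card_nat (F := F) m]; exact dvd_mul_right _ _
  · exact (aPlus_dvd_Q (F := F) m).trans (dvd_mul_left _ _)
  · exact (aMinus_dvd_Q (F := F) m).trans (dvd_mul_left _ _)

theorem part_unique {V W : Subgroup (Cfsg.Sz F m)} (hV : IsPart m V) (hW : IsPart m W)
    {g : Cfsg.Sz F m} (hgV : g ∈ V) (hgW : g ∈ W) (hg1 : g ≠ 1) : V = W := by
  have hmix : ∀ (P : Sylow 2 (Cfsg.Sz F m)) (W : Subgroup (Cfsg.Sz F m)),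
      (Nat.card W = 2 ^ (2 * m + 1) - 1 ∨ Nat.card W = aPlus m ∨ Nat.card W = aMinus m) →
      g ∈ (P : Subgroup (Cfsg.Sz F m)) → g ∈ W → False := by
    intro P W hn hgP hgW
    obtain ⟨j, hj⟩ := IsPGroup.iff_orderOf.mp P.2 ⟨g, hgP⟩
    rw [Subgroup.orderOf_mk] at hj
    have h2 : Nat.Coprime (orderOf g) ((Nat.card F - 1) * (Nat.card F ^ 2 + 1)) := by
      rw [hj]
      exact ((Nat.prime_two.coprime_iff_not_dvd).mpr (odd_compl m)).pow_left j
    exact hg1 (orderOf_eq_one_iff.mp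
      (Nat.eq_one_of_dvd_coprimes h2 dvd_rfl (cyclic_part_orderOf m hn hgW)))
  rcases hV with ⟨P, rfl⟩ | ⟨hVc, hVn⟩ <;> rcases hW with ⟨Q, rfl⟩ | ⟨hWc, hWn⟩
  · obtain ⟨k, hk⟩ := exists_conj_U m P
    obtain ⟨l, hl⟩ := exists_conj_U m Q
    rw [hk] at hgV
    rw [hl] at hgW
    obtain ⟨a, ha, rfl⟩ := hgV
    obtain ⟨b, hb, hab⟩ := hgW
    simp only [MulEquiv.coe_toMonoidHom, MulAut.conj_apply] at hab hg1
    have hB : l⁻¹ * k ∈ B m := by
      refine U_TI m ha (fun h => hg1 (by rw [h]; group)) ?_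
      have e : l⁻¹ * k * a * (l⁻¹ * k)⁻¹ = b := by
        rw [show l⁻¹ * k * a * (l⁻¹ * k)⁻¹ = l⁻¹ * (k * a * k⁻¹) * l by group, ← hab]
        group
      rw [e]; exact hb
    rw [← normalizer_U] at hB
    rw [hk, hl, show k = l * (l⁻¹ * k) by group, map_mul]
    ext x
    simp only [Subgroup.mem_map_equiv]
    rw [show (MulAut.conj l * MulAut.conj (l⁻¹ * k)).symm x =
      (MulAut.conj (l⁻¹ * k)).symm ((MulAut.conj l).symm x) from rfl, MulAut.conj_symm_apply]
    have := Subgroup.mem_normalizer_iff''.mp hB ((MulAut.conj l).symm x)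
    exact this.symm
  · exact (hmix P W hWn hgV hgW).elim
  · exact (hmix Q V hVn hgW hgV).elim
  · rw [cyclic_part_eq_centralizer m hVc hVn hgV hg1, cyclic_part_eq_centralizer m hWc hWn hgW hg1]

theorem isPart_T : IsPart m (T m : Subgroup (Cfsg.Sz F m)) :=
  Or.inr ⟨isCyclic_of_surjective (MonoidHom.ofInjective (t_injective (F := F) m)).toMonoidHom
    (MonoidHom.ofInjective (t_injective (F := F) m)).surjective,
    Or.inl (by rw [card_T, card_nat (F := F) m])⟩

theorem isPart_conj {V : Subgroup (Cfsg.Sz F m)} (k : Cfsg.Sz F m) (hV : IsPart m V) :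
    IsPart m (V.map (MulAut.conj k).toMonoidHom) := by
  rcases hV with ⟨P, rfl⟩ | ⟨hc, hn⟩
  · exact Or.inl ⟨P.mapSurjective (f := (MulAut.conj k).toMonoidHom) (MulAut.conj k).surjective, rfl⟩
  · refine Or.inr ⟨isCyclic_of_surjective (V.equivMapOfInjective _ (MulAut.conj k).injective).toMonoidHom
      (V.equivMapOfInjective _ (MulAut.conj k).injective).surjective, ?_⟩
    rwa [← Nat.card_congr (V.equivMapOfInjective _ (MulAut.conj k).injective).toEquiv]

theorem exists_part {g : Cfsg.Sz F m} : ∃ V, IsPart m V ∧ g ∈ V := by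
  by_cases hf : FixFree m g
  · exact ⟨_, Or.inr ⟨centralizer_cyclic m hf, Or.inr (card_centralizer_fixFree m hf)⟩,
      Subgroup.mem_centralizer_singleton_iff.mpr rfl⟩
  · rcases exists_conj_U_or_T m hf with ⟨k, hk⟩ | ⟨k, hk⟩
    · refine ⟨_, isPart_conj m k⁻¹ (Or.inl ⟨sylowU m, rfl⟩), k * g * k⁻¹, hk, ?_⟩
      simp [MulAut.conj_apply, mul_assoc]
    · refine ⟨_, isPart_conj m k⁻¹ (isPart_T m), k * g * k⁻¹, hk, ?_⟩
      simp [MulAut.conj_apply, mul_assoc]

theorem partition {g : Cfsg.Sz F m} (hg : g ≠ 1) : ∃! V, IsPart m V ∧ g ∈ V := by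
  obtain ⟨V, hV, hgV⟩ := exists_part m (g := g)
  exact ⟨V, ⟨hV, hgV⟩, fun W ⟨hW, hgW⟩ => part_unique m hW hV hgW hgV hg⟩

/-- An element of odd order is inverted by an involution. -/
theorem exists_involution_inverting {g : Cfsg.Sz F m} (hg : Odd (orderOf g)) :
    ∃ j : Cfsg.Sz F m, orderOf j = 2 ∧ j * g * j⁻¹ = g⁻¹ := by
  have hw : orderOf (w m : Cfsg.Sz F m) = 2 := by
    rw [orderOf_eq_iff (by norm_num)]
    refine ⟨by rw [pow_two, w_mul_w], fun j hj hj0 => ?_⟩
    interval_cases j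
    intro h
    rw [pow_one] at h
    have h' := w_smul_oInf (F := F) m
    rw [h, one_smul] at h'
    exact oPt_ne_oInf m _ _ h'.symm
  by_cases hg1 : g = 1
  · exact ⟨w m, hw, by simp [hg1]⟩
  by_cases hf : FixFree m g
  · set A := Subgroup.centralizer {g} with hA
    set N := Subgroup.normalizer (A : Set (Cfsg.Sz F m))
    have hN : 2 ∣ Nat.card N := by rw [card_normalizer_fixFree m hf]; exact ⟨2 * Nat.card A, by ring⟩
    have := Fact.mk Nat.prime_two
    obtain ⟨j, hj⟩ := exists_prime_orderOf_dvd_card' 2 hN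
    have hj' : orderOf (j : Cfsg.Sz F m) = 2 := by rw [Subgroup.orderOf_coe, hj]
    refine ⟨j, hj', ?_⟩
    have hgA : g ∈ A := Subgroup.mem_centralizer_singleton_iff.mpr rfl
    have hjgA : (j : Cfsg.Sz F m) * g * (j : Cfsg.Sz F m)⁻¹ ∈ A :=
      (Subgroup.mem_normalizer_iff.mp j.2 g).mp hgA
    have hjj : (j : Cfsg.Sz F m) * j = 1 := by rw [← pow_two, ← hj']; exact pow_orderOf_eq_one _
    set y := g * ((j : Cfsg.Sz F m) * g * (j : Cfsg.Sz F m)⁻¹) with hy
    have hyA : y ∈ A := mul_mem hgA hjgA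
    have hyj : y ∈ Subgroup.centralizer {(j : Cfsg.Sz F m)} := by
      rw [Subgroup.mem_centralizer_singleton_iff, hy]
      have hji : (j : Cfsg.Sz F m)⁻¹ = j := inv_eq_of_mul_eq_one_right hjj
      have hc := centralizer_commute m hf hgA hjgA
      rw [hji] at hc ⊢
      calc g * ((j : Cfsg.Sz F m) * g * j) * j = g * (j * g) * (j * j) := by group
        _ = g * (j * g) * 1 := by rw [hjj]
        _ = (j * j) * (g * (j * g)) := by rw [hjj, one_mul, mul_one]
        _ = j * ((j : Cfsg.Sz F m) * g * j * g) := by group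
        _ = j * (g * (j * g * j)) := by rw [← hc]
    by_cases hy1 : y = 1
    · exact (inv_eq_of_mul_eq_one_right hy1).symm
    · exfalso
      have hje : (j : Cfsg.Sz F m) ∈ Subgroup.centralizer {y} := by
        rw [Subgroup.mem_centralizer_singleton_iff]
        exact (Subgroup.mem_centralizer_singleton_iff.mp hyj).symm
      rw [centralizer_eq_of_mem m hf hyA hy1] at hje
      have h2 := Subgroup.orderOf_dvd_natCard _ hje
      rw [hj'] at h2
      exact odd_Q (F := F) m (h2.trans (card_centralizer_dvd m hf))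
  · rcases exists_conj_U_or_T m hf with ⟨k, hk⟩ | ⟨k, hk⟩
    · exfalso
      have h1 : orderOf (k * g * k⁻¹) ∣ Nat.card F ^ 2 := card_U (F := F) m ▸ Subgroup.orderOf_dvd_natCard _ hk
      rw [← MulAut.conj_apply, MulEquiv.orderOf_eq, card_nat (F := F) m, ← pow_mul] at h1
      obtain ⟨i, -, hi⟩ := (Nat.dvd_prime_pow Nat.prime_two).mp h1
      rw [hi, Nat.odd_pow_iff] at hg
      · exact absurd hg (by decide)
      · intro h
        rw [h, pow_zero, orderOf_eq_one_iff] at hi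
        exact hg1 hi
    · obtain ⟨s, hs⟩ := (mem_T m).mp hk
      refine ⟨k⁻¹ * w m * k, ?_, ?_⟩
      · rw [show k⁻¹ * w m * k = MulAut.conj k⁻¹ (w m) by simp, MulEquiv.orderOf_eq, hw]
      · have hg' : g = k⁻¹ * t m s * k := by rw [← hs]; group
        rw [hg', show k⁻¹ * w m * k * (k⁻¹ * t m s * k) * (k⁻¹ * w m * k)⁻¹ =
          k⁻¹ * (w m * t m s * (w m)⁻¹) * k by group, w_t, map_inv]
        group

end Cfsg.Agent.Suzuki
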