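import Cfsg.Agent.Suzuki.TorusNormalizer

/-!
Solubilisers of the elements of the Suzuki group when `2m+1` is prime.
-/

set_option autoImplicit false

open Cfsg MulAction
open scoped Pointwise

namespace Cfsg.Agent.Suzuki

variable {F : Type*} [Field F] [Fintype F] (m : ℕ) [SzField F m]

/-- The elements generating a solvable subgroup with `x`. -/
def Sol {G : Type*} [Group G] (x : G) : Set G :=
  {y | Group.IsSolvable ↥(Subgroup.closure ({x, y} : Set G))}

theorem card_sol_equiv {G H : Type*} [Group G] [Group H] (f : G ≃* H) (x : G) :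
    Nat.card (Sol (f x)) = Nat.card (Sol x) := by
  refine (Nat.card_congr (f.toEquiv.subtypeEquiv fun y => ⟨?_, fun h => ?_⟩)).symm
  · intro hy
    show Group.IsSolvable ↥(Subgroup.closure ({f x, f y} : Set H))
    have hy' : Group.IsSolvable ↥(Subgroup.closure ({x, y} : Set G)) := hy
    have e : (Subgroup.closure ({x, y} : Set G)).map f.toMonoidHom = Subgroup.closure {f x, f y} := by
      rw [MonoidHom.map_closure, Set.image_pair]; rfl
    rw [← e]
    exact Group.isSolvable_of_surjective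
      (f := ((Subgroup.closure ({x, y} : Set G)).equivMapOfInjective f.toMonoidHom f.injective).toMonoidHom)
      ((Subgroup.closure ({x, y} : Set G)).equivMapOfInjective f.toMonoidHom f.injective).surjective
  · have hy' : Group.IsSolvable ↥(Subgroup.closure ({f x, f y} : Set H)) := h
    have e : (Subgroup.closure ({f x, f y} : Set H)).map f.symm.toMonoidHom = Subgroup.closure {x, y} := by
      rw [MonoidHom.map_closure, Set.image_pair]; simp
    show Group.IsSolvable ↥(Subgroup.closure ({x, y} : Set G))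
    rw [← e]
    exact Group.isSolvable_of_surjective
      (f := ((Subgroup.closure ({f x, f y} : Set H)).equivMapOfInjective f.symm.toMonoidHom f.symm.injective).toMonoidHom)
      ((Subgroup.closure ({f x, f y} : Set H)).equivMapOfInjective f.symm.toMonoidHom f.symm.injective).surjective

theorem isSolvable_of_le {G : Type*} [Group G] {H K : Subgroup G} (h : H ≤ K) [Group.IsSolvable K] :
    Group.IsSolvable H :=
  Group.isSolvable_of_isSolvable_injective (f := Subgroup.inclusion h) (Subgroup.inclusion_injective h)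

theorem isSolvable_stabilizer (p : suzukiOvoid F m) : Group.IsSolvable (stabilizer (Cfsg.Sz F m) p) := by
  obtain ⟨g, hg⟩ := exists_smul_eq (Cfsg.Sz F m) p (oInf m : suzukiOvoid F m)
  have := isSolvable_B (F := F) m
  have e := stabilizerEquivStabilizer (g := g) hg.symm
  exact Group.isSolvable_of_isSolvable_injective (f := e.toMonoidHom) e.injective

theorem isSolvable_normalizer {V : Subgroup (Cfsg.Sz F m)} (hV : IsCyclicPart m V) :
    Group.IsSolvable (Subgroup.normalizer (V : Set (Cfsg.Sz F m))) := by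
  have : Fact (Nat.Prime 2) := ⟨Nat.prime_two⟩
  set N := Subgroup.normalizer (V : Set (Cfsg.Sz F m)) with hN
  rw [Group.isSolvable_iff_subgroup_quotient (V.subgroupOf N)]
  constructor
  · have := hV.1
    have : IsCyclic (V.subgroupOf N) :=
      isCyclic_of_surjective (Subgroup.subgroupOfEquivOfLe Subgroup.le_normalizer).symm.toMonoidHom
        (Subgroup.subgroupOfEquivOfLe Subgroup.le_normalizer).symm.surjective
    exact Group.isSolvable_of_comm (fun a b => IsCyclic.isMulCommutative.is_comm.comm a b)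
  · have hcard : Nat.card (N ⧸ V.subgroupOf N) = normIndex m (Nat.card V) := by
      have h := (V.subgroupOf N).card_mul_index
      rw [Nat.card_congr (Subgroup.subgroupOfEquivOfLe Subgroup.le_normalizer).toEquiv, hV.card_normalizer,
        mul_comm] at h
      exact Nat.eq_of_mul_eq_mul_right Nat.card_pos h
    have hp : IsPGroup 2 (N ⧸ V.subgroupOf N) := by
      unfold normIndex at hcard
      split_ifs at hcard
      · exact IsPGroup.of_card (n := 1) (by rw [hcard]; norm_num)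
      · exact IsPGroup.of_card (n := 2) (by rw [hcard]; norm_num)
    have := hp.isNilpotent
    infer_instance

theorem mem_sol_iff (hp : (2 * m + 1).Prime) {x y : Cfsg.Sz F m} :
    y ∈ Sol x ↔ (∃ p : suzukiOvoid F m, x • p = p ∧ y • p = p) ∨
      ∃ V : Subgroup (Cfsg.Sz F m), IsCyclicPart m V ∧ x ∈ Subgroup.normalizer (V : Set (Cfsg.Sz F m)) ∧
        y ∈ Subgroup.normalizer (V : Set (Cfsg.Sz F m)) := by
  have hx : x ∈ Subgroup.closure ({x, y} : Set (Cfsg.Sz F m)) := Subgroup.subset_closure (by simp)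
  have hy : y ∈ Subgroup.closure ({x, y} : Set (Cfsg.Sz F m)) := Subgroup.subset_closure (by simp)
  constructor
  · intro h
    have h' : Group.IsSolvable ↥(Subgroup.closure ({x, y} : Set (Cfsg.Sz F m))) := h
    rcases subgroup_type m (Subgroup.closure ({x, y} : Set (Cfsg.Sz F m))) with
      ⟨p, hp'⟩ | ⟨V, hc, hn, hle⟩ | ⟨k, hk, hd, c, hc⟩
    · exact Or.inl ⟨p, hp' x hx, hp' y hy⟩
    · exact Or.inr ⟨V, ⟨hc, hn⟩, hle hx, hle hy⟩
    · exfalso
      have hkm : k = m := by
        rcases hp.eq_one_or_self_of_dvd _ hd with h1 | h1 <;> omega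
      rw [sub_eq_top m hkm] at hc
      have hsur : Function.Surjective
          ((MulAut.conj c).toMonoidHom.comp (Subgroup.closure ({x, y} : Set (Cfsg.Sz F m))).subtype) := by
        intro g
        obtain ⟨z, hz, hzg⟩ := (show g ∈ (Subgroup.closure ({x, y} : Set (Cfsg.Sz F m))).map
          (MulAut.conj c).toMonoidHom from hc ▸ trivial)
        exact ⟨⟨z, hz⟩, hzg⟩
      have := Group.isSolvable_of_surjective hsur
      have := nontrivial_Sz (F := F) m
      exact (Group.IsSolvable.commutator_lt_top_of_nontrivial (G := Cfsg.Sz F m)).ne (commutator_eq_top m)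
  · rintro (⟨p, h1, h2⟩ | ⟨V, hV, h1, h2⟩)
    · have := isSolvable_stabilizer m p
      exact isSolvable_of_le ((Subgroup.closure_le (stabilizer (Cfsg.Sz F m) p)).mpr (by
        rintro z (rfl | rfl)
        · exact h1
        · exact h2))
    · have := isSolvable_normalizer m hV
      exact isSolvable_of_le ((Subgroup.closure_le (Subgroup.normalizer (V : Set (Cfsg.Sz F m)))).mpr (by
        rintro z (rfl | rfl)
        · exact h1
        · exact h2))

theorem mem_normalizer_odd {V : Subgroup (Cfsg.Sz F m)} (hV : IsCyclicPart m V) {x : Cfsg.Sz F m}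
    (hx : Odd (orderOf x)) (hxN : x ∈ Subgroup.normalizer (V : Set (Cfsg.Sz F m))) : x ∈ V := by
  by_contra hne
  have h4 := orderOf_dvd_of_pow_eq_one (hV.pow_four hxN hne)
  have h1 : orderOf x = 1 :=
    Nat.eq_one_of_dvd_coprimes ((Nat.coprime_two_right.mpr hx).pow_right 2) dvd_rfl h4
  exact hne ((orderOf_eq_one_iff.mp h1) ▸ V.one_mem)

/-- Fixed-point-free elements: the soluble partners form the normaliser of the centraliser. -/
theorem sol_fixFree (hp : (2 * m + 1).Prime) {x : Cfsg.Sz F m} (hx : FixFree m x) :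
    Nat.card (Sol x) = 4 * Nat.card (Subgroup.centralizer {x}) := by
  have hV : IsCyclicPart m (Subgroup.centralizer {x}) :=
    ⟨centralizer_cyclic m hx, Or.inr (card_centralizer_fixFree m hx)⟩
  have hxV : x ∈ Subgroup.centralizer {x} := Subgroup.mem_centralizer_singleton_iff.mpr rfl
  have e : Sol x = (Subgroup.normalizer (Subgroup.centralizer {x} : Set (Cfsg.Sz F m)) : Set (Cfsg.Sz F m)) := by
    ext y
    rw [mem_sol_iff m hp, SetLike.mem_coe]
    constructor
    · rintro (⟨p, h1, -⟩ | ⟨W, hW, h1, h2⟩)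
      · exact absurd h1 (hx p)
      · rwa [show Subgroup.centralizer {x} = W from hW.centralizer_eq
          (mem_normalizer_odd m hW (hV.odd_orderOf hxV) h1) (fixFree_ne_one m hx)]
    · intro hy
      exact Or.inr ⟨_, hV, Subgroup.le_normalizer hxV, hy⟩
  rw [e]
  exact card_normalizer_fixFree m hx

/-- Torus elements. -/
theorem sol_T (hp : (2 * m + 1).Prime) {x : Cfsg.Sz F m} (hx : x ∈ T m) (hx1 : x ≠ 1) :
    Nat.card (Sol x) = 2 * Nat.card F ^ 2 * (Nat.card F - 1) := by
  have hT : IsCyclicPart m (T m : Subgroup (Cfsg.Sz F m)) := by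
    rcases isPart_T (F := F) m with ⟨P, hP⟩ | h
    · exfalso
      have h2 := odd_compl (F := F) m
      have hd : 2 ∣ Nat.card (T m : Subgroup (Cfsg.Sz F m)) := by
        have : Fact (Nat.Prime 2) := ⟨Nat.prime_two⟩
        rw [hP]
        refine P.dvd_card_of_dvd_card ?_
        rw [card_Sz, card_nat (F := F) m, ← pow_mul]
        exact Dvd.dvd.mul_right (Dvd.dvd.mul_right (dvd_pow_self 2 (by omega)) _) _
      rw [card_T] at hd
      exact h2 (hd.trans (dvd_mul_right _ _))
    · exact h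
  set N := Subgroup.normalizer ((T m : Subgroup (Cfsg.Sz F m)) : Set (Cfsg.Sz F m)) with hN
  set B' := stabilizer (Cfsg.Sz F m) (oPt m (0 : F) 0)
  have hx0 : x • oPt m (0 : F) 0 = oPt m 0 0 := by
    obtain ⟨s, rfl⟩ := (mem_T m).mp hx
    simp [t_smul_oPt]
  have e : Sol x = ((B m : Subgroup (Cfsg.Sz F m)) : Set (Cfsg.Sz F m)) ∪ (B' : Set (Cfsg.Sz F m)) ∪
      (N : Set (Cfsg.Sz F m)) := by
    ext y
    rw [mem_sol_iff m hp]
    constructor
    · rintro (⟨p, h1, h2⟩ | ⟨W, hW, h1, h2⟩)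
      · rcases T_fixed m hx hx1 h1 with rfl | rfl
        · exact Or.inl (Or.inl h2)
        · exact Or.inl (Or.inr h2)
      · refine Or.inr ?_
        have hxW := mem_normalizer_odd m hW (hT.odd_orderOf hx) h1
        rw [← hW.centralizer_eq hxW hx1, centralizer_T_eq m hx hx1] at h2
        exact h2
    · rintro ((h | h) | h)
      · exact Or.inl ⟨oInf m, T_le_B m hx, h⟩
      · exact Or.inl ⟨oPt m 0 0, hx0, h⟩
      · exact Or.inr ⟨_, hT, Subgroup.le_normalizer hx, h⟩
  have h2 : ∀ H : Subgroup (Cfsg.Sz F m), (H : Set (Cfsg.Sz F m)).ncard = Nat.card H := fun H =>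
    (Nat.card_coe_set_eq _).symm
  have hBB : ((B m : Subgroup (Cfsg.Sz F m)) : Set (Cfsg.Sz F m)) ∩ (B' : Set (Cfsg.Sz F m)) =
      (T m : Subgroup (Cfsg.Sz F m)) := by
    ext g
    constructor
    · rintro ⟨h1, h2⟩
      obtain ⟨s, hs⟩ := exists_t_of_fixed m h1 h2
      exact hs ▸ t_mem_T m s
    · intro hg
      obtain ⟨s, rfl⟩ := (mem_T m).mp hg
      exact ⟨t_smul_oInf m s, by show t m s • oPt m (0 : F) 0 = _; simp [t_smul_oPt]⟩
  have hBN : (((B m : Subgroup (Cfsg.Sz F m)) : Set (Cfsg.Sz F m)) ∪ (B' : Set (Cfsg.Sz F m))) ∩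
      (N : Set (Cfsg.Sz F m)) = (T m : Subgroup (Cfsg.Sz F m)) := by
    ext g
    constructor
    · rintro ⟨hg, hgN⟩
      rcases T_TI m hx hx1 ((Subgroup.mem_normalizer_iff.mp hgN x).mp hx) with h | h
      · exact h
      · exfalso
        obtain ⟨s, hs⟩ := (mem_T m).mp h
        have hg' : g = t m s * w m := by rw [← hs, mul_assoc, w_mul_w, mul_one]
        rcases hg with hg | hg
        · rw [SetLike.mem_coe, mem_B, hg', mul_smul, w_smul_oInf, t_smul_oPt] at hg
          exact oPt_ne_oInf m _ _ hg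
        · rw [SetLike.mem_coe, mem_stabilizer_iff, hg', mul_smul, w_smul_zero, t_smul_oInf] at hg
          exact oPt_ne_oInf m _ _ hg.symm
    · intro hg
      exact ⟨Or.inl (T_le_B m hg), Subgroup.le_normalizer hg⟩
  have hB' : Nat.card B' = Nat.card (B m : Subgroup (Cfsg.Sz F m)) := by
    refine Nat.eq_of_mul_eq_mul_right (Nat.pos_of_ne_zero (Subgroup.index_ne_zero_of_finite (H := B'))) ?_
    rw [B'.card_mul_index, ← (B m : Subgroup (Cfsg.Sz F m)).card_mul_index, index_stabilizer_of_transitive,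
      index_stabilizer_of_transitive]
  have h3 := Set.ncard_union_add_ncard_inter ((B m : Subgroup (Cfsg.Sz F m)) : Set (Cfsg.Sz F m))
    (B' : Set (Cfsg.Sz F m))
  have h4 := Set.ncard_union_add_ncard_inter
    (((B m : Subgroup (Cfsg.Sz F m)) : Set (Cfsg.Sz F m)) ∪ (B' : Set (Cfsg.Sz F m)))
    (N : Set (Cfsg.Sz F m))
  rw [hBB, h2, h2, h2, hB', card_B] at h3
  rw [hBN, h2, h2, hN, hT.card_normalizer, normIndex, if_pos (by rw [card_T, card_nat (F := F) m])] at h4
  rw [Nat.card_coe_set_eq, e, hN]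
  rw [mul_assoc 2]
  omega

/-- The soluble partners of an element of `U` outside the Borel subgroup. -/
theorem sol_U_aux (hp : (2 * m + 1).Prime) {x : Cfsg.Sz F m} (hx : x ∈ U m) (hx1 : x ≠ 1) (k : ℕ → ℕ)
    (hk : ∀ V : Subgroup (Cfsg.Sz F m), IsCyclicPart m V → x ∈ Subgroup.normalizer (V : Set (Cfsg.Sz F m)) →
      Nat.card (Subgroup.normalizer (V : Set (Cfsg.Sz F m)) ⊓ B m : Subgroup (Cfsg.Sz F m)) =
        k (Nat.card V)) :
    Nat.card (Sol x) = Nat.card F ^ 2 * (Nat.card F - 1) +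
      ∑ n ∈ ({2 ^ (2 * m + 1) - 1, aPlus m, aMinus m} : Finset ℕ),
        Nat.card {W : Subgroup (Cfsg.Sz F m) // IsCyclicPart m W ∧ Nat.card W = n ∧
          x ∈ Subgroup.normalizer (W : Set (Cfsg.Sz F m))} * (normIndex m n * n - k n) := by
  classical
  have hone : ∀ (p : suzukiOvoid F m), x • p = p → p = oInf m := fun p => U_fixed m hx hx1
  have hxV : ∀ V : Subgroup (Cfsg.Sz F m), IsCyclicPart m V → x ∉ V := fun V hV e => by
    have h1 := hV.odd_orderOf e
    have h2 : orderOf x ∣ Nat.card F ^ 2 := card_U (F := F) m ▸ Subgroup.orderOf_dvd_natCard _ hx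
    rw [card_nat (F := F) m, ← pow_mul] at h2
    exact hx1 (orderOf_eq_one_iff.mp (Nat.eq_one_of_dvd_coprimes
      ((Nat.coprime_two_right.mpr h1).pow_right _) dvd_rfl h2))
  set Vs := {V : Subgroup (Cfsg.Sz F m) // IsCyclicPart m V ∧
    x ∈ Subgroup.normalizer (V : Set (Cfsg.Sz F m))}
  have : Fintype Vs := Fintype.ofFinite Vs
  -- partners outside B determine the part
  have huniq : ∀ (V W : Subgroup (Cfsg.Sz F m)), IsCyclicPart m V → IsCyclicPart m W →
      x ∈ Subgroup.normalizer (V : Set (Cfsg.Sz F m)) → x ∈ Subgroup.normalizer (W : Set (Cfsg.Sz F m)) →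
      ∀ y, y ∈ Subgroup.normalizer (V : Set (Cfsg.Sz F m)) →
        y ∈ Subgroup.normalizer (W : Set (Cfsg.Sz F m)) → y ∉ B m → V = W := by
    intro V W hV hW h1 h2 y h3 h4 hy
    have hcomm : ∀ V : Subgroup (Cfsg.Sz F m), IsCyclicPart m V → x ∈ Subgroup.normalizer (V : Set (Cfsg.Sz F m)) →
        y ∈ Subgroup.normalizer (V : Set (Cfsg.Sz F m)) → x * y * x⁻¹ * y⁻¹ ∈ V := by
      intro V hV h1 h3
      set N := Subgroup.normalizer (V : Set (Cfsg.Sz F m))
      have hcard : Nat.card (N ⧸ V.subgroupOf N) = normIndex m (Nat.card V) := by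
        have h := (V.subgroupOf N).card_mul_index
        rw [Nat.card_congr (Subgroup.subgroupOfEquivOfLe Subgroup.le_normalizer).toEquiv, hV.card_normalizer,
          mul_comm] at h
        exact Nat.eq_of_mul_eq_mul_right Nat.card_pos h
      have hc : ∀ a b : N ⧸ V.subgroupOf N, a * b = b * a := by
        have : Fact (Nat.Prime 2) := ⟨Nat.prime_two⟩
        have hle : Nat.card (N ⧸ V.subgroupOf N) = 2 ∨ Nat.card (N ⧸ V.subgroupOf N) = 2 ^ 2 := by
          rw [hcard, normIndex]; split_ifs <;> simp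
        rcases hle with h | h
        · have := isCyclic_of_prime_card h
          exact fun a b => IsCyclic.isMulCommutative.is_comm.comm a b
        · exact fun a b => IsPGroup.commutative_of_card_eq_prime_sq h a b
      have e : (QuotientGroup.mk (s := V.subgroupOf N)
          ((⟨x, h1⟩ : N) * ⟨y, h3⟩ * (⟨x, h1⟩ : N)⁻¹ * (⟨y, h3⟩ : N)⁻¹)) = 1 := by
        simp only [QuotientGroup.mk_mul, QuotientGroup.mk_inv]
        rw [hc (QuotientGroup.mk ⟨x, h1⟩) (QuotientGroup.mk ⟨y, h3⟩), mul_inv_cancel_right, mul_inv_cancel]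
      have hmem := (QuotientGroup.eq_one_iff _).mp e
      exact hmem
    refine part_unique m hV.isPart hW.isPart (hcomm V hV h1 h3) (hcomm W hW h2 h4) (fun e => hy ?_)
    refine hone _ ?_
    rw [← mul_smul]
    have hxy : x * y = y * x := by
      calc x * y = x * y * x⁻¹ * y⁻¹ * (y * x) := by group
        _ = y * x := by rw [e, one_mul]
    rw [hxy, mul_smul, U_le_B m hx]
  have hset : Sol x = ((B m : Subgroup (Cfsg.Sz F m)) : Set (Cfsg.Sz F m)) ∪
      {y | y ∉ B m ∧ ∃ V : Vs, y ∈ Subgroup.normalizer (V.1 : Set (Cfsg.Sz F m))} := by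
    ext y
    rw [mem_sol_iff m hp]
    constructor
    · rintro (⟨p, h1, h2⟩ | ⟨V, hV, h1, h2⟩)
      · rw [hone p h1] at h2
        exact Or.inl h2
      · by_cases hy : y ∈ B m
        · exact Or.inl hy
        · exact Or.inr ⟨hy, ⟨V, hV, h1⟩, h2⟩
    · rintro (h | ⟨-, V, h⟩)
      · exact Or.inl ⟨oInf m, U_le_B m hx, h⟩
      · exact Or.inr ⟨V.1, V.2.1, V.2.2, h⟩
  have hout : Nat.card {y | y ∉ B m ∧ ∃ V : Vs, y ∈ Subgroup.normalizer (V.1 : Set (Cfsg.Sz F m))} =
      ∑ V : Vs, (normIndex m (Nat.card V.1) * Nat.card V.1 - k (Nat.card V.1)) := by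
    have hfib : ∀ V : Vs, Nat.card {y : Cfsg.Sz F m //
        y ∈ Subgroup.normalizer (V.1 : Set (Cfsg.Sz F m)) ∧ y ∉ B m} =
        normIndex m (Nat.card V.1) * Nat.card V.1 - k (Nat.card V.1) := by
      intro V
      rw [← V.2.1.card_normalizer, ← hk V.1 V.2.1 V.2.2]
      set N := Subgroup.normalizer (V.1 : Set (Cfsg.Sz F m))
      show Nat.card ((N : Set (Cfsg.Sz F m)) \ (B m : Subgroup (Cfsg.Sz F m)) : Set (Cfsg.Sz F m)) = _
      have h := Set.ncard_inter_add_ncard_sdiff_eq_ncard (N : Set (Cfsg.Sz F m))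
        ((B m : Subgroup (Cfsg.Sz F m)) : Set (Cfsg.Sz F m))
      simp only [← Nat.card_coe_set_eq] at h
      change Nat.card (N ⊓ B m : Subgroup (Cfsg.Sz F m)) + _ = Nat.card N at h
      omega
    rw [← Finset.sum_congr rfl (fun V _ => hfib V), ← Nat.card_sigma]
    refine (Nat.card_congr (Equiv.ofBijective (fun p : Σ V : Vs, {y : Cfsg.Sz F m //
      y ∈ Subgroup.normalizer (V.1 : Set (Cfsg.Sz F m)) ∧ y ∉ B m} =>
      (⟨p.2.1, p.2.2.2, p.1, p.2.2.1⟩ :
        {y | y ∉ B m ∧ ∃ V : Vs, y ∈ Subgroup.normalizer (V.1 : Set (Cfsg.Sz F m))})) ⟨?_, ?_⟩)).symm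
    · rintro ⟨V, y, hy⟩ ⟨W, z, hz⟩ e
      have e' : y = z := congrArg Subtype.val e
      subst e'
      obtain rfl : V = W := Subtype.ext (huniq _ _ V.2.1 W.2.1 V.2.2 W.2.2 y hy.1 hz.1 hy.2)
      rfl
    · rintro ⟨y, hy, V, hV⟩
      exact ⟨⟨V, y, hV, hy⟩, rfl⟩
  rw [Nat.card_coe_set_eq, hset, Set.ncard_union_eq (Set.disjoint_left.mpr fun y h h' => h'.1 h),
    ← Nat.card_coe_set_eq, ← Nat.card_coe_set_eq, hout]
  congr 1
  · exact card_B m
  rw [← Finset.sum_fiberwise_of_maps_to (g := fun V : Vs => Nat.card V.1)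
    (t := ({2 ^ (2 * m + 1) - 1, aPlus m, aMinus m} : Finset ℕ)) (fun V _ => by
      simp only [Finset.mem_insert, Finset.mem_singleton]; exact V.2.1.2)]
  refine Finset.sum_congr rfl (fun n _ => ?_)
  rw [Finset.sum_congr rfl (fun V hV => by rw [(Finset.mem_filter.mp hV).2]), Finset.sum_const, smul_eq_mul]
  congr 1
  rw [← Fintype.card_subtype, ← Nat.card_eq_fintype_card]
  exact Nat.card_congr
    { toFun := fun V => ⟨V.1.1, V.1.2.1, V.2, V.1.2.2⟩
      invFun := fun V => ⟨⟨V.1, V.2.1, V.2.2.2⟩, V.2.2.1⟩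
      left_inv := fun V => rfl
      right_inv := fun V => rfl }

/-- The part of a normaliser in the Borel subgroup. -/
theorem card_normalizer_inf_B {V : Subgroup (Cfsg.Sz F m)} (hV : IsCyclicPart m V) {x y : Cfsg.Sz F m}
    (hx : x ∈ U m) (hx1 : x ≠ 1) (hxN : x ∈ Subgroup.normalizer (V : Set (Cfsg.Sz F m)))
    (hy : y ∈ Subgroup.normalizer (V : Set (Cfsg.Sz F m))) (hyo : orderOf y = normIndex m (Nat.card V))
    (hxy : x ∈ Subgroup.zpowers y) :
    Nat.card (Subgroup.normalizer (V : Set (Cfsg.Sz F m)) ⊓ B m : Subgroup (Cfsg.Sz F m)) =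
      normIndex m (Nat.card V) := by
  set N := Subgroup.normalizer (V : Set (Cfsg.Sz F m)) with hN
  set K : Subgroup (Cfsg.Sz F m) := N ⊓ B m with hK
  refine le_antisymm ?_ ?_
  · have htriv : ∀ v ∈ V, v ∈ B m → v = 1 := by
      intro v hv hvB
      by_contra hv1
      -- the commutator lies in `U` and in `V`
      have hjv : x * v * x⁻¹ ∈ V := (Subgroup.mem_normalizer_iff.mp hxN v).mp hv
      have hcV : x * v * x⁻¹ * v⁻¹ ∈ V := V.mul_mem hjv (V.inv_mem hv)
      have hcU : x * v * x⁻¹ * v⁻¹ ∈ U m := by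
        rw [mul_assoc x, mul_assoc x]
        exact (U m).mul_mem hx ((Subgroup.mem_normalizer_iff.mp (B_le_normalizer_U m hvB) _).mp
          ((U m).inv_mem hx))
      have hc1 : x * v * x⁻¹ * v⁻¹ = 1 := by
        have h1 := hV.odd_orderOf hcV
        have h2 : orderOf (x * v * x⁻¹ * v⁻¹) ∣ Nat.card F ^ 2 :=
          card_U (F := F) m ▸ Subgroup.orderOf_dvd_natCard _ hcU
        rw [card_nat (F := F) m, ← pow_mul] at h2
        exact orderOf_eq_one_iff.mp (Nat.eq_one_of_dvd_coprimes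
          ((Nat.coprime_two_right.mpr h1).pow_right _) dvd_rfl h2)
      have hxV : x ∈ V := by
        rw [← hV.centralizer_eq hv hv1, Subgroup.mem_centralizer_singleton_iff]
        calc x * v = x * v * x⁻¹ * v⁻¹ * (v * x) := by group
          _ = v * x := by rw [hc1, one_mul]
      have h1 := hV.odd_orderOf hxV
      have h2 : orderOf x ∣ Nat.card F ^ 2 := card_U (F := F) m ▸ Subgroup.orderOf_dvd_natCard _ hx
      rw [card_nat (F := F) m, ← pow_mul] at h2
      exact hx1 (orderOf_eq_one_iff.mp (Nat.eq_one_of_dvd_coprimes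
        ((Nat.coprime_two_right.mpr h1).pow_right _) dvd_rfl h2))
    have hle : Nat.card (K × V) ≤ Nat.card N := by
      refine Nat.card_le_card_of_injective
        (fun p : K × V => (⟨p.1.1 * p.2.1, N.mul_mem p.1.2.1 (Subgroup.le_normalizer p.2.2)⟩ : N)) ?_
      rintro ⟨a, v⟩ ⟨b, u⟩ e
      have e' : a.1 * v.1 = b.1 * u.1 := congrArg Subtype.val e
      have h : b.1⁻¹ * a.1 = u.1 * v.1⁻¹ := by
        rw [eq_mul_inv_iff_mul_eq, mul_assoc, e', inv_mul_cancel_left]
      have h1 := htriv (b.1⁻¹ * a.1) (h ▸ V.mul_mem u.2 (V.inv_mem v.2))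
        ((B m).mul_mem ((B m).inv_mem b.2.2) a.2.2)
      have hab : a = b := Subtype.ext (inv_mul_eq_one.mp h1).symm
      subst hab
      exact Prod.ext rfl (Subtype.ext (mul_left_cancel e'))
    rw [Nat.card_prod, hN, hV.card_normalizer] at hle
    exact Nat.le_of_mul_le_mul_right hle Nat.card_pos
  · rw [← hyo, ← Nat.card_zpowers]
    refine Nat.le_of_dvd Nat.card_pos (Subgroup.card_dvd_of_le ?_)
    rw [Subgroup.zpowers_le]
    refine ⟨hy, U_fixed m hx hx1 ?_⟩
    obtain ⟨i, rfl⟩ := Subgroup.mem_zpowers_iff.mp hxy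
    rw [← mul_smul, (Commute.zpow_self y i).eq, mul_smul, U_le_B m hx]

theorem exists_y_involution {V : Subgroup (Cfsg.Sz F m)} (hV : IsCyclicPart m V) {x : Cfsg.Sz F m}
    (hx : orderOf x = 2) (hxN : x ∈ Subgroup.normalizer (V : Set (Cfsg.Sz F m))) :
    ∃ y ∈ Subgroup.normalizer (V : Set (Cfsg.Sz F m)),
      orderOf y = normIndex m (Nat.card V) ∧ x ∈ Subgroup.zpowers y := by
  by_cases h : Nat.card V = 2 ^ (2 * m + 1) - 1
  · exact ⟨x, hxN, by rw [normIndex, if_pos h, hx], Subgroup.mem_zpowers x⟩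
  obtain ⟨y, hy, hyo⟩ := hV.exists_order_four h
  set N := Subgroup.normalizer (V : Set (Cfsg.Sz F m))
  have hy4 : y ^ 4 = 1 := orderOf_dvd_iff_pow_eq_one.mp hyo.dvd
  set z := y ^ 2 with hz
  have hz2 : z * z = 1 := by rw [hz, ← pow_add]; exact hy4
  have hzN : z ∈ N := N.pow_mem hy 2
  have hz1 : z ≠ 1 := pow_ne_one_of_lt_orderOf (by norm_num) (by omega)
  have hzV : z ∉ V := fun e => hz1 (hV.eq_one_of_sq e hz2)
  have hx2 : x * x = 1 := by rw [← pow_two, ← hx]; exact pow_orderOf_eq_one x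
  have hxV : x ∉ V := fun e => by
    rw [hV.eq_one_of_sq e hx2, orderOf_one] at hx; omega
  have hv := hV.mul_mem_of_involutions hz2 hzV hzN hx2 hxV hxN
  set v := z * x
  obtain ⟨r, hr⟩ := hV.odd_orderOf hv
  set u := v ^ (r + 1)
  have hu : u ∈ V := V.pow_mem hv _
  have huu : u * u = v := by
    rw [← pow_add, show r + 1 + (r + 1) = orderOf v + 1 by omega, pow_succ, pow_orderOf_eq_one, one_mul]
  refine ⟨u⁻¹ * y * u, N.mul_mem (N.mul_mem (N.inv_mem (Subgroup.le_normalizer hu)) hy)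
    (Subgroup.le_normalizer hu), ?_, ?_⟩
  · rw [normIndex, if_neg h]
    have : u⁻¹ * y * u = MulAut.conj u⁻¹ y := by simp
    rw [this, MulEquiv.orderOf_eq]
    exact hyo
  · refine Subgroup.mem_zpowers_iff.mpr ⟨((2 : ℕ) : ℤ), ?_⟩
    rw [zpow_natCast]
    have h1 := hV.inverts hz2 hzV hzN hu
    have hzz : z⁻¹ = z := inv_eq_of_mul_eq_one_right hz2
    calc (u⁻¹ * y * u) ^ 2 = u⁻¹ * z * u := by rw [hz, pow_two, pow_two]; group
      _ = (z * u * z⁻¹) * z * u := by rw [h1]
      _ = z * (u * u) := by group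
      _ = x := by rw [huu, ← mul_assoc, hz2, one_mul]

theorem card_centralizer_u0 {b : F} (hb : b ≠ 0) :
    Nat.card (Subgroup.centralizer {u m 0 b}) = Nat.card F ^ 2 := by
  rw [← card_U (F := F) m]
  refine congrArg (fun H : Subgroup (Cfsg.Sz F m) => Nat.card H) (le_antisymm
    (centralizer_U_le m (u_mem_U m 0 b) (fun e => hb ((u_eq_one m).mp e).2)) (fun g hg => ?_))
  obtain ⟨c, d, rfl⟩ := (mem_U m).mp hg
  rw [Subgroup.mem_centralizer_singleton_iff, u_mul, u_mul]
  simp [add_comm]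

theorem isConj_involutions {x y : Cfsg.Sz F m} (hx : orderOf x = 2) (hy : orderOf y = 2) : IsConj x y := by
  have key : ∀ x : Cfsg.Sz F m, orderOf x = 2 → IsConj x (u m 0 1) := by
    intro x hx
    have hx2 : x * x = 1 := by rw [← pow_two, ← hx]; exact pow_orderOf_eq_one x
    have hx1 : x ≠ 1 := fun e => by rw [e, orderOf_one] at hx; omega
    obtain ⟨p, hp, -⟩ := exists_unique_fixed m (i := 1) (by rw [hx, pow_one]) hx1
    obtain ⟨c, hc⟩ := exists_smul_eq (Cfsg.Sz F m) p (oInf m : suzukiOvoid F m)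
    have hsq : c * x * c⁻¹ * (c * x * c⁻¹) = 1 := by
      rw [show c * x * c⁻¹ * (c * x * c⁻¹) = c * (x * x) * c⁻¹ by group, hx2, mul_one, mul_inv_cancel]
    obtain ⟨b, hb⟩ := mem_Z_of_sq (mem_U_of_sq m hsq (by
      rw [mem_B, mul_smul, mul_smul, ← hc, inv_smul_smul, hp])) hsq
    have hb0 : b ≠ 0 := fun h => hx1 (by
      rw [h, u_zero, conj_eq_one_iff] at hb; exact hb)
    obtain ⟨s, hs⟩ := (sq_mul_th_bijective (F := F) m).2 b⁻¹
    dsimp only at hs
    have hs0 : s ≠ 0 := fun h => by rw [h] at hs; simp at hs; exact hb0 hs.symm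
    refine isConj_iff.mpr ⟨t m (Units.mk0 s hs0) * c, ?_⟩
    rw [show t m (Units.mk0 s hs0) * c * x * (t m (Units.mk0 s hs0) * c)⁻¹ =
      t m (Units.mk0 s hs0) * (c * x * c⁻¹) * (t m (Units.mk0 s hs0))⁻¹ by group, hb, t_u,
      Units.val_mk0, hs, inv_mul_cancel₀ hb0, mul_zero]
  exact (key x hx).trans (key y hy).symm

theorem u10_order : orderOf (u m (1 : F) 0) = 4 := by
  have : Fact (Nat.Prime 2) := ⟨Nat.prime_two⟩
  refine orderOf_eq_prime_pow (p := 2) (n := 1) ?_ ?_
  · rw [pow_one, pow_two, u_sq, u_eq_one]; simp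
  · show u m (1 : F) 0 ^ (2 * 2) = 1
    rw [pow_mul, pow_two, pow_two, u_sq, u_sq]; simp

theorem not_mem_range_one : ¬ ∃ z : F, th m z + z = 1 := by
  rintro ⟨z, e1⟩
  have e2 : z ^ 2 + th m z = 1 := by
    have := congrArg (th m) e1
    rwa [th_add, th_th, th_one] at this
  have e3 : z * (z - 1) = 0 := by linear_combination e2 - e1
  rcases mul_eq_zero.mp e3 with h | h
  · rw [h] at e1; simp at e1
  · rw [sub_eq_zero.mp h, th_one] at e1
    exact one_ne_zero (by linear_combination (norm := char_two_ring (m)) e1)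

theorem isConj_order_four {x : Cfsg.Sz F m} (hx : orderOf x = 4) :
    IsConj x (u m 1 0) ∨ IsConj x (u m 1 0)⁻¹ := by
  have hx1 : x ≠ 1 := fun e => by rw [e, orderOf_one] at hx; omega
  obtain ⟨p, hp, -⟩ := exists_unique_fixed m (i := 2) (by rw [hx]; rfl) hx1
  obtain ⟨c, hc⟩ := exists_smul_eq (Cfsg.Sz F m) p (oInf m : suzukiOvoid F m)
  have hU : c * x * c⁻¹ ∈ U m := mem_U_of_two_pow m (i := 2)
    (by rw [← MulAut.conj_apply, MulEquiv.orderOf_eq, hx]; rfl)
    (by rw [mem_B, mul_smul, mul_smul, ← hc, inv_smul_smul, hp])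
  obtain ⟨a, b, hab⟩ := (mem_U m).mp hU
  have ha : a ≠ 0 := by
    rintro rfl
    have h2 : (c * x * c⁻¹) ^ 2 = 1 := by rw [hab, pow_two, u_sq]; simp
    have := orderOf_dvd_of_pow_eq_one h2
    rw [← MulAut.conj_apply, MulEquiv.orderOf_eq, hx] at this
    omega
  obtain ⟨s, hs⟩ := (th_bijective (F := F) m).2 a⁻¹
  have hs0 : s ≠ 0 := fun h => by rw [h, th_zero] at hs; exact inv_ne_zero ha hs.symm
  obtain ⟨b', hb'⟩ : ∃ b', IsConj x (u m 1 b') := by
    refine ⟨s ^ 2 * th m s * b, isConj_iff.mpr ⟨t m (Units.mk0 s hs0) * c, ?_⟩⟩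
    rw [show t m (Units.mk0 s hs0) * c * x * (t m (Units.mk0 s hs0) * c)⁻¹ =
      t m (Units.mk0 s hs0) * (c * x * c⁻¹) * (t m (Units.mk0 s hs0))⁻¹ by group, hab, t_u,
      Units.val_mk0, hs, inv_mul_cancel₀ ha]
  let f : F →+ F :=
    { toFun := fun z => th m z + z
      map_zero' := by simp
      map_add' := fun y z => by rw [th_add]; ring }
  have hconj : ∀ z : F, IsConj (u m 1 0) (u m 1 (f z)) := fun z =>
    isConj_iff.mpr ⟨u m z 0, by
      rw [u_conj]
      show _ = u m 1 (th m z + z)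
      simp⟩
  have hidx : f.range.index = 2 := by
    have hker : Nat.card f.ker = 2 := by
      rw [Nat.card_eq_two_iff]
      have m1 : (1 : F) ∈ f.ker := by show th m (1 : F) + 1 = 0; rw [th_one]; exact add_self m 1
      refine ⟨0, ⟨1, m1⟩, fun e => zero_ne_one (congrArg Subtype.val e), ?_⟩
      rw [Set.eq_univ_iff_forall]
      rintro ⟨z, hz⟩
      rcases th_eq_self m (eq_of_add_eq_zero m (show th m z + z = 0 from hz)) with h | h
      · exact Or.inl (Subtype.ext h)
      · exact Or.inr (Subtype.ext h)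
    have h1 := f.ker.card_mul_index
    rw [AddSubgroup.index_ker] at h1
    have h2 := f.range.card_mul_index
    rw [← h1, hker, mul_comm 2] at h2
    exact Nat.eq_of_mul_eq_mul_left Nat.card_pos h2
  by_cases hb : b' ∈ f.range
  · obtain ⟨z, rfl⟩ := hb
    exact Or.inl (hb'.trans (hconj z).symm)
  · right
    have h1 : (1 : F) ∉ f.range := fun ⟨z, hz⟩ => not_mem_range_one m ⟨z, hz⟩
    obtain ⟨z, hz⟩ := (AddSubgroup.add_mem_iff_of_index_two hidx (a := 1) (b := b')).mpr (iff_of_false h1 hb)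
    have hi : IsConj (u m 1 0)⁻¹ (u m 1 (f z))⁻¹ := by
      obtain ⟨c, hc⟩ := isConj_iff.mp (hconj z)
      exact isConj_iff.mpr ⟨c, by rw [← hc]; group⟩
    rw [u_inv (F := F) m 1 (f z), hz] at hi
    have e : 1 + b' + th m (1 : F) * 1 = b' := by
      rw [th_one, mul_one]; linear_combination (norm := char_two_ring (m)) 0
    rw [e] at hi
    exact hb'.trans hi.symm

theorem not_isConj_inv {x : Cfsg.Sz F m} (hx : orderOf x = 4) : ¬ IsConj x x⁻¹ := by
  intro h
  have h10 : u m (1 : F) 0 ≠ 1 := fun e => one_ne_zero ((u_eq_one m).mp e).1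
  have hinv : ∀ a b : Cfsg.Sz F m, IsConj a b → IsConj a⁻¹ b⁻¹ := fun a b h => by
    obtain ⟨c, hc⟩ := isConj_iff.mp h
    exact isConj_iff.mpr ⟨c, by rw [← hc]; group⟩
  have h2 : IsConj (u m (1 : F) 0) (u m 1 0)⁻¹ := by
    rcases isConj_order_four m hx with e | e
    · exact (e.symm.trans h).trans (hinv _ _ e)
    · have := (e.symm.trans h).trans (hinv _ _ e)
      rw [inv_inv] at this
      exact this.symm
  have := real_in_U m (u_mem_U m 1 0) h10 h2
  rw [u_sq, u_eq_one] at this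
  simp at this

theorem card_centralizer_u10 : Nat.card (Subgroup.centralizer {u m (1 : F) 0}) = 2 * Nat.card F := by
  classical
  rw [← Nat.card_fin 2, ← Nat.card_prod]
  refine (Nat.card_congr (Equiv.ofBijective (fun p : Fin 2 × F =>
    (⟨u m (if p.1 = 0 then 0 else 1) p.2, ?_⟩ : Subgroup.centralizer {u m (1 : F) 0})) ⟨?_, ?_⟩)).symm
  · rw [Subgroup.mem_centralizer_singleton_iff, u_mul, u_mul, u_inj]
    constructor
    · ring
    · split_ifs <;> simp
  · rintro ⟨i, a⟩ ⟨j, b⟩ e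
    obtain ⟨e1, e2⟩ := (u_inj m).mp (congrArg Subtype.val e)
    dsimp only at e1 e2
    subst e2
    refine Prod.ext ?_ rfl
    fin_cases i <;> fin_cases j <;> simp at e1 ⊢
  · rintro ⟨g, hg⟩
    have hgU := centralizer_U_le m (u_mem_U m 1 0) (fun e => one_ne_zero ((u_eq_one m).mp e).1) hg
    obtain ⟨a, b, rfl⟩ := (mem_U m).mp hgU
    rw [Subgroup.mem_centralizer_singleton_iff, u_mul, u_mul, u_inj] at hg
    have : th m a = a := by
      simp only [th_one, one_mul, mul_one] at hg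
      linear_combination hg.2
    rcases th_eq_self m this with h | h
    · exact ⟨(0, b), Subtype.ext (by simp [h])⟩
    · exact ⟨(1, b), Subtype.ext (by simp [h])⟩

theorem card_centralizer_order_four {x : Cfsg.Sz F m} (hx : orderOf x = 4) :
    Nat.card (Subgroup.centralizer {x}) = 2 * Nat.card F := by
  rw [← card_centralizer_u10 m]
  rcases isConj_order_four m hx with h | h
  · obtain ⟨c, hc⟩ := isConj_iff.mp h
    rw [← hc, ← map_conj_centralizer, card_centralizer_map]
  · obtain ⟨c, hc⟩ := isConj_iff.mp h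
    have e : Subgroup.centralizer {(u m (1 : F) 0)⁻¹} = Subgroup.centralizer {u m (1 : F) 0} := by
      ext g
      simp only [Subgroup.mem_centralizer_singleton_iff]
      exact ⟨fun h => by simpa using (Commute.inv_right h).eq, fun h => (Commute.inv_right h).eq⟩
    rw [← e, ← hc, ← map_conj_centralizer, card_centralizer_map]

theorem card_class_order_four {V : Subgroup (Cfsg.Sz F m)} (hV : IsCyclicPart m V)
    (h : Nat.card V ≠ 2 ^ (2 * m + 1) - 1) {x : Cfsg.Sz F m} (hx : orderOf x = 4) :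
    Nat.card {y : Cfsg.Sz F m // y ∈ Subgroup.normalizer (V : Set (Cfsg.Sz F m)) ∧ IsConj x y} =
      Nat.card V := by
  classical
  set N := Subgroup.normalizer (V : Set (Cfsg.Sz F m))
  have hinv : ∀ a b : Cfsg.Sz F m, IsConj a b → IsConj a⁻¹ b⁻¹ := fun a b h => by
    obtain ⟨c, hc⟩ := isConj_iff.mp h
    exact isConj_iff.mpr ⟨c, by rw [← hc]; group⟩
  have hord : ∀ y, IsConj x y → orderOf y = 4 := fun y h => by
    obtain ⟨c, hc⟩ := isConj_iff.mp h
    rw [← hc, ← MulAut.conj_apply, MulEquiv.orderOf_eq, hx]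
  have hdich : ∀ y, orderOf y = 4 → IsConj x y ∨ IsConj x y⁻¹ := by
    intro y hy
    rcases isConj_order_four m hx with e | e <;> rcases isConj_order_four m hy with e' | e'
    · exact Or.inl (e.trans e'.symm)
    · refine Or.inr (e.trans ?_)
      have := hinv _ _ e'.symm
      rwa [inv_inv] at this
    · exact Or.inr (e.trans (hinv _ _ e'.symm))
    · exact Or.inl (e.trans e'.symm)
  have h1 : Nat.card {y : Cfsg.Sz F m // y ∈ N ∧ orderOf y = 4} =
      Nat.card {y : Cfsg.Sz F m // y ∈ N ∧ IsConj x y} * 2 := by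
    rw [← Nat.card_fin 2, ← Nat.card_prod]
    refine (Nat.card_congr (Equiv.ofBijective (fun p : {y : Cfsg.Sz F m // y ∈ N ∧ IsConj x y} × Fin 2 =>
      (⟨if p.2 = 0 then p.1.1 else p.1.1⁻¹, ?_⟩ : {y : Cfsg.Sz F m // y ∈ N ∧ orderOf y = 4})) ⟨?_, ?_⟩)).symm
    · split_ifs
      · exact ⟨p.1.2.1, hord _ p.1.2.2⟩
      · exact ⟨N.inv_mem p.1.2.1, by rw [orderOf_inv, hord _ p.1.2.2]⟩
    · rintro ⟨⟨a, ha⟩, i⟩ ⟨⟨b, hb⟩, j⟩ e
      have e' := congrArg Subtype.val e
      fin_cases i <;> fin_cases j <;> simp at e' ⊢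
      · exact e'
      · exfalso
        rw [e'] at ha
        exact not_isConj_inv m (hord b hb.2) (hb.2.symm.trans ha.2)
      · exfalso
        rw [← e'] at hb
        exact not_isConj_inv m (hord a ha.2) (ha.2.symm.trans hb.2)
      · exact e'
    · rintro ⟨y, hy, hy4⟩
      rcases hdich y hy4 with e | e
      · exact ⟨(⟨y, hy, e⟩, 0), rfl⟩
      · exact ⟨(⟨y⁻¹, N.inv_mem hy, e⟩, 1), Subtype.ext (by simp)⟩
  rw [hV.card_order_four h] at h1
  omega

theorem normIndex_le (n : ℕ) : 0 < normIndex m n := by unfold normIndex; split_ifs <;> norm_num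

include F in
theorem exists_part_card {n : ℕ}
    (hn : n ∈ ({2 ^ (2 * m + 1) - 1, aPlus m, aMinus m} : Finset ℕ)) :
    ∃ V : Subgroup (Cfsg.Sz F m), IsCyclicPart m V ∧ Nat.card V = n := by
  simp only [Finset.mem_insert, Finset.mem_singleton] at hn
  rcases hn with rfl | rfl | rfl
  · rcases isPart_T (F := F) m with ⟨P, hP⟩ | h
    · exfalso
      have : Fact (Nat.Prime 2) := ⟨Nat.prime_two⟩
      have hd : 2 ∣ Nat.card (T m : Subgroup (Cfsg.Sz F m)) := by
        rw [hP]
        refine P.dvd_card_of_dvd_card ?_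
        rw [card_Sz, card_nat (F := F) m, ← pow_mul]
        exact Dvd.dvd.mul_right (Dvd.dvd.mul_right (dvd_pow_self 2 (by omega)) _) _
      rw [card_T] at hd
      exact odd_compl (F := F) m (hd.trans (dvd_mul_right _ _))
    · exact ⟨_, h, by rw [card_T, card_nat (F := F) m]⟩
  · obtain ⟨g, hg, hc⟩ := (torus_classes (F := F) m).2.1
    exact ⟨_, ⟨centralizer_cyclic m hg, Or.inr (Or.inl hc)⟩, hc⟩
  · obtain ⟨g, hg, hc⟩ := (torus_classes (F := F) m).2.2
    exact ⟨_, ⟨centralizer_cyclic m hg, Or.inr (Or.inr hc)⟩, hc⟩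

theorem sol_involution (hp : (2 * m + 1).Prime) {b : F} (hb : b ≠ 0) :
    Nat.card (Sol (u m 0 b)) = Nat.card F ^ 2 * (4 * Nat.card F - 3) := by
  set x := u m 0 b with hx
  have hx1 : x ≠ 1 := fun e => hb ((u_eq_one m).mp e).2
  have hxo : orderOf x = 2 := orderOf_eq_two m (by rw [hx, u_sq]; simp) hx1
  rw [sol_U_aux m hp (u_mem_U m 0 b) hx1 (normIndex m) (fun V hV hxN => by
    obtain ⟨y, hy, hyo, hxy⟩ := exists_y_involution m hV hxo hxN
    exact card_normalizer_inf_B m hV (u_mem_U m 0 b) hx1 hxN hy hyo hxy)]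
  have hterm : ∀ n ∈ ({2 ^ (2 * m + 1) - 1, aPlus m, aMinus m} : Finset ℕ),
      Nat.card {W : Subgroup (Cfsg.Sz F m) // IsCyclicPart m W ∧ Nat.card W = n ∧
          x ∈ Subgroup.normalizer (W : Set (Cfsg.Sz F m))} * (normIndex m n * n - normIndex m n) =
        Nat.card F ^ 2 * (n - 1) := by
    intro n hn
    obtain ⟨V, hV, rfl⟩ := exists_part_card m hn (F := F)
    have h := card_parts_normalized hV x
    have hcl : Nat.card {y : Cfsg.Sz F m // y ∈ Subgroup.normalizer (V : Set (Cfsg.Sz F m)) ∧ IsConj x y} =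
        Nat.card V := by
      rw [← hV.card_involutions]
      refine Nat.card_congr (Equiv.subtypeEquivRight fun y => and_congr_right fun _ => ?_)
      constructor
      · intro e
        obtain ⟨c, hc⟩ := isConj_iff.mp e
        rw [← hc, ← MulAut.conj_apply, MulEquiv.orderOf_eq, hxo]
      · exact fun e => isConj_involutions m hxo e
    rw [hcl, hx, card_centralizer_u0 m hb, ← hx, ← mul_assoc, mul_comm (Nat.card V)] at h
    have h' := Nat.eq_of_mul_eq_mul_right Nat.card_pos h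
    rw [← Nat.mul_sub_one, ← mul_assoc, h']
  rw [Finset.sum_congr rfl hterm]
  obtain ⟨-, h5, h3, n1, n2, hle⟩ := part_sizes (F := F) (m := m)
  rw [Finset.sum_insert (by simp [n1, n2]), Finset.sum_insert (by simpa using h3.ne'), Finset.sum_singleton,
    ← Nat.mul_add, ← Nat.mul_add, ← Nat.mul_add]
  congr 1
  rw [card_nat (F := F) m]
  have := Nat.one_le_two_pow (n := m + 1)
  simp only [aPlus, aMinus] at h5 ⊢
  omega

theorem sol_order_four (hp : (2 * m + 1).Prime) {x : Cfsg.Sz F m} (hxU : x ∈ U m) (hxo : orderOf x = 4) :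
    Nat.card (Sol x) = Nat.card F ^ 2 * (Nat.card F + 3) := by
  have hx1 : x ≠ 1 := fun e => by rw [e, orderOf_one] at hxo; omega
  obtain ⟨h7, h5, h3, n1, n2, hle⟩ := part_sizes (F := F) (m := m)
  have hnoT : ∀ V : Subgroup (Cfsg.Sz F m), IsCyclicPart m V →
      x ∈ Subgroup.normalizer (V : Set (Cfsg.Sz F m)) → Nat.card V ≠ 2 ^ (2 * m + 1) - 1 := by
    intro V hV hxN h
    have hxV : x ∉ V := fun e => by
      have := hV.odd_orderOf e
      rw [hxo] at this; exact absurd this (by decide)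
    have := orderOf_dvd_of_pow_eq_one ((pow_two x).trans (hV.sq_of_card h hxN hxV))
    rw [hxo] at this
    omega
  rw [sol_U_aux m hp hxU hx1 (fun _ => 4) (fun V hV hxN => by
    have hn : normIndex m (Nat.card V) = 4 := by rw [normIndex, if_neg (hnoT V hV hxN)]
    rw [card_normalizer_inf_B m hV hxU hx1 hxN hxN (by rw [hn, hxo]) (Subgroup.mem_zpowers x), hn])]
  rw [Finset.sum_insert (by simp [n1, n2]), Finset.sum_insert (by simpa using h3.ne'), Finset.sum_singleton]
  have h0 : Nat.card {W : Subgroup (Cfsg.Sz F m) // IsCyclicPart m W ∧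
      Nat.card W = 2 ^ (2 * m + 1) - 1 ∧ x ∈ Subgroup.normalizer (W : Set (Cfsg.Sz F m))} = 0 := by
    have : IsEmpty {W : Subgroup (Cfsg.Sz F m) // IsCyclicPart m W ∧
      Nat.card W = 2 ^ (2 * m + 1) - 1 ∧ x ∈ Subgroup.normalizer (W : Set (Cfsg.Sz F m))} :=
      ⟨fun W => hnoT W.1 W.2.1 W.2.2.2 W.2.2.1⟩
    exact Nat.card_of_isEmpty
  have hterm : ∀ n ∈ ({2 ^ (2 * m + 1) - 1, aPlus m, aMinus m} : Finset ℕ), n ≠ 2 ^ (2 * m + 1) - 1 →
      Nat.card {W : Subgroup (Cfsg.Sz F m) // IsCyclicPart m W ∧ Nat.card W = n ∧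
          x ∈ Subgroup.normalizer (W : Set (Cfsg.Sz F m))} * (normIndex m n * n - 4) =
        2 * Nat.card F * (n - 1) := by
    intro n hn hne
    obtain ⟨V, hV, rfl⟩ := exists_part_card m hn (F := F)
    have h := card_parts_normalized hV x
    rw [card_class_order_four m hV hne hxo, card_centralizer_order_four m hxo, ← mul_assoc,
      mul_comm (Nat.card V)] at h
    have h' := Nat.eq_of_mul_eq_mul_right Nat.card_pos h
    rw [normIndex, if_neg hne] at h' ⊢
    rw [show 4 * Nat.card V - 4 = 4 * (Nat.card V - 1) by omega, ← mul_assoc, h']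
  rw [h0, zero_mul, zero_add, hterm _ (by simp) n1.symm, hterm _ (by simp) n2.symm, ← Nat.mul_add]
  have e : aPlus m - 1 + (aMinus m - 1) = 2 * 2 ^ (2 * m + 1) := by
    have := Nat.one_le_two_pow (n := m + 1)
    simp only [aPlus, aMinus]; omega
  have e2 : Nat.card F - 1 + 4 = Nat.card F + 3 := by
    have : 0 < Nat.card F := Nat.card_pos
    omega
  rw [e, ← card_nat (F := F) m]
  calc Nat.card F ^ 2 * (Nat.card F - 1) + 2 * Nat.card F * (2 * Nat.card F)
      = Nat.card F ^ 2 * (Nat.card F - 1 + 4) := by ring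
    _ = _ := by rw [e2]

theorem card_sol_conj (x c : Cfsg.Sz F m) : Nat.card (Sol (c * x * c⁻¹)) = Nat.card (Sol x) :=
  card_sol_equiv (MulAut.conj c) x

theorem exists_conj_mem_U {x : Cfsg.Sz F m} {i : ℕ} (hx : orderOf x = 2 ^ i) (hx1 : x ≠ 1) :
    ∃ c, c * x * c⁻¹ ∈ U m := by
  obtain ⟨p, hp, -⟩ := exists_unique_fixed m hx hx1
  obtain ⟨c, hc⟩ := exists_smul_eq (Cfsg.Sz F m) p (oInf m : suzukiOvoid F m)
  exact ⟨c, mem_U_of_two_pow m (i := i) (by rw [← MulAut.conj_apply, MulEquiv.orderOf_eq, hx])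
    (by rw [mem_B, mul_smul, mul_smul, ← hc, inv_smul_smul, hp])⟩

theorem solubilizer (hp : (2 * m + 1).Prime) (x : Cfsg.Sz F m) :
    (orderOf x = 2 → Nat.card (Sol x) = Nat.card F ^ 2 * (4 * Nat.card F - 3)) ∧
    (orderOf x = 4 → Nat.card (Sol x) = Nat.card F ^ 2 * (Nat.card F + 3)) ∧
    (x ≠ 1 → orderOf x ∣ 2 ^ (2 * m + 1) - 1 →
      Nat.card (Sol x) = 2 * Nat.card F ^ 2 * (Nat.card F - 1)) ∧
    (x ≠ 1 → orderOf x ∣ aPlus m → Nat.card (Sol x) = 4 * aPlus m) ∧
    (x ≠ 1 → orderOf x ∣ aMinus m → Nat.card (Sol x) = 4 * aMinus m) := by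
  refine ⟨fun h => ?_, fun h => ?_, fun h1 h => ?_, ?_, ?_⟩
  · have hx1 : x ≠ 1 := fun e => by rw [e, orderOf_one] at h; omega
    obtain ⟨c, hc⟩ := exists_conj_mem_U m (i := 1) (by rw [h, pow_one]) hx1
    rw [← card_sol_conj m x c]
    have hsq : c * x * c⁻¹ * (c * x * c⁻¹) = 1 := by
      rw [← pow_two, conj_pow, ← h, pow_orderOf_eq_one, mul_one, mul_inv_cancel]
    obtain ⟨b, hb⟩ := mem_Z_of_sq hc hsq
    rw [hb]
    refine sol_involution m hp (fun e => hx1 ?_)
    rw [e, u_zero, conj_eq_one_iff] at hb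
    exact hb
  · have hx1 : x ≠ 1 := fun e => by rw [e, orderOf_one] at h; omega
    obtain ⟨c, hc⟩ := exists_conj_mem_U m (i := 2) (by rw [h]; rfl) hx1
    rw [← card_sol_conj m x c]
    exact sol_order_four m hp hc (by rw [← MulAut.conj_apply, MulEquiv.orderOf_eq, h])
  · obtain ⟨c1, c2, c3⟩ := coprime_parts (F := F) m
    rw [← card_nat (F := F) m] at h
    have hnf : ¬ FixFree m x := fun hf => h1 (orderOf_eq_one_iff.mp
      (Nat.eq_one_of_dvd_coprimes c3 h (orderOf_dvd_of_fixFree m hf)))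
    rcases exists_conj_U_or_T m hnf with ⟨k, hk⟩ | ⟨k, hk⟩
    · exfalso
      refine h1 (orderOf_eq_one_iff.mp ?_)
      have h2 : orderOf (k * x * k⁻¹) ∣ Nat.card F ^ 2 :=
        card_U (F := F) m ▸ Subgroup.orderOf_dvd_natCard _ hk
      rw [← MulAut.conj_apply, MulEquiv.orderOf_eq] at h2
      exact Nat.eq_one_of_dvd_coprimes (c1.pow_left 2) h2 h
    · rw [← card_sol_conj m x k]
      exact sol_T m hp hk (by rwa [ne_eq, conj_eq_one_iff])
  all_goals
    intro h1 h
    have hf : FixFree m x := fixFree_of_orderOf_dvd m h1 (h.trans (by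
      first | exact aPlus_dvd_Q m | exact aMinus_dvd_Q m))
    rw [sol_fixFree m hp hf]
    congr 1
    have hxV : x ∈ Subgroup.centralizer {x} := Subgroup.mem_centralizer_singleton_iff.mpr rfl
    have hd := Subgroup.orderOf_dvd_natCard _ hxV
    have hcop : Nat.Coprime (aPlus m) (aMinus m) := by
      refine Nat.coprime_of_dvd fun q hq hq1 hq2 => ?_
      obtain ⟨-, -, -, -, -, hle⟩ := part_sizes (F := F) (m := m)
      have h3 : q ∣ 2 ^ (m + 2) := by
        have e : aPlus m - aMinus m = 2 ^ (m + 2) := by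
          rw [pow_succ 2 (m + 1)]; simp only [aPlus, aMinus]; omega
        rw [← e]; exact Nat.dvd_sub hq1 hq2
      have := (Nat.prime_dvd_prime_iff_eq hq Nat.prime_two).mp (hq.dvd_of_dvd_pow h3)
      subst this
      have e1 : 2 ∣ 2 ^ (2 * m + 1) := dvd_pow_self 2 (by omega)
      have e2 : 2 ∣ 2 ^ (m + 1) := dvd_pow_self 2 (by omega)
      simp only [aPlus] at hq1
      omega
    rcases card_centralizer_fixFree m hf with hc | hc
    · first
        | exact hc
        | (exfalso; rw [hc] at hd; exact h1 (orderOf_eq_one_iff.mp (Nat.eq_one_of_dvd_coprimes hcop hd h)))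
    · first
        | exact hc
        | (exfalso; rw [hc] at hd; exact h1 (orderOf_eq_one_iff.mp (Nat.eq_one_of_dvd_coprimes hcop h hd)))

end Cfsg.Agent.Suzuki
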