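import Cfsg.Agent.Suzuki.Simple

/-!
Generators, the invariant alternating form, independence of ovoid points, Sylow 2-subgroup structure.
-/

set_option autoImplicit false

open Cfsg Matrix MulAction
open scoped Pointwise commutatorElement

namespace Cfsg.Agent.Suzuki

variable {F : Type*} [Field F] [Fintype F] (m : ℕ) [SzField F m]

/-- Every element is `u t` or `u t w u'`. -/
theorem bruhat (g : Cfsg.Sz F m) : (∃ a b : F, ∃ s, g = u m a b * t m s) ∨
    ∃ a b : F, ∃ s, ∃ c d : F, g = u m a b * t m s * w m * u m c d := by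
  by_cases h : g • oInf m = (oInf m : suzukiOvoid F m)
  · exact Or.inl (exists_u_t_of_fix_oInf m h)
  right
  rcases ovoid_cases (g⁻¹ • (oInf m : suzukiOvoid F m)) with h' | ⟨x, y, h'⟩
  · rw [inv_smul_eq_iff] at h'
    exact absurd h'.symm h
  · have h1 : (g * u m x y * w m) • oInf m = (oInf m : suzukiOvoid F m) := by
      rw [mul_smul, mul_smul, w_smul_oInf, u_smul_oPt]
      simpa using (inv_smul_eq_iff.mp h').symm
    obtain ⟨a, b, s, hs⟩ := exists_u_t_of_fix_oInf m h1
    refine ⟨a, b, s, x, y + th m x * x, ?_⟩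
    rw [← u_inv, ← hs, mul_assoc (g * u m x y), w_mul_w, mul_one, mul_inv_cancel_right]

theorem mem_of_generators {H : Subgroup (Cfsg.Sz F m)} (hu : ∀ a b : F, u m a b ∈ H)
    (ht : ∀ s : Fˣ, t m s ∈ H) (hw : w m ∈ H) (g : Cfsg.Sz F m) : g ∈ H := by
  rcases bruhat m g with ⟨a, b, s, rfl⟩ | ⟨a, b, s, c, d, rfl⟩
  · exact mul_mem (hu a b) (ht s)
  · exact mul_mem (mul_mem (mul_mem (hu a b) (ht s)) hw) (hu c d)

theorem form_u (a b : F) : (uMat m a b).transpose * suzukiForm F * uMat m a b = suzukiForm F := by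
  ext i j
  fin_cases i <;> fin_cases j <;>
    simp [uMat, suzukiForm, Matrix.vecMul, dotProduct, Matrix.mul_apply, Fin.sum_univ_four]
  all_goals char_two_ring (m)

omit [Fintype F] [SzField F m] in
theorem form_t (s : Fˣ) : (tMat m s).transpose * suzukiForm F * tMat m s = suzukiForm F := by
  have h1 : (s : F) ≠ 0 := s.ne_zero
  have h2 : th m (s : F) ≠ 0 := by simp
  rw [tMat, Matrix.diagonal_transpose]
  ext i j
  fin_cases i <;> fin_cases j <;>
    simp [suzukiForm, Matrix.diagonal_mul, Matrix.mul_diagonal] <;> field_simp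

theorem preserves_form {g : Matrix.SpecialLinearGroup (Fin 4) F} (hg : g ∈ Cfsg.Sz F m) :
    (g : Matrix (Fin 4) (Fin 4) F).transpose * suzukiForm F * (g : Matrix (Fin 4) (Fin 4) F) =
      suzukiForm F := by
  let S : Submonoid (Cfsg.Sz F m) :=
    { carrier := {g | (g.1 : Matrix (Fin 4) (Fin 4) F).transpose * suzukiForm F * g.1 = suzukiForm F}
      one_mem' := by simp
      mul_mem' := by
        intro a b ha hb
        simp only [Set.mem_setOf_eq, Subgroup.coe_mul, Matrix.SpecialLinearGroup.coe_mul,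
          Matrix.transpose_mul] at ha hb ⊢
        calc _ = b.1.1.transpose * (a.1.1.transpose * suzukiForm F * a.1.1) * b.1.1 := by
              simp [Matrix.mul_assoc]
          _ = _ := by rw [ha, hb] }
  suffices (⟨g, hg⟩ : Cfsg.Sz F m) ∈ S from this
  have hu : ∀ a b : F, u m a b ∈ S := fun a b => form_u m a b
  have ht : ∀ s : Fˣ, t m s ∈ S := fun s => form_t m s
  have hw : w m ∈ S := by
    show (!![0, 0, 0, 1; 0, 0, 1, 0; 0, 1, 0, 0; 1, 0, 0, 0] : Matrix (Fin 4) (Fin 4) F).transpose *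
      suzukiForm F * _ = _
    ext i j
    fin_cases i <;> fin_cases j <;>
      simp [w, coe_wSL, suzukiForm, Matrix.vecMul, dotProduct, Matrix.mul_apply, Fin.sum_univ_four]
  rcases bruhat m ⟨g, hg⟩ with ⟨a, b, s, h⟩ | ⟨a, b, s, c, d, h⟩
  · rw [h]; exact mul_mem (hu a b) (ht s)
  · rw [h]; exact mul_mem (mul_mem (mul_mem (hu a b) (ht s)) hw) (hu c d)

theorem independent_three (p : Fin 3 ↪ suzukiOvoid F m) :
    Projectivization.Independent (fun i => (p i : Projectivization F (Fin 4 → F))) := by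
  have h2 := two_pretransitive (F := F) m
  rw [is_two_pretransitive_iff] at h2
  obtain ⟨g, hg0, hg1⟩ := h2 (p.injective.ne (show (0 : Fin 3) ≠ 1 by decide))
    (oPt_ne_oInf m (0 : F) 0).symm
  rcases ovoid_cases (g • p 2) with h | ⟨x, y, h⟩
  · exact absurd (p.injective (smul_left_cancel g (h.trans hg0.symm))) (by decide)
  have hxy : ¬ (x = 0 ∧ y = 0) := by
    rintro ⟨rfl, rfl⟩
    exact absurd (p.injective (smul_left_cancel g (h.trans hg1.symm))) (by decide)
  set v : Fin 3 → Fin 4 → F := ![![1, 0, 0, 0], ![0, 0, 0, 1], ![ovf m x y, y, x, 1]] with hv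
  have hv0 : ∀ i, v i ≠ 0 := by
    intro i h'
    fin_cases i
    · simpa [hv] using congrFun h' 0
    · simpa [hv] using congrFun h' 3
    · simpa [hv] using congrFun h' 3
  have hvi : LinearIndependent F v := by
    rw [Fintype.linearIndependent_iff]
    intro c hc
    have e0 := congrFun hc 0
    have e1 := congrFun hc 1
    have e2 := congrFun hc 2
    have e3 := congrFun hc 3
    simp [hv, Fin.sum_univ_three] at e0 e1 e2 e3
    have hc2 : c 2 = 0 := by
      by_contra hne
      exact hxy ⟨e2.resolve_left hne, e1.resolve_left hne⟩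
    intro i
    fin_cases i
    · simpa [hc2] using e0
    · simpa [hc2] using e3
    · exact hc2
  have hgp : ∀ i, ((g • p i : suzukiOvoid F m) : Projectivization F (Fin 4 → F)) =
      Projectivization.mk F (v i) (hv0 i) := by
    intro i
    fin_cases i
    · exact (congrArg Subtype.val hg0).trans rfl
    · refine (congrArg Subtype.val hg1).trans ?_
      exact (pointZero_eq m).symm.trans rfl
    · exact (congrArg Subtype.val h).trans rfl
  let g' : Matrix.SpecialLinearGroup (Fin 4) F := (g : Matrix.SpecialLinearGroup (Fin 4) F)⁻¹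
  have hinj : LinearIndependent F (fun i => g' • v i) :=
    hvi.map' (DistribMulAction.toLinearMap F (Fin 4 → F) g')
      (LinearMap.ker_eq_bot.mpr (MulAction.injective g'))
  have hp : (fun i => (p i : Projectivization F (Fin 4 → F))) =
      fun i => Projectivization.mk F (g' • v i) ((smul_ne_zero_iff_ne g').mpr (hv0 i)) := by
    funext i
    rw [← Projectivization.smul_mk g' (hv0 i), ← hgp i]
    exact congrArg Subtype.val (inv_smul_smul g (p i)).symm
  rw [hp]
  exact Projectivization.Independent.mk _ _ hinj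

theorem exponent_U : Monoid.exponent (U m : Subgroup (Cfsg.Sz F m)) = 4 := by
  show _ = 2 ^ 2
  have hdvd : Monoid.exponent (U m : Subgroup (Cfsg.Sz F m)) ∣ 2 ^ 2 := by
    rw [Monoid.exponent_dvd_iff_forall_pow_eq_one]
    rintro ⟨g, hg⟩
    obtain ⟨a, b, rfl⟩ := (mem_U m).mp hg
    apply Subtype.ext
    simp only [Subgroup.coe_pow, Subgroup.coe_one]
    rw [show (2 : ℕ) ^ 2 = 2 * 2 from rfl, pow_mul, pow_two, pow_two, u_sq, u_sq]
    simp
  obtain ⟨k, hk, he⟩ := (Nat.dvd_prime_pow Nat.prime_two).mp hdvd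
  have : k = 2 := by
    by_contra hne
    have h2 : Monoid.exponent (U m : Subgroup (Cfsg.Sz F m)) ∣ 2 := by
      rw [he]
      calc 2 ^ k ∣ 2 ^ 1 := pow_dvd_pow 2 (by omega)
        _ = 2 := rfl
    rw [Monoid.exponent_dvd_iff_forall_pow_eq_one] at h2
    have h3 := congrArg Subtype.val (h2 ⟨u m 1 0, u_mem_U m 1 0⟩)
    simp only [pow_two, Subgroup.coe_mul, Subgroup.coe_one] at h3
    rw [u_sq, u_eq_one] at h3
    simp at h3
  rw [he, this]

theorem mem_center_U {g : (U m : Subgroup (Cfsg.Sz F m))} :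
    g ∈ Subgroup.center (U m : Subgroup (Cfsg.Sz F m)) ↔ ∃ b : F, (g : Cfsg.Sz F m) = u m 0 b := by
  obtain ⟨g, hg⟩ := g
  obtain ⟨a, b, rfl⟩ := (mem_U m).mp hg
  constructor
  · intro h
    rw [Subgroup.mem_center_iff] at h
    have key : ∀ c : F, th m c * a = th m a * c := by
      intro c
      have h1 := congrArg Subtype.val (h ⟨u m c 0, u_mem_U m c 0⟩)
      simp only [Subgroup.coe_mul, u_mul, u_inj] at h1
      linear_combination h1.2
    refine ⟨b, ?_⟩
    by_contra hne
    have ha : a ≠ 0 := fun h0 => hne ((u_inj m).mpr ⟨h0, rfl⟩)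
    obtain ⟨x, hx0, hx1⟩ := exists_ne_zero_one (F := F) m
    have h1 := key 1
    have hx := key x
    rw [th_one, one_mul, mul_one] at h1
    rw [← h1] at hx
    rcases th_eq_self m (mul_right_cancel₀ ha (hx.trans (mul_comm a x))) with h | h
    · exact hx0 h
    · exact hx1 h
  · rintro ⟨d, hd⟩
    have ha := ((u_inj m).mp hd).1
    subst ha
    rw [Subgroup.mem_center_iff]
    rintro ⟨x, hx⟩
    obtain ⟨c, e, rfl⟩ := (mem_U m).mp hx
    apply Subtype.ext
    simp [u_mul, add_comm]

theorem center_U_eq_commutator :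
    Subgroup.center (U m : Subgroup (Cfsg.Sz F m)) = commutator (U m : Subgroup (Cfsg.Sz F m)) := by
  apply le_antisymm
  · intro g hg
    obtain ⟨z, hz⟩ := (mem_center_U m).mp hg
    -- write `z` as a single commutator
    obtain ⟨x, hx0, hx1⟩ := exists_ne_zero_one (F := F) m
    set h := th m x + x with hh
    have hh0 : h ≠ 0 := fun h0 => by
      rcases th_eq_self m (eq_of_add_eq_zero m h0) with h1 | h1 <;> contradiction
    obtain ⟨a, ha⟩ := (mul_th_bijective (F := F) m).2 (z / h)
    dsimp at ha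
    have e : ⁅(⟨u m a 0, u_mem_U m a 0⟩ : (U m : Subgroup (Cfsg.Sz F m))),
        ⟨u m (a * x) 0, u_mem_U m _ _⟩⁆ = g := by
      apply Subtype.ext
      rw [hz]
      simp only [commutatorElement_def, Subgroup.coe_mul, Subgroup.coe_inv]
      rw [← commutatorElement_def, u_commutator, u_inj]
      refine ⟨rfl, ?_⟩
      rw [th_mul]
      have : (z / h) * h = z := div_mul_cancel₀ z hh0
      rw [← ha, hh] at this
      linear_combination this
    rw [← e]
    exact Subgroup.commutator_mem_commutator trivial trivial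
  · rw [commutator_def, Subgroup.commutator_le]
    rintro ⟨x, hx⟩ _ ⟨y, hy⟩ _
    rw [mem_center_U]
    obtain ⟨a, b, rfl⟩ := (mem_U m).mp hx
    obtain ⟨c, d, rfl⟩ := (mem_U m).mp hy
    exact ⟨_, u_commutator m a b c d⟩

theorem card_center_U :
    Nat.card (Subgroup.center (U m : Subgroup (Cfsg.Sz F m))) = Nat.card F := by
  refine (Nat.card_congr (Equiv.ofBijective
    (fun b : F => (⟨⟨u m 0 b, u_mem_U m 0 b⟩, (mem_center_U m).mpr ⟨b, rfl⟩⟩ :
      Subgroup.center (U m : Subgroup (Cfsg.Sz F m)))) ⟨?_, ?_⟩)).symm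
  · intro b c h
    exact ((u_inj m).mp (congrArg (fun g => g.1.1) h)).2
  · rintro ⟨g, hg⟩
    obtain ⟨b, hb⟩ := (mem_center_U m).mp hg
    exact ⟨b, Subtype.ext (Subtype.ext hb.symm)⟩

/-- Every Sylow 2-subgroup is isomorphic to `U`. -/
theorem exists_sylow_iso (P : Sylow 2 (Cfsg.Sz F m)) :
    Nonempty ((U m : Subgroup (Cfsg.Sz F m)) ≃* (P : Subgroup (Cfsg.Sz F m))) := by
  obtain ⟨g, hg⟩ := exists_conj_U m P
  exact ⟨(Subgroup.equivMapOfInjective (U m) _ (MulAut.conj g).injective).trans
    (MulEquiv.subgroupCongr hg.symm)⟩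

end Cfsg.Agent.Suzuki
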