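import Cfsg.Agent.Suzuki.Lie
import Cfsg.Agent.H53.TopProd
import Cfsg.Agent.H53.Words

/-!
A non-trivial word is a law in only finitely many Suzuki groups.
-/

set_option autoImplicit false

open Cfsg MulAction Polynomial Matrix

namespace Cfsg.Agent.Suzuki

variable {F : Type*} [Field F] [Fintype F] (m : ℕ) [SzField F m]

theorem th_add_self_ne_one (z : F) : z + th m z ≠ 1 := by
  intro e1
  have e2 : th m z + z ^ 2 = 1 := by
    have := congrArg (th m) e1
    rwa [th_add, th_th, th_one] at this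
  have e3 : z * (z - 1) = 0 := by linear_combination e2 - e1
  rcases mul_eq_zero.mp e3 with h | h
  · rw [h] at e1; simp at e1
  · rw [sub_eq_zero.mp h, th_one] at e1
    exact one_ne_zero (by linear_combination e1)

/-- Conjugating elements in general position. -/
def genElt (y : F) : Cfsg.Sz F m := u m 0 y * w m * u m 0 1

theorem genElt_corner {y y' : F} (h : y ≠ y') :
    ∀ i ∈ ({0, 3} : Finset (Fin 4)), ∀ j ∈ ({0, 3} : Finset (Fin 4)),
      (((genElt m y)⁻¹ * genElt m y' : Cfsg.Sz F m).1 : Matrix (Fin 4) (Fin 4) F) i j ≠ 0 := by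
  have hz : y + y' ≠ 0 := fun h0 => h (eq_of_add_eq_zero m h0)
  have e : (genElt m y)⁻¹ * genElt m y' = u m 0 1 * (w m * u m 0 (y + y') * w m) * u m 0 1 := by
    rw [genElt, genElt, _root_.mul_inv_rev, _root_.mul_inv_rev, w_inv, u_inv, u_inv]
    have h1 : u m 0 y * u m 0 y' = u m 0 (y + y') := by rw [u_mul]; simp
    simp only [th_zero, zero_mul, add_zero]
    calc u m 0 1 * (w m * u m 0 y) * (u m 0 y' * w m * u m 0 1)
        = u m 0 1 * (w m * (u m 0 y * u m 0 y') * w m) * u m 0 1 := by group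
      _ = _ := by rw [h1]
  have hne : (1 : F) + (y + y') + th m (y + y') ≠ 0 := fun h0 =>
    th_add_self_ne_one m (y + y')
      (eq_of_add_eq_zero m (by linear_combination h0) : (y + y') + th m (y + y') = 1)
  have hth : th m (y + y') ≠ 0 := fun h0 => hz ((th_eq_zero m).mp h0)
  intro i hi j hj
  rw [e]
  simp only [Subgroup.coe_mul, Matrix.SpecialLinearGroup.coe_mul]
  show ((uMat m (0 : F) 1 * ((!![0, 0, 0, 1; 0, 0, 1, 0; 0, 1, 0, 0; 1, 0, 0, 0] : Matrix (Fin 4) (Fin 4) F) *
    uMat m (0 : F) (y + y') * !![0, 0, 0, 1; 0, 0, 1, 0; 0, 1, 0, 0; 1, 0, 0, 0]) * uMat m (0 : F) 1) : Matrix (Fin 4) (Fin 4) F) i j ≠ 0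
  simp only [Finset.mem_insert, Finset.mem_singleton] at hi hj
  rcases hi with rfl | rfl <;> rcases hj with rfl | rfl <;>
    simp [uMat, ovf, Matrix.mul_apply, Matrix.vecMul, dotProduct, Fin.sum_univ_four]
  all_goals intro h0
  all_goals first
    | exact hz h0
    | (refine hne ?_; linear_combination (norm := ((char_two_ring (m)); done)) h0; done)
    | (refine hth ?_; linear_combination (norm := ((char_two_ring (m)); done)) h0; done)

theorem exists_lift_ne_one (word : FreeGroup ℕ) (hw : word ≠ 1) (hm : word.toWord.length + 3 ≤ m) :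
    ∃ f : ℕ → Cfsg.Sz F m, FreeGroup.lift f word ≠ 1 := by
  classical
  set L := word.toWord with hL
  have hq : Fintype.card F = 2 ^ (2 * m + 1) := SzField.card_eq
  have hlt : L.length < 2 ^ m := lt_of_le_of_lt (by omega : L.length ≤ m) Nat.lt_two_pow_self
  obtain ⟨ι, hι⟩ : ∃ ι : (L.map Prod.fst).toFinset → F, Function.Injective ι := by
    have hle : Fintype.card (L.map Prod.fst).toFinset ≤ Fintype.card F := by
      rw [Fintype.card_coe, hq]
      calc (L.map Prod.fst).toFinset.card ≤ (L.map Prod.fst).length := List.toFinset_card_le _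
        _ = L.length := List.length_map _
        _ ≤ 2 ^ m := hlt.le
        _ ≤ 2 ^ (2 * m + 1) := Nat.pow_le_pow_right (by norm_num) (by omega)
    exact ⟨_, (Function.Embedding.nonempty_of_card_le hle).some.injective⟩
  let y : ℕ → F := fun i => if h : i ∈ (L.map Prod.fst).toFinset then ι ⟨i, h⟩ else 0
  have hy : ∀ x ∈ L, ∀ x' ∈ L, x.1 ≠ x'.1 → y x.1 ≠ y x'.1 := by
    intro x hx x' hx' hne h
    have h1 : x.1 ∈ (L.map Prod.fst).toFinset := List.mem_toFinset.mpr (List.mem_map_of_mem hx)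
    have h2 : x'.1 ∈ (L.map Prod.fst).toFinset := List.mem_toFinset.mpr (List.mem_map_of_mem hx')
    simp only [y, dif_pos h1, dif_pos h2] at h
    exact hne (congrArg Subtype.val (hι h))
  set E := 2 ^ (m + 1) + 1 with hE
  let Cm : ℕ → Matrix (Fin 4) (Fin 4) F := fun i => ((genElt m (y i)).1 : Matrix (Fin 4) (Fin 4) F)
  let Ci : ℕ → Matrix (Fin 4) (Fin 4) F := fun i => (((genElt m (y i))⁻¹).1 : Matrix (Fin 4) (Fin 4) F)
  let D : Bool → Fin 4 → F[X] := fun b => if b then ![X ^ (2 * E), X ^ (E + 1), X ^ (E - 1), 1]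
    else ![1, X ^ (E - 1), X ^ (E + 1), X ^ (2 * E)]
  let A : ℕ × Bool → Matrix (Fin 4) (Fin 4) F[X] := fun x =>
    (Cm x.1).map (fun c => Polynomial.C c) * Matrix.diagonal (D x.2) *
      (Ci x.1).map (fun c => Polynomial.C c)
  let top : Bool → Fin 4 := fun b => if b then 0 else 3
  have hE1 : E + 1 < 2 * E := by
    have : 1 ≤ 2 ^ (m + 1) := Nat.one_le_two_pow
    omega
  have hD : ∀ b i, (D b i).natDegree ≤ 2 * E ∧ (D b i).coeff (2 * E) = if i = top b then 1 else 0 := by
    intro b i
    cases b <;> fin_cases i <;>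
      simp [D, top, Polynomial.coeff_X_pow, Polynomial.coeff_one, show E ≠ 0 by omega,
        show 2 * E ≠ E + 1 by omega, show 2 * E ≠ E - 1 by omega] <;> omega
  have hdeg : ∀ x, Cfsg.Agent.H53.DegLE (2 * E) (A x) := by
    intro x i j
    simp only [A, Matrix.mul_apply, Matrix.diagonal_apply, Matrix.map_apply, mul_ite, mul_zero,
      Finset.sum_ite_eq', Finset.mem_univ, if_true]
    refine natDegree_sum_le_of_forall_le _ _ (fun k _ => (natDegree_mul_C_le _ _).trans ?_)
    exact (natDegree_C_mul_le _ _).trans (hD _ _).1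
  have htop : ∀ x, Cfsg.Agent.H53.coeffMat (2 * E) (A x) =
      Matrix.vecMulVec (fun r => Cm x.1 r (top x.2)) (fun c => Ci x.1 (top x.2) c) := by
    intro x
    ext i j
    simp only [A, Cfsg.Agent.H53.coeffMat, Matrix.map_apply, Matrix.mul_apply, Matrix.diagonal_apply,
      mul_ite, mul_zero, Finset.sum_ite_eq', Finset.mem_univ, if_true, finset_sum_coeff,
      Polynomial.coeff_mul_C, Polynomial.coeff_C_mul, (hD _ _).2, mul_one, ite_mul,
      zero_mul, Matrix.vecMulVec_apply]
  let R : ℕ × Bool → ℕ × Bool → Prop := fun x x' =>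
    (x.1 = x'.1 → x.2 = x'.2) ∧ (x.1 ≠ x'.1 → y x.1 ≠ y x'.1)
  have hmul : ∀ i j (p p' : Fin 4), (fun c => Ci i p c) ⬝ᵥ (fun r => Cm j r p') =
      (((genElt m (y i))⁻¹ * genElt m (y j) : Cfsg.Sz F m).1 : Matrix (Fin 4) (Fin 4) F) p p' := by
    intro i j p p'
    rfl
  have htopmem : ∀ b, top b ∈ ({0, 3} : Finset (Fin 4)) := fun b => by cases b <;> simp [top]
  have hR : ∀ x x', R x x' → (fun c => Ci x.1 (top x.2) c) ⬝ᵥ (fun r => Cm x'.1 r (top x'.2)) ≠ 0 := by
    intro x x' hxx
    rw [hmul]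
    by_cases h : x.1 = x'.1
    · rw [← hxx.1 h, ← h, inv_mul_cancel]
      simp
    · exact genElt_corner m (hxx.2 h) _ (htopmem _) _ (htopmem _)
  have hchain : List.IsChain R L := by
    have hred : List.IsChain (fun a b : ℕ × Bool => a.1 = b.1 → a.2 = b.2) L :=
      FreeGroup.isReduced_toWord
    exact hred.imp_of_mem_imp (fun a b ha hb h => ⟨h, hy a ha b hb⟩)
  have hne : L ≠ [] := fun h => hw (FreeGroup.toWord_eq_nil_iff.mp h)
  have hu : ∀ x : ℕ × Bool, (fun r => Cm x.1 r (top x.2)) ≠ 0 := by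
    intro x h
    have := hR x x ⟨fun _ => rfl, fun h => absurd rfl h⟩
    exact this (by rw [h, dotProduct_zero])
  have hv : ∀ x : ℕ × Bool, (fun c => Ci x.1 (top x.2) c) ≠ 0 := by
    intro x h
    have := hR x x ⟨fun _ => rfl, fun h => absurd rfl h⟩
    exact this (by rw [h, zero_dotProduct])
  have hT : 2 * E * L.length < (Finset.univ.erase (0 : F)).card := by
    rw [Finset.card_erase_of_mem (Finset.mem_univ _), Finset.card_univ, hq, hE]
    have h2 : 2 ^ (2 * m + 1) = 2 * (2 ^ m * 2 ^ m) := by ring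
    have h3 : 2 ^ (m + 1) = 2 * 2 ^ m := by ring
    have h8 : 8 * L.length + 8 ≤ 2 ^ m := by
      have h4 : L.length < 2 ^ L.length := Nat.lt_two_pow_self
      calc 8 * L.length + 8 ≤ 8 * 2 ^ L.length := by omega
        _ = 2 ^ (L.length + 3) := by ring
        _ ≤ 2 ^ m := Nat.pow_le_pow_right (by norm_num) hm
    rw [h2, h3]
    apply Nat.lt_sub_of_add_lt
    nlinarith
  obtain ⟨s, hsT, hs⟩ := Cfsg.Agent.H53.exists_eval_ne R A _ _ (2 * E) E (by omega) hdeg htop hR hu hv
    L hchain hne _ hT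
  have hs0 : s ≠ 0 := Finset.ne_of_mem_erase hsT
  set σ := t m (Units.mk0 s hs0)
  refine ⟨fun i => genElt m (y i) * σ * (genElt m (y i))⁻¹, fun h1 => hs ?_⟩
  have heval : ∀ x : ℕ × Bool, (A x).map (Polynomial.evalRingHom s) =
      s ^ E • ((cond x.2 (genElt m (y x.1) * σ * (genElt m (y x.1))⁻¹)
        (genElt m (y x.1) * σ * (genElt m (y x.1))⁻¹)⁻¹).1 : Matrix (Fin 4) (Fin 4) F) := by
    intro x
    have hC : ∀ M : Matrix (Fin 4) (Fin 4) F,
        (M.map (fun c => Polynomial.C c)).map (Polynomial.evalRingHom s) = M := by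
      intro M; ext i j; simp
    have hdiag : (Matrix.diagonal (D x.2)).map (Polynomial.evalRingHom s) =
        s ^ E • ((cond x.2 σ σ⁻¹).1 : Matrix (Fin 4) (Fin 4) F) := by
      rw [Matrix.diagonal_map (map_zero _)]
      have e1 : th m s = s ^ (2 ^ (m + 1)) := rfl
      have e2 : s ^ E = th m s * s := by rw [hE, pow_succ, e1]
      have hth : th m s ≠ 0 := by simpa using hs0
      have e3 : s ^ (E - 1) = th m s := by rw [hE, Nat.add_sub_cancel, e1]
      cases x.2
      · simp only [cond_false, σ, ← map_inv]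
        show _ = s ^ E • tMat m _
        ext i j
        fin_cases i <;> fin_cases j <;>
          simp [D, tMat, th_inv, two_mul, pow_add, e2, e3] <;> field_simp
      · simp only [cond_true, σ]
        show _ = s ^ E • tMat m _
        ext i j
        fin_cases i <;> fin_cases j <;>
          simp [D, tMat, two_mul, pow_add, e2, e3, hs0] <;> field_simp
    simp only [A, Matrix.map_mul, hC, hdiag]
    rw [Matrix.mul_smul, Matrix.smul_mul]
    congr 1
    cases x.2
    · rw [cond_false, cond_false, _root_.mul_inv_rev, _root_.mul_inv_rev, inv_inv, ← mul_assoc]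
      rfl
    · rfl
  have hprod : ∀ l : List (ℕ × Bool), ((l.map A).prod).map (Polynomial.evalRingHom s) =
      s ^ (E * l.length) • (((l.map (fun x : ℕ × Bool =>
        cond x.2 (genElt m (y x.1) * σ * (genElt m (y x.1))⁻¹)
          (genElt m (y x.1) * σ * (genElt m (y x.1))⁻¹)⁻¹)).prod).1 : Matrix (Fin 4) (Fin 4) F) := by
    intro l
    induction l with
    | nil => simp
    | cons x l ih =>
      rw [List.map_cons, List.map_cons, List.prod_cons, List.prod_cons, Matrix.map_mul, heval, ih,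
        List.length_cons, show E * (l.length + 1) = E + E * l.length by ring,
        pow_add s E (E * l.length), Matrix.smul_mul, Matrix.mul_smul, smul_smul]
      rfl
  rw [hprod, show word = FreeGroup.mk L from FreeGroup.mk_toWord.symm, FreeGroup.lift_mk] at *
  rw [h1]
  rfl

end Cfsg.Agent.Suzuki
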