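import Cfsg.Agent.Suzuki.Cover
import Cfsg.Agent.Suzuki.Lie

/-!
Automorphisms of the Suzuki group: the outer automorphism group is the group of field automorphisms.
-/

set_option autoImplicit false

open Cfsg MulAction Matrix
open scoped Pointwise

namespace Cfsg.Agent.Suzuki

variable {F : Type*} [Field F] [Fintype F] (m : ℕ) [SzField F m]

theorem slMap_u (φ : F ≃+* F) (a b : F) :
    Matrix.SpecialLinearGroup.map φ.toRingHom (uSL m a b) = uSL m (φ a) (φ b) := by
  apply Subtype.ext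
  show (uMat m a b).map φ = uMat m (φ a) (φ b)
  ext i j
  fin_cases i <;> fin_cases j <;> simp [uMat, ovf, th_def, map_add, map_mul, map_pow]

theorem slMap_t (φ : F ≃+* F) (s : Fˣ) :
    Matrix.SpecialLinearGroup.map φ.toRingHom (tSL m s) = tSL m (Units.map φ.toMonoidHom s) := by
  apply Subtype.ext
  show (tMat m s).map φ = tMat m _
  ext i j
  fin_cases i <;> fin_cases j <;> simp [tMat, th_def, map_mul, map_pow, map_inv₀]

omit [Fintype F] in
theorem slMap_w (φ : F ≃+* F) :
    Matrix.SpecialLinearGroup.map φ.toRingHom (wSL : Matrix.SpecialLinearGroup (Fin 4) F) = wSL := by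
  apply Subtype.ext
  show (!![0, 0, 0, 1; 0, 0, 1, 0; 0, 1, 0, 0; 1, 0, 0, 0] : Matrix (Fin 4) (Fin 4) F).map φ = _
  ext i j
  fin_cases i <;> fin_cases j <;> simp [coe_wSL]

theorem slMap_mem (φ : F ≃+* F) {g : Matrix.SpecialLinearGroup (Fin 4) F} (hg : g ∈ Cfsg.Sz F m) :
    Matrix.SpecialLinearGroup.map φ.toRingHom g ∈ Cfsg.Sz F m := by
  have := mem_of_generators m
    (H := (Cfsg.Sz F m).comap ((Matrix.SpecialLinearGroup.map φ.toRingHom).comp (Cfsg.Sz F m).subtype))
    (fun a b => by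
      show Matrix.SpecialLinearGroup.map φ.toRingHom (uSL m a b) ∈ Cfsg.Sz F m
      rw [slMap_u]; exact uSL_mem_Sz m _ _)
    (fun s => by
      show Matrix.SpecialLinearGroup.map φ.toRingHom (tSL m s) ∈ Cfsg.Sz F m
      rw [slMap_t]; exact tSL_mem_Sz m _)
    (by
      show Matrix.SpecialLinearGroup.map φ.toRingHom wSL ∈ Cfsg.Sz F m
      rw [slMap_w]; exact wSL_mem_Sz m)
    ⟨g, hg⟩
  exact this

theorem slMap_map (φ ψ : F ≃+* F) (g : Matrix.SpecialLinearGroup (Fin 4) F) :
    Matrix.SpecialLinearGroup.map φ.toRingHom (Matrix.SpecialLinearGroup.map ψ.toRingHom g) =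
      Matrix.SpecialLinearGroup.map (ψ.trans φ).toRingHom g := by
  apply Subtype.ext
  ext i j
  rfl

/-- The automorphism of the Suzuki group induced by a field automorphism. -/
def fieldAut : (F ≃+* F) →* MulAut (Cfsg.Sz F m) where
  toFun φ :=
    { toFun := fun g => ⟨Matrix.SpecialLinearGroup.map φ.toRingHom g.1, slMap_mem m φ g.2⟩
      invFun := fun g => ⟨Matrix.SpecialLinearGroup.map φ.symm.toRingHom g.1, slMap_mem m φ.symm g.2⟩
      left_inv := fun g => Subtype.ext (by
        show Matrix.SpecialLinearGroup.map φ.symm.toRingHom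
          (Matrix.SpecialLinearGroup.map φ.toRingHom g.1) = g.1
        rw [slMap_map]
        apply Subtype.ext
        ext i j
        exact φ.symm_apply_apply _)
      right_inv := fun g => Subtype.ext (by
        show Matrix.SpecialLinearGroup.map φ.toRingHom
          (Matrix.SpecialLinearGroup.map φ.symm.toRingHom g.1) = g.1
        rw [slMap_map]
        apply Subtype.ext
        ext i j
        exact φ.apply_symm_apply _)
      map_mul' := fun g h => Subtype.ext (MonoidHom.map_mul _ g.1 h.1) }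
  map_one' := MulEquiv.ext fun g => Subtype.ext (Subtype.ext (by ext i j; rfl))
  map_mul' φ ψ := MulEquiv.ext fun g => Subtype.ext (Subtype.ext (by ext i j; rfl))

theorem fieldAut_u (φ : F ≃+* F) (a b : F) : fieldAut m φ (u m a b) = u m (φ a) (φ b) :=
  Subtype.ext (slMap_u m φ a b)

theorem fieldAut_t (φ : F ≃+* F) (s : Fˣ) : fieldAut m φ (t m s) = t m (Units.map φ.toMonoidHom s) :=
  Subtype.ext (slMap_t m φ s)

/-- An element normalising `U` and `T` lies in `T`. -/
theorem mem_T_of_normalizes {g : Cfsg.Sz F m} (hgB : g ∈ B m)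
    (hg : ∀ s, g * t m s * g⁻¹ ∈ T m) : g ∈ T m := by
  obtain ⟨x, hx0, hx1⟩ := exists_ne_zero_one (F := F) m
  have hs : Units.mk0 x hx0 ≠ 1 := fun h => hx1 (congrArg Units.val h)
  rcases T_TI m (t_mem_T m _) ((t_ne_one m).mpr hs) (hg (Units.mk0 x hx0)) with h | h
  · exact h
  · exfalso
    have h' := T_le_B m h
    rw [mem_B, mul_smul, w_smul_oInf] at h'
    exact oPt_ne_oInf m _ _ (smul_left_cancel g (h'.trans ((mem_B m).mp hgB).symm))

/-- An automorphism fixing `U` and `T` pointwise up to the given data is trivial. -/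
theorem aut_eq_one {α : MulAut (Cfsg.Sz F m)} (hu : ∀ a b, α (u m a b) = u m a b)
    (ht : ∀ s, α (t m s) = t m s) : α = 1 := by
  have hB : ∀ g ∈ B (F := F) m, α g = g := by
    intro g hg
    obtain ⟨a, b, s, rfl⟩ := exists_u_t_of_fix_oInf m hg
    rw [map_mul, hu, ht]
  -- the induced permutation of the points is trivial
  have hw : α (w m) • oInf m = oPt m (0 : F) 0 := by
    obtain ⟨x, hx0, hx1⟩ := exists_ne_zero_one (F := F) m
    have hs : Units.mk0 x hx0 ≠ 1 := fun h => hx1 (congrArg Units.val h)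
    have h1 : α (w m) * t m (Units.mk0 x hx0) * (α (w m))⁻¹ ∈ T m := by
      have e := congrArg α (w_t m (Units.mk0 x hx0))
      rw [map_mul, map_mul, map_inv, ht, ht] at e
      rw [e]; exact t_mem_T m _
    rcases T_TI m (t_mem_T m _) ((t_ne_one m).mpr hs) h1 with h | h
    · exfalso
      obtain ⟨r, hr⟩ := (mem_T m).mp h
      have e : w m = t m r := α.injective (hr.trans (ht r).symm)
      have h' := congrArg (fun g => g • (oInf m : suzukiOvoid F m)) e
      simp only [w_smul_oInf, t_smul_oInf] at h'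
      exact oPt_ne_oInf m _ _ h'
    · obtain ⟨r, hr⟩ := (mem_T m).mp h
      have e : α (w m) = t m r * w m := by rw [← hr, mul_assoc, w_mul_w, mul_one]
      rw [e, mul_smul, w_smul_oInf, t_smul_oPt]
      simp
  have key : ∀ g, α g • oInf m = g • (oInf m : suzukiOvoid F m) := by
    intro g
    rcases bruhat m g with ⟨a, b, s, rfl⟩ | ⟨a, b, s, c, d, rfl⟩
    · rw [map_mul, hu, ht]
    · rw [map_mul, map_mul, map_mul, hu, ht, hu, mul_smul, mul_smul, mul_smul, mul_smul, mul_smul,
        mul_smul, u_smul_oInf, hw, w_smul_oInf]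
  ext1 g
  refine FaithfulSMul.eq_of_smul_eq_smul (α := suzukiOvoid F m) (fun p => ?_)
  obtain ⟨k, hk⟩ := exists_smul_eq (Cfsg.Sz F m) (oInf m : suzukiOvoid F m) p
  rw [MulAut.one_apply, ← hk]
  calc α g • k • oInf m = α g • α k • (oInf m : suzukiOvoid F m) := by rw [key k]
    _ = α (g * k) • oInf m := by rw [map_mul, mul_smul]
    _ = g • k • oInf m := by rw [key, mul_smul]

/-- Every automorphism is a field automorphism followed by an inner one. -/
theorem aut_decomp (α : MulAut (Cfsg.Sz F m)) :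
    ∃ (φ : F ≃+* F) (k : Cfsg.Sz F m), α = MulAut.conj k * fieldAut m φ := by
  classical
  -- make `α` fix `U`
  obtain ⟨k₁, hk₁⟩ := exists_conj_U m ((sylowU m).mapSurjective (f := α.toMonoidHom) α.surjective)
  set α₁ := MulAut.conj k₁⁻¹ * α with hα₁
  have hconj : ∀ (k : Cfsg.Sz F m) x, MulAut.conj k x = k * x * k⁻¹ := fun k x => MulAut.conj_apply k x
  have hU₁ : ∀ g ∈ U (F := F) m, α₁ g ∈ U m := by
    intro g hg
    have : α g ∈ (U m).map (MulAut.conj k₁).toMonoidHom := hk₁ ▸ Subgroup.mem_map_of_mem _ hg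
    rw [Subgroup.mem_map_equiv, MulAut.conj_symm_apply] at this
    simpa [hα₁, hconj] using this
  have hB₁ : ∀ g ∈ B (F := F) m, α₁ g ∈ B m := by
    intro g hg
    refine U_TI m (hU₁ _ (u_mem_U m (1 : F) 0)) (fun h => ?_) ?_
    · have := α₁.injective (h.trans α₁.map_one.symm)
      simpa using (u_eq_one m).mp this
    · rw [← map_inv, ← map_mul, ← map_mul]
      exact hU₁ _ (((Subgroup.mem_normalizer_iff.mp (B_le_normalizer_U m hg)) _).mp (u_mem_U m _ _))
  -- make `α` fix `T`
  obtain ⟨g₀, hg₀⟩ := IsCyclic.exists_generator (α := Fˣ)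
  have hg₀1 : g₀ ≠ 1 := by
    rintro rfl
    obtain ⟨x, hx0, hx1⟩ := exists_ne_zero_one (F := F) m
    have h := hg₀ (Units.mk0 x hx0)
    rw [Subgroup.zpowers_one_eq_bot, Subgroup.mem_bot] at h
    exact hx1 (congrArg Units.val h)
  set z := α₁ (t m g₀) with hz
  have hz1 : z ≠ 1 := fun h => (t_ne_one m).mpr hg₀1 (α₁.injective (h.trans α₁.map_one.symm))
  have hzU : z ∉ U (F := F) m := by
    intro h
    have h1 : orderOf z ∣ Nat.card F ^ 2 := card_U (F := F) m ▸ Subgroup.orderOf_dvd_natCard _ h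
    have h2 : orderOf z ∣ Nat.card F - 1 := by
      rw [hz, MulEquiv.orderOf_eq]
      exact card_T (F := F) m ▸ Subgroup.orderOf_dvd_natCard _ (t_mem_T m g₀)
    exact hz1 (orderOf_eq_one_iff.mp
      (Nat.eq_one_of_dvd_coprimes ((coprime_parts (F := F) m).1.pow_left 2) h1 h2))
  obtain ⟨P, hP, hzP⟩ := exists_second_fixed m (hB₁ _ (T_le_B m (t_mem_T m g₀))) hzU
  obtain ⟨v, ⟨hv, hvP⟩, -⟩ := U_regular m hP (oPt_ne_oInf m (0 : F) 0)
  set α₂ := MulAut.conj v * α₁ with hα₂
  have hU₂ : ∀ g ∈ U (F := F) m, α₂ g ∈ U m := fun g hg =>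
    mul_mem (mul_mem hv (hU₁ g hg)) (inv_mem hv)
  have hz₂ : α₂ (t m g₀) ∈ T (F := F) m := by
    have hvi : v⁻¹ • oPt m (0 : F) 0 = P := inv_smul_eq_iff.mpr hvP.symm
    have hvinf : v⁻¹ • oInf m = (oInf m : suzukiOvoid F m) := U_le_B m (inv_mem hv)
    obtain ⟨r, hr⟩ := exists_t_of_fixed m (g := v * z * v⁻¹)
      (by rw [mul_smul, mul_smul, hvinf, (mem_B m).mp (hB₁ _ (T_le_B m (t_mem_T m g₀))), U_le_B m hv])
      (by rw [mul_smul, mul_smul, hvi, hzP, hvP])
    show v * z * v⁻¹ ∈ T m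
    rw [hr]; exact t_mem_T m r
  have hT₂ : ∀ s, α₂ (t m s) ∈ T (F := F) m := by
    intro s
    obtain ⟨i, rfl⟩ := Subgroup.mem_zpowers_iff.mp (hg₀ s)
    rw [map_zpow, map_zpow]
    exact zpow_mem hz₂ i
  -- normalise the image of `u(1,0)`
  obtain ⟨a₁, b₁, hab⟩ := (mem_U m).mp (hU₂ _ (u_mem_U m (1 : F) 0))
  have hZ₂ : ∀ b : F, ∃ c, α₂ (u m 0 b) = u m 0 c := by
    intro b
    obtain ⟨a, c, hc⟩ := (mem_U m).mp (hU₂ _ (u_mem_U m (0 : F) b))
    refine ⟨c, ?_⟩
    have h := congrArg α₂ (u_sq m (0 : F) b)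
    rw [map_mul] at h
    simp only [mul_zero, u_zero, map_one, hc, u_sq, u_eq_one] at h
    have ha : a = 0 := by simpa using h.2
    rw [hc, ha]
  have ha₁ : a₁ ≠ 0 := by
    rintro rfl
    have h := congrArg α₂ (u_sq m (1 : F) 0)
    rw [map_mul] at h
    simp only [hab, u_sq, th_zero, zero_mul, u_zero, th_one, one_mul] at h
    have h' := (u_eq_one m).mp (α₂.injective (h.symm.trans α₂.map_one.symm))
    exact one_ne_zero h'.2
  obtain ⟨s₁, hs₁⟩ := (th_bijective (F := F) m).2 a₁⁻¹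
  have hs₁0 : s₁ ≠ 0 := by
    rintro rfl
    rw [th_zero] at hs₁
    exact inv_ne_zero ha₁ hs₁.symm
  set r := Units.mk0 s₁ hs₁0
  set α₃ := MulAut.conj (t m r) * α₂ with hα₃
  have hU₃ : ∀ g ∈ U (F := F) m, α₃ g ∈ U m := fun g hg =>
    ((Subgroup.mem_normalizer_iff.mp (B_le_normalizer_U m (T_le_B m (t_mem_T m r)))) _).mp (hU₂ g hg)
  have hT₃ : ∀ s, α₃ (t m s) ∈ T (F := F) m := fun s =>
    mul_mem (mul_mem (t_mem_T m r) (hT₂ s)) (inv_mem (t_mem_T m r))
  have hone : ∃ b, α₃ (u m 1 0) = u m 1 b := by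
    refine ⟨(r : F) ^ 2 * th m (r : F) * b₁, ?_⟩
    show t m r * α₂ (u m 1 0) * (t m r)⁻¹ = _
    rw [hab, t_u, u_inj]
    exact ⟨by rw [show (r : F) = s₁ from rfl, hs₁, inv_mul_cancel₀ ha₁], rfl⟩
  -- coordinates of α₃
  choose A C hAC using fun a b => (mem_U m).mp (hU₃ _ (u_mem_U m a b))
  choose β hβ using fun s => (mem_T m).mp (hT₃ s)
  have hA0 : ∀ b, A 0 b = 0 := by
    intro b
    have h := congrArg α₃ (u_sq m (0 : F) b)
    rw [map_mul] at h
    simp only [mul_zero, u_zero, map_one, hAC, u_sq, u_eq_one] at h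
    simpa using h.2
  have hAb : ∀ a b, A a b = A a 0 := by
    intro a b
    have h := congrArg α₃ (u_mul m a 0 0 b)
    rw [map_mul] at h
    simp only [add_zero, zero_add, mul_zero, hAC, u_mul, u_inj, hA0] at h
    exact h.1.symm
  have hadd : ∀ a c, A (a + c) 0 = A a 0 + A c 0 := by
    intro a c
    have h := congrArg α₃ (u_mul m a 0 c 0)
    rw [map_mul] at h
    simp only [hAC, u_mul, u_inj] at h
    exact (hAb _ _).symm.trans h.1.symm
  have hA1 : A 1 0 = 1 := by
    obtain ⟨b, hb⟩ := hone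
    exact ((u_inj m).mp ((hAC 1 0).symm.trans hb)).1
  have hmul : ∀ (s : Fˣ) a, A (th m (s : F) * a) 0 = th m (β s : F) * A a 0 := by
    intro s a
    have h := congrArg α₃ (t_u m s a 0)
    rw [map_mul, map_mul, map_inv, hβ, hAC, hAC, t_u, u_inj] at h
    exact ((hAb _ ((s : F) ^ 2 * th m (s : F) * 0)).symm.trans h.1.symm).trans rfl
  have hth : ∀ s : Fˣ, A (th m (s : F)) 0 = th m (β s : F) := fun s => by
    simpa [hA1] using hmul s 1
  have hmul' : ∀ x y, A (x * y) 0 = A x 0 * A y 0 := by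
    intro x y
    rcases eq_or_ne x 0 with rfl | hx
    · simp [hA0]
    obtain ⟨s, rfl⟩ := (th_bijective (F := F) m).2 x
    have hs0 : s ≠ 0 := by rintro rfl; exact hx (th_zero m)
    have := hmul (Units.mk0 s hs0) y
    rw [← hth] at this
    exact this
  let φ₀ : F →+* F :=
    { toFun := fun a => A a 0
      map_one' := hA1
      map_mul' := hmul'
      map_zero' := hA0 0
      map_add' := hadd }
  let φ : F ≃+* F := RingEquiv.ofBijective φ₀ (Finite.injective_iff_bijective.mp φ₀.injective)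
  have hφ : ∀ a, φ a = A a 0 := fun a => rfl
  set α₄ := (fieldAut m φ)⁻¹ * α₃ with hα₄
  have hβφ : ∀ s, β s = Units.map φ.toMonoidHom s := by
    intro s
    apply Units.ext
    apply th_injective m
    rw [← hth, ← hφ]
    show φ (th m (s : F)) = th m (φ (s : F))
    rw [th_def, th_def, map_pow]
  have hT₄ : ∀ s, α₄ (t m s) = t m s := by
    intro s
    show (fieldAut m φ).symm (α₃ (t m s)) = _
    rw [MulEquiv.symm_apply_eq, fieldAut_t, hβ, hβφ]
  have hU₄ : ∀ a b, ∃ c, α₄ (u m a b) = u m a c := by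
    intro a b
    refine ⟨φ.symm (C a b), ?_⟩
    show (fieldAut m φ).symm (α₃ (u m a b)) = _
    rw [MulEquiv.symm_apply_eq, fieldAut_u, RingEquiv.apply_symm_apply, hAC, hAb, ← hφ]
  choose D hD using hU₄
  have hDz : ∀ z, D 0 z = z := by
    intro z
    obtain ⟨a, ha⟩ := (mul_th_bijective (F := F) m).2 z
    have h := congrArg α₄ (u_sq m a 0)
    rw [map_mul] at h
    simp only [hD, u_sq, u_inj] at h
    dsimp only at ha
    rw [mul_comm, ha] at h
    exact h.2.symm
  have hDadd : ∀ a c, D (a + c) 0 = D a 0 + D c 0 := by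
    intro a c
    have h := congrArg α₄ (u_mul m a 0 c 0)
    have h2 : u m (a + c) (0 + 0 + th m a * c) = u m 0 (th m a * c) * u m (a + c) 0 := by
      rw [u_mul]; simp
    rw [h2] at h
    rw [map_mul, map_mul] at h
    simp only [hD, u_mul, u_inj, hDz, th_zero, zero_mul, add_zero, zero_add] at h
    linear_combination -h.2
  have hDT : ∀ (s : Fˣ) a, D (th m (s : F) * a) 0 = (s : F) ^ 2 * th m (s : F) * D a 0 := by
    intro s a
    have h := congrArg α₄ (t_u m s a 0)
    rw [map_mul, map_mul, map_inv, hT₄, hD, mul_zero, hD, t_u, u_inj] at h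
    exact h.2.symm
  have hD1 : D 1 0 = 0 := by
    by_contra hne
    obtain ⟨x, hx0, hx1⟩ := exists_ne_zero_one (F := F) m
    have hx1' : x + 1 ≠ 0 := fun h => hx1 (eq_of_add_eq_zero m h)
    have e1 := hDT (Units.mk0 x hx0) 1
    have e2 := hDT (Units.mk0 (x + 1) hx1') 1
    simp only [Units.val_mk0, mul_one, th_add, th_one] at e1 e2
    rw [hDadd, e1] at e2
    have e3 : ((x + 1) ^ 2 * (th m x + 1) - x ^ 2 * th m x - 1) * D 1 0 = 0 := by
      linear_combination -e2
    have e4 := (mul_eq_zero.mp e3).resolve_right hne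
    have e5 : th m x = x ^ 2 := by
      linear_combination (norm := char_two_ring (m)) e4
    have e6 := th_th m x
    rw [e5, th_pow, e5] at e6
    have h1 : x ^ 2 * (x ^ 2 - 1) = 0 := by linear_combination e6
    rcases mul_eq_zero.mp h1 with h | h
    · exact hx0 (pow_eq_zero_iff two_ne_zero |>.mp h)
    · exact hx1 (eq_one_of_sq m (sub_eq_zero.mp h))
  have hD0 : ∀ a, D a 0 = 0 := by
    intro a
    rcases eq_or_ne a 0 with rfl | ha
    · exact hDz 0
    obtain ⟨s, rfl⟩ := (th_bijective (F := F) m).2 a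
    have hs0 : s ≠ 0 := by rintro rfl; exact ha (th_zero m)
    have := hDT (Units.mk0 s hs0) 1
    simpa [hD1] using this
  have hfix : ∀ a b, α₄ (u m a b) = u m a b := by
    intro a b
    have h2 : u m a b = u m 0 b * u m a 0 := by rw [u_mul]; simp
    rw [h2, map_mul, hD, hD, hDz, hD0]
  have h1 := aut_eq_one m hfix hT₄
  rw [hα₄, inv_mul_eq_one] at h1
  refine ⟨φ, k₁ * v⁻¹ * (t m r)⁻¹, ?_⟩
  rw [h1, hα₃, hα₂, hα₁]
  simp only [map_mul, map_inv]
  group

theorem fieldAut_eq_conj {φ : F ≃+* F} {k : Cfsg.Sz F m} (h : fieldAut m φ = MulAut.conj k) :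
    φ = RingEquiv.refl F := by
  have hconj : ∀ x, fieldAut m φ x = k * x * k⁻¹ := fun x => by rw [h, MulAut.conj_apply]
  have hB : k ∈ B m := by
    refine U_TI m (u_mem_U m (1 : F) 0) (fun h => by simpa using (u_eq_one m).mp h) ?_
    rw [← hconj, fieldAut_u]
    exact u_mem_U m _ _
  have hT : k ∈ T m := mem_T_of_normalizes m hB (fun s => by
    rw [← hconj, fieldAut_t]
    exact t_mem_T m _)
  obtain ⟨r, rfl⟩ := (mem_T m).mp hT
  have hA : ∀ a, φ a = th m (r : F) * a := by
    intro a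
    have := hconj (u m a 0)
    rw [fieldAut_u, t_u, u_inj] at this
    exact this.1
  have hr : th m (r : F) = 1 := by simpa using (hA 1).symm
  exact RingEquiv.ext fun a => by simp [hA, hr]

theorem card_ringAut : Nat.card (F ≃+* F) = 2 * m + 1 := by
  have : CharP F 2 := charTwo m
  have : Fact (Nat.Prime 2) := ⟨Nat.prime_two⟩
  let _ : Algebra (ZMod 2) F := ZMod.algebra F 2
  have hfr : Module.finrank (ZMod 2) F = 2 * m + 1 := by
    have h1 := Module.natCard_eq_pow_finrank (K := ZMod 2) (V := F)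
    rw [card_nat m, Nat.card_zmod] at h1
    exact Nat.pow_right_injective (le_refl 2) h1.symm
  rw [← hfr, ← IsGalois.card_aut_eq_finrank (ZMod 2) F]
  exact (Nat.card_congr (Equiv.ofBijective (fun e : F ≃ₐ[ZMod 2] F => e.toRingEquiv)
    ⟨fun a b h => AlgEquiv.ext (fun x => RingEquiv.congr_fun h x),
      fun φ => ⟨AlgEquiv.ofRingEquiv (f := φ) (fun c => RingHom.congr_fun
        (Subsingleton.elim ((φ : F →+* F).comp (algebraMap (ZMod 2) F)) (algebraMap (ZMod 2) F)) c),
        RingEquiv.ext fun _ => rfl⟩⟩)).symm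

/-- The outer automorphism group has order `2m+1`. -/
theorem card_out {L : Type*} [Group L] (e : Cfsg.Sz F m ≃* L) :
    Nat.card (MulAut L ⧸ (MulAut.conj : L →* MulAut L).range) = 2 * m + 1 := by
  have : Finite L := Finite.of_equiv _ e.toEquiv
  let T' : MulAut (Cfsg.Sz F m) → MulAut L := fun a => e.symm.trans (a.trans e)
  have hmul : ∀ a b, T' (a * b) = T' a * T' b := fun a b => MulEquiv.ext fun x => by
    simp [T', MulAut.mul_apply]
  have hconj : ∀ k, T' (MulAut.conj k) = MulAut.conj (e k) := fun k => MulEquiv.ext fun x => by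
    simp [T']
  have hinj : Function.Injective T' := fun a b h => MulEquiv.ext fun x => by
    have := congrArg (fun f : MulAut L => e.symm (f (e x))) h
    simpa [T'] using this
  have hsurj : ∀ β, T' (e.trans (β.trans e.symm)) = β := fun β => MulEquiv.ext fun x => by
    simp [T']
  rw [← card_ringAut (F := F) m]
  refine (Nat.card_congr (Equiv.ofBijective
    (fun φ : F ≃+* F => (QuotientGroup.mk (T' (fieldAut m φ)) :
      MulAut L ⧸ (MulAut.conj : L →* MulAut L).range)) ⟨?_, ?_⟩)).symm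
  · intro φ ψ h
    rw [QuotientGroup.eq] at h
    obtain ⟨l, hl⟩ := h
    obtain ⟨k, rfl⟩ := e.surjective l
    rw [← hconj, eq_inv_mul_iff_mul_eq, ← hmul] at hl
    have h2 := hinj hl
    rw [← eq_inv_mul_iff_mul_eq, ← map_inv, ← map_mul] at h2
    exact inv_mul_eq_one.mp (fieldAut_eq_conj m h2.symm)
  · intro x
    obtain ⟨β, rfl⟩ := QuotientGroup.mk_surjective x
    obtain ⟨φ, k, hk⟩ := aut_decomp m (e.trans (β.trans e.symm))
    refine ⟨φ, ?_⟩
    dsimp only
    rw [QuotientGroup.eq]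
    refine ⟨e ((fieldAut m φ)⁻¹ k), ?_⟩
    have hk' : MulAut.conj ((fieldAut m φ)⁻¹ k) = (fieldAut m φ)⁻¹ * MulAut.conj k * fieldAut m φ := by
      ext1 x
      simp [MulAut.mul_apply, MulAut.inv_def]
    rw [← hconj, hk', eq_inv_mul_iff_mul_eq, ← hmul, mul_assoc, mul_inv_cancel_left, ← hk, hsurj]

end Cfsg.Agent.Suzuki
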