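import Cfsg.Agent.Suzuki.Borel

/-!
Subfield subgroups of the Suzuki group.
-/

set_option autoImplicit false

open Cfsg MulAction

namespace Cfsg.Agent.Suzuki

/-- The set of elements fixed by the power map `x ↦ x ^ 2^(2k+1)`. -/
def fixField (F : Type*) [Field F] (k : ℕ) : Set F := {x : F | x ^ 2 ^ (2 * k + 1) = x}

theorem fixField_finite (F : Type*) [Field F] [Finite F] (k : ℕ) : (fixField F k).Finite :=
  Set.toFinite _

theorem card_fixField_le (F : Type*) [Field F] [Finite F] (k : ℕ) :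
    Nat.card (fixField F k) ≤ 2 ^ (2 * k + 1) := by
  classical
  have : Fintype F := Fintype.ofFinite F
  have h1 : 1 < 2 ^ (2 * k + 1) := Nat.one_lt_two_pow (by omega)
  set P : Polynomial F := Polynomial.X ^ 2 ^ (2 * k + 1) - Polynomial.X with hP
  have hP0 : P ≠ 0 := FiniteField.X_pow_card_sub_X_ne_zero F h1
  have hdeg : P.natDegree = 2 ^ (2 * k + 1) := FiniteField.X_pow_card_sub_X_natDegree_eq F h1
  calc Nat.card (fixField F k)
      ≤ Nat.card (P.roots.toFinset : Set F) := by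
        refine Nat.card_mono (Finset.finite_toSet _) (fun x hx => ?_)
        rw [Finset.mem_coe, Multiset.mem_toFinset, Polynomial.mem_roots hP0]
        simp only [fixField, Set.mem_ofPred_eq] at hx
        simp [hP, Polynomial.IsRoot, hx]
    _ ≤ _ := by
        rw [Nat.card_coe_set_eq, Set.ncard_coe_finset]
        exact (P.roots.toFinset_card_le.trans (Polynomial.card_roots' P)).trans hdeg.le

variable {F : Type*} [Field F] [Fintype F] {K : Type*} [Field K] [Fintype K]
variable (m k : ℕ)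

theorem range_ringHom [SzField K k] (φ : K →+* F) : Set.range φ = fixField F k := by
  refine Set.eq_of_subset_of_ncard_le ?_ ?_ (fixField_finite F k)
  · rintro _ ⟨x, rfl⟩
    show φ x ^ _ = φ x
    rw [← map_pow, ← SzField.card_eq (F := K) (m := k), FiniteField.pow_card]
  · rw [← Nat.card_coe_set_eq, ← Nat.card_coe_set_eq, Nat.card_range_of_injective φ.injective,
      card_nat (F := K) k]
    exact card_fixField_le F k

theorem th_map [SzField K k] (hdiv : 2 * k + 1 ∣ 2 * m + 1) (φ : K →+* F) (x : K) :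
    th m (φ x) = φ (th k x) := by
  obtain ⟨c, hc⟩ := hdiv
  obtain ⟨j, rfl⟩ : ∃ j, c = 2 * j + 1 := by
    rcases Nat.even_or_odd c with ⟨i, hi⟩ | ⟨i, hi⟩
    · exfalso
      have h2 : 2 * m + 1 = 2 * ((2 * k + 1) * i) := by rw [hc, hi]; ring
      omega
    · exact ⟨i, hi⟩
  have hm : m + 1 = (2 * k + 1) * j + (k + 1) := by
    have : 2 * m + 1 = 2 * ((2 * k + 1) * j + k) + 1 := by rw [hc]; ring
    omega
  rw [th_def, th_def, ← map_pow, hm, pow_add, pow_mul 2, pow_mul,
    ← SzField.card_eq (F := K) (m := k), FiniteField.pow_card_pow]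

theorem exists_ringHom [SzField F m] [SzField K k] (hdiv : 2 * k + 1 ∣ 2 * m + 1) :
    Nonempty (K →+* F) := by
  have : CharP F 2 := charTwo m
  have : CharP K 2 := charTwo k
  have : Fact (Nat.Prime 2) := ⟨Nat.prime_two⟩
  let _ : Algebra (ZMod 2) F := ZMod.algebra F 2
  let _ : Algebra (ZMod 2) K := ZMod.algebra K 2
  have hfr : ∀ (L : Type _) [Field L] [Fintype L] [Algebra (ZMod 2) L] (i : ℕ) [SzField L i],
      Module.finrank (ZMod 2) L = 2 * i + 1 := by
    intro L _ _ _ i _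
    have h1 := Module.natCard_eq_pow_finrank (K := ZMod 2) (V := L)
    rw [card_nat i, Nat.card_zmod] at h1
    exact Nat.pow_right_injective (le_refl 2) h1.symm
  have hK : Module.finrank (ZMod 2) K = 2 * k + 1 := by
    have h1 := Module.natCard_eq_pow_finrank (K := ZMod 2) (V := K)
    rw [card_nat k, Nat.card_zmod] at h1
    exact Nat.pow_right_injective (le_refl 2) h1.symm
  obtain ⟨φ⟩ := FiniteField.nonempty_algHom_of_finrank_dvd (F := ZMod 2) (K := K) (L := F)
    (by rw [hK, hfr F m]; exact hdiv)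
  exact ⟨φ.toRingHom⟩

variable [SzField F m]

/-- The subfield subgroup: generated by `w` and the `u a b` with `a, b` in the subfield. -/
def sub : Subgroup (Cfsg.Sz F m) :=
  Subgroup.closure (insert (w m) {g | ∃ a ∈ fixField F k, ∃ b ∈ fixField F k, g = u m a b})

variable [SzField K k]

theorem map_u (hdiv : 2 * k + 1 ∣ 2 * m + 1) (φ : K →+* F) (a b : K) :
    Matrix.SpecialLinearGroup.map φ (uSL k a b) = uSL m (φ a) (φ b) := by
  ext i j
  show φ ((uMat k a b) i j) = uMat m (φ a) (φ b) i j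
  fin_cases i <;> fin_cases j <;> simp [uMat, ovf, th_map m k hdiv φ]

theorem map_t (hdiv : 2 * k + 1 ∣ 2 * m + 1) (φ : K →+* F) (s : Kˣ) :
    Matrix.SpecialLinearGroup.map φ (tSL k s) = tSL m (Units.map φ.toMonoidHom s) := by
  ext i j
  show φ ((tMat k s) i j) = tMat m (Units.map φ.toMonoidHom s) i j
  fin_cases i <;> fin_cases j <;> simp [tMat, th_map m k hdiv φ]

omit [Fintype F] [Fintype K] in
theorem map_w (φ : K →+* F) :
    Matrix.SpecialLinearGroup.map φ (wSL : Matrix.SpecialLinearGroup (Fin 4) K) = wSL := by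
  ext i j
  show φ ((wSL : Matrix.SpecialLinearGroup (Fin 4) K) i j) = (wSL : Matrix.SpecialLinearGroup (Fin 4) F) i j
  fin_cases i <;> fin_cases j <;> simp [coe_wSL]

theorem map_mem_Sz (hdiv : 2 * k + 1 ∣ 2 * m + 1) (φ : K →+* F) (g : Cfsg.Sz K k) :
    Matrix.SpecialLinearGroup.map φ g.1 ∈ Cfsg.Sz F m := by
  suffices g ∈ (Cfsg.Sz F m).comap ((Matrix.SpecialLinearGroup.map φ).comp (Cfsg.Sz K k).subtype) from
    this
  refine mem_of_generators k (fun a b => ?_) (fun s => ?_) ?_ g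
  · show Matrix.SpecialLinearGroup.map φ (uSL k a b) ∈ Cfsg.Sz F m
    rw [map_u m k hdiv φ]; exact uSL_mem_Sz m _ _
  · show Matrix.SpecialLinearGroup.map φ (tSL k s) ∈ Cfsg.Sz F m
    rw [map_t m k hdiv φ]; exact tSL_mem_Sz m _
  · show Matrix.SpecialLinearGroup.map φ wSL ∈ Cfsg.Sz F m
    rw [map_w φ]; exact wSL_mem_Sz m

/-- The embedding of Suzuki groups given by a field embedding. -/
def subHom (hdiv : 2 * k + 1 ∣ 2 * m + 1) (φ : K →+* F) : Cfsg.Sz K k →* Cfsg.Sz F m :=
  ((Matrix.SpecialLinearGroup.map φ).comp (Cfsg.Sz K k).subtype).codRestrict _ (map_mem_Sz m k hdiv φ)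

theorem subHom_injective (hdiv : 2 * k + 1 ∣ 2 * m + 1) (φ : K →+* F) :
    Function.Injective (subHom m k hdiv φ) := by
  intro g h e
  apply Subtype.ext
  have e' : Matrix.SpecialLinearGroup.map φ g.1 = Matrix.SpecialLinearGroup.map φ h.1 :=
    congrArg Subtype.val e
  ext i j
  exact φ.injective (congrArg (fun x : Matrix.SpecialLinearGroup (Fin 4) F => x i j) e')

theorem subHom_u (hdiv : 2 * k + 1 ∣ 2 * m + 1) (φ : K →+* F) (a b : K) :
    subHom m k hdiv φ (u k a b) = u m (φ a) (φ b) := Subtype.ext (map_u m k hdiv φ a b)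

theorem subHom_w (hdiv : 2 * k + 1 ∣ 2 * m + 1) (φ : K →+* F) :
    subHom m k hdiv φ (w k) = w m := Subtype.ext (map_w φ)

theorem closure_u_w_eq_top :
    Subgroup.closure (insert (w k) (U (F := K) k : Set (Cfsg.Sz K k))) = ⊤ := by
  refine eq_top_of_U_le k (fun g hg => Subgroup.subset_closure (Set.mem_insert_of_mem _ hg)) ?_
  intro h
  have := h (Subgroup.subset_closure (Set.mem_insert _ _))
  rw [mem_B, w_smul_oInf] at this
  exact oPt_ne_oInf k _ _ this

theorem range_subHom (hdiv : 2 * k + 1 ∣ 2 * m + 1) (φ : K →+* F) :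
    (subHom m k hdiv φ).range = sub m k := by
  rw [MonoidHom.range_eq_map, ← closure_u_w_eq_top k, MonoidHom.map_closure, sub, Set.image_insert_eq,
    subHom_w]
  congr 2
  ext g
  constructor
  · rintro ⟨x, hx, rfl⟩
    obtain ⟨a, b, rfl⟩ := (mem_U k).mp hx
    refine ⟨φ a, ?_, φ b, ?_, subHom_u m k hdiv φ a b⟩ <;> rw [← range_ringHom k φ] <;>
      exact ⟨_, rfl⟩
  · rintro ⟨a, ha, b, hb, rfl⟩
    rw [← range_ringHom k φ] at ha hb
    obtain ⟨a, rfl⟩ := ha
    obtain ⟨b, rfl⟩ := hb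
    exact ⟨u k a b, u_mem_U k a b, subHom_u m k hdiv φ a b⟩

theorem nonempty_equiv_sub (hdiv : 2 * k + 1 ∣ 2 * m + 1) :
    Nonempty (sub (F := F) m k ≃* Cfsg.Sz K k) := by
  obtain ⟨φ⟩ := exists_ringHom (F := F) (K := K) m k hdiv
  exact ⟨((MulEquiv.subgroupCongr (range_subHom m k hdiv φ).symm)).trans
    (MonoidHom.ofInjective (subHom_injective m k hdiv φ)).symm⟩

omit [Fintype K] [SzField K k] in
theorem card_sub {i : ℕ} (hi : 1 ≤ i) (hdiv : 2 * i + 1 ∣ 2 * m + 1) :
    Nat.card (sub (F := F) m i) =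
      (2 ^ (2 * i + 1)) ^ 2 * (2 ^ (2 * i + 1) - 1) * ((2 ^ (2 * i + 1)) ^ 2 + 1) := by
  have : Fact (Nat.Prime 2) := ⟨Nat.prime_two⟩
  let L := GaloisField 2 (2 * i + 1)
  let _ : Fintype L := Fintype.ofFinite L
  have hL : SzField L i := ⟨by rw [← Nat.card_eq_fintype_card]; exact GaloisField.card 2 _ (by omega), hi⟩
  obtain ⟨e⟩ := nonempty_equiv_sub (F := F) (K := L) m i hdiv
  rw [Nat.card_congr e.toEquiv, card_Sz, card_nat (F := L) i]

end Cfsg.Agent.Suzuki
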