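import Mathlib

/-!
A matrix of prime order `p` with `p ∣ q² + 1` acting on a four-dimensional space over a field with `q`
elements is irreducible, and the groups commuting with it are cyclic.
-/

set_option autoImplicit false

namespace Cfsg.Agent.Suzuki

variable {F : Type*} [Field F]

theorem zmod_pow_eq_one {p : ℕ} [Fact p.Prime] (hp2 : p ≠ 2) {x : ZMod p} (hx : x ^ 2 = -1) {d : ℕ}
    (hd : d ≤ 4) (h : x ^ d = 1) : d = 0 ∨ d = 4 := by
  have h2 : (2 : ZMod p) ≠ 0 := by
    intro h2
    have : ((2 : ℕ) : ZMod p) = 0 := by exact_mod_cast h2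
    rw [CharP.cast_eq_zero_iff (ZMod p) p] at this
    exact hp2 ((Nat.prime_dvd_prime_iff_eq (Fact.out) Nat.prime_two).mp this)
  interval_cases d
  · exact Or.inl rfl
  · exfalso
    rw [pow_one] at h
    rw [h] at hx
    exact h2 (by linear_combination hx)
  · exfalso
    exact h2 (by linear_combination hx - h)
  · exfalso
    have hx1 : x = -1 := by linear_combination x * hx - h
    rw [hx1] at hx
    exact h2 (by linear_combination hx)
  · exact Or.inr rfl

variable [Fintype F] {p : ℕ} [hpf : Fact p.Prime]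

omit [Fintype F] in
theorem pow_mulVec_eq {M : Matrix (Fin 4) (Fin 4) F} {v : Fin 4 → F} (h : M.mulVec v = v) (k : ℕ) :
    (M ^ k).mulVec v = v := by
  induction k with
  | zero => simp
  | succ k ih => rw [pow_succ, ← Matrix.mulVec_mulVec, h, ih]

/-- Counting fixed vectors of an invariant subspace modulo `p`. -/
theorem card_fixed_modEq {M : Matrix (Fin 4) (Fin 4) F} (hM : M ^ p = 1)
    (W : Submodule F (Fin 4 → F)) (hW : ∀ v ∈ W, M.mulVec v ∈ W) :
    Nat.card W ≡ Nat.card {v : W // M.mulVec (v : Fin 4 → F) = v} [MOD p] := by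
  classical
  let f : Function.End W := fun v => ⟨M.mulVec v.1, hW v.1 v.2⟩
  have key : ∀ (k : ℕ) (v : W), (((f ^ k) v : W) : Fin 4 → F) = (M ^ k).mulVec v.1 := by
    intro k
    induction k with
    | zero =>
      intro v
      rw [pow_zero, pow_zero, Matrix.one_mulVec]
      rfl
    | succ k ih =>
      intro v
      rw [pow_succ', pow_succ']
      show M.mulVec (((f ^ k) v : W) : Fin 4 → F) = _
      rw [ih, Matrix.mulVec_mulVec]
  have hfp : f ^ p ^ 1 = 1 := by
    funext v
    refine Subtype.ext ?_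
    rw [key, pow_one, hM, Matrix.one_mulVec]
    rfl
  have h := Equiv.Perm.card_fixedPoints_modEq (p := p) (n := 1) hfp
  rw [← Nat.card_eq_fintype_card, ← Nat.card_eq_fintype_card] at h
  refine h.trans ?_
  rw [Nat.card_congr (α := Function.fixedPoints f)
    (β := {v : W // M.mulVec (v : Fin 4 → F) = v}) (Equiv.subtypeEquivRight (fun v => Subtype.ext_iff))]

variable {M : Matrix (Fin 4) (Fin 4) F}

theorem no_fixed_vector (hp : p ∣ Nat.card F ^ 2 + 1) (hp2 : p ≠ 2) (hM : M ^ p = 1) (hM1 : M ≠ 1)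
    {v : Fin 4 → F} (hv : M.mulVec v = v) : v = 0 := by
  by_contra hv0
  let K : Submodule F (Fin 4 → F) := LinearMap.ker (M.mulVecLin - LinearMap.id)
  have hK : ∀ w, w ∈ K ↔ M.mulVec w = w := by
    intro w
    simp [K, sub_eq_zero]
  have h1 := card_fixed_modEq hM (⊤ : Submodule F (Fin 4 → F)) (fun _ _ => trivial)
  have e1 : {w : (⊤ : Submodule F (Fin 4 → F)) // M.mulVec (w : Fin 4 → F) = w} ≃ K :=
    { toFun := fun w => ⟨w.1.1, (hK _).mpr w.2⟩
      invFun := fun w => ⟨⟨w.1, trivial⟩, (hK _).mp w.2⟩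
      left_inv := fun w => rfl
      right_inv := fun w => rfl }
  rw [Nat.card_congr e1, Module.natCard_eq_pow_finrank (K := F) (V := K),
    Module.natCard_eq_pow_finrank (K := F) (V := (⊤ : Submodule F (Fin 4 → F))),
    finrank_top, Module.finrank_fin_fun] at h1
  have hx : (Nat.card F : ZMod p) ^ 2 = -1 := by
    have := (CharP.cast_eq_zero_iff (ZMod p) p (Nat.card F ^ 2 + 1)).mpr hp
    push_cast at this
    exact eq_neg_of_add_eq_zero_left this
  have h2 := (ZMod.natCast_eq_natCast_iff _ _ p).mpr h1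
  push_cast at h2
  have h4 : (Nat.card F : ZMod p) ^ 4 = 1 := by linear_combination ((Nat.card F : ZMod p) ^ 2 - 1) * hx
  rw [h4] at h2
  have hle : Module.finrank F K ≤ 4 := by
    simpa using Submodule.finrank_le K
  rcases zmod_pow_eq_one hp2 hx hle h2.symm with h | h
  · rw [Submodule.finrank_eq_zero] at h
    have : v ∈ K := (hK v).mpr hv
    rw [h] at this
    exact hv0 ((Submodule.mem_bot F).mp this)
  · have htop : K = ⊤ := Submodule.eq_top_of_finrank_eq (by rw [h, Module.finrank_fin_fun])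
    apply hM1
    refine Matrix.ext_of_mulVec_single (fun i => ?_)
    rw [Matrix.one_mulVec]
    exact (hK _).mp (htop ▸ Submodule.mem_top)

theorem invariant_eq_bot_or_top (hp : p ∣ Nat.card F ^ 2 + 1) (hp2 : p ≠ 2) (hM : M ^ p = 1)
    (hM1 : M ≠ 1) (W : Submodule F (Fin 4 → F)) (hW : ∀ v ∈ W, M.mulVec v ∈ W) : W = ⊥ ∨ W = ⊤ := by
  have h1 := card_fixed_modEq hM W hW
  have e : Nat.card {v : W // M.mulVec (v : Fin 4 → F) = v} = 1 := by
    rw [Nat.card_eq_one_iff_exists]
    exact ⟨⟨0, by simp⟩, fun v => Subtype.ext (Subtype.ext (no_fixed_vector hp hp2 hM hM1 v.2))⟩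
  rw [e, Module.natCard_eq_pow_finrank (K := F) (V := W)] at h1
  have hx : (Nat.card F : ZMod p) ^ 2 = -1 := by
    have := (CharP.cast_eq_zero_iff (ZMod p) p (Nat.card F ^ 2 + 1)).mpr hp
    push_cast at this
    exact eq_neg_of_add_eq_zero_left this
  have h2 := (ZMod.natCast_eq_natCast_iff _ _ p).mpr h1
  push_cast at h2
  have hle : Module.finrank F W ≤ 4 := by
    simpa using Submodule.finrank_le W
  rcases zmod_pow_eq_one hp2 hx hle h2 with h | h
  · exact Or.inl (Submodule.finrank_eq_zero.mp h)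
  · exact Or.inr (Submodule.eq_top_of_finrank_eq (by rw [h, Module.finrank_fin_fun]))

/-- The commutant of `M`. -/
abbrev commutant (M : Matrix (Fin 4) (Fin 4) F) : Subalgebra F (Matrix (Fin 4) (Fin 4) F) :=
  Subalgebra.centralizer F {M}

omit [Fintype F] in
theorem mem_commutant {A : Matrix (Fin 4) (Fin 4) F} : A ∈ commutant M ↔ M * A = A * M := by
  simp [commutant, Subalgebra.mem_centralizer_iff]

theorem commutant_mulVec_eq_zero (hp : p ∣ Nat.card F ^ 2 + 1) (hp2 : p ≠ 2) (hM : M ^ p = 1)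
    (hM1 : M ≠ 1) {A : Matrix (Fin 4) (Fin 4) F} (hA : A ∈ commutant M) (hA0 : A ≠ 0)
    {v : Fin 4 → F} (hv : A.mulVec v = 0) : v = 0 := by
  have hinv : ∀ w ∈ LinearMap.ker A.mulVecLin, M.mulVec w ∈ LinearMap.ker A.mulVecLin := by
    intro w hw
    rw [LinearMap.mem_ker, Matrix.mulVecLin_apply] at hw ⊢
    rw [Matrix.mulVec_mulVec, ← mem_commutant.mp hA, ← Matrix.mulVec_mulVec, hw, Matrix.mulVec_zero]
  rcases invariant_eq_bot_or_top hp hp2 hM hM1 _ hinv with h | h
  · have : v ∈ LinearMap.ker A.mulVecLin := hv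
    rw [h] at this
    exact (Submodule.mem_bot F).mp this
  · refine absurd (Matrix.ext_of_mulVec_single (fun i => ?_)) hA0
    rw [Matrix.zero_mulVec]
    have : Pi.single i 1 ∈ LinearMap.ker A.mulVecLin := h ▸ Submodule.mem_top
    exact this

theorem commutant_isDomain (hp : p ∣ Nat.card F ^ 2 + 1) (hp2 : p ≠ 2) (hM : M ^ p = 1)
    (hM1 : M ≠ 1) : IsDomain (commutant M) := by
  have : NoZeroDivisors (commutant M) := by
    refine ⟨fun {A B} h => ?_⟩
    by_contra hne
    push Not at hne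
    refine hne.2 (Subtype.ext (Matrix.ext_of_mulVec_single (fun i => ?_)))
    have hA : (A : Matrix (Fin 4) (Fin 4) F) ≠ 0 := fun h0 => hne.1 (Subtype.ext h0)
    have h0 : (A : Matrix (Fin 4) (Fin 4) F) * (B : Matrix (Fin 4) (Fin 4) F) = 0 :=
      congrArg Subtype.val h
    show (B : Matrix (Fin 4) (Fin 4) F).mulVec _ = (0 : Matrix (Fin 4) (Fin 4) F).mulVec _
    rw [Matrix.zero_mulVec]
    refine commutant_mulVec_eq_zero hp hp2 hM hM1 A.2 hA ?_
    rw [Matrix.mulVec_mulVec, h0, Matrix.zero_mulVec]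
  exact NoZeroDivisors.to_isDomain _

/-- A finite group embedded in the commutant of `M` is cyclic. -/
theorem isCyclic_of_commutes (hp : p ∣ Nat.card F ^ 2 + 1) (hp2 : p ≠ 2) (hM : M ^ p = 1)
    (hM1 : M ≠ 1) {G : Type*} [Group G] [Finite G] (f : G →* Matrix (Fin 4) (Fin 4) F)
    (hinj : Function.Injective f) (hf : ∀ g, M * f g = f g * M) : IsCyclic G := by
  have := commutant_isDomain hp hp2 hM hM1
  let _ : Field (commutant M) := (Finite.isDomain_to_isField (commutant M)).toField
  exact isCyclic_of_subgroup_isDomain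
    (f.codRestrict (commutant M) (fun g => mem_commutant.mpr (hf g)))
    (fun a b h => hinj (congrArg Subtype.val h))

end Cfsg.Agent.Suzuki
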