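import Cfsg.Agent.Suzuki.Fixed
import Cfsg.Agent.Suzuki.Irreducible

/-!
Centralisers of fixed-point-free elements: cyclic TI Hall subgroups, index at most four in the normaliser;
Sylow subgroups for odd primes are cyclic.
-/

set_option autoImplicit false

open Cfsg MulAction Polynomial
open scoped Pointwise

namespace Cfsg.Agent.Suzuki

variable {F : Type*} [Field F] [Fintype F] (m : ℕ) [SzField F m]

/-- The matrix of an element of the Suzuki group. -/
def toMat : Cfsg.Sz F m →* Matrix (Fin 4) (Fin 4) F where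
  toFun g := (g : Matrix.SpecialLinearGroup (Fin 4) F).1
  map_one' := rfl
  map_mul' _ _ := rfl

theorem toMat_injective : Function.Injective (toMat m : Cfsg.Sz F m → Matrix (Fin 4) (Fin 4) F) :=
  fun _ _ h => Subtype.ext (Subtype.ext h)

include m in
theorem odd_Q : ¬ 2 ∣ Nat.card F ^ 2 + 1 := fun h => odd_compl (F := F) m (h.trans (dvd_mul_left _ _))

include m in
theorem three_not_dvd_card : ¬ 3 ∣ Nat.card (Cfsg.Sz F m) := by
  intro h
  rw [card_Sz, card_nat (F := F) m] at h
  have h2 : 2 ^ (2 * m + 1) % 3 = 2 := by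
    rw [pow_succ, pow_mul, Nat.mul_mod, Nat.pow_mod]
    norm_num
  obtain ⟨k, hk⟩ : ∃ k, 2 ^ (2 * m + 1) = 3 * k + 2 := ⟨2 ^ (2 * m + 1) / 3, by omega⟩
  rw [hk, show 3 * k + 2 - 1 = 3 * k + 1 by omega] at h
  simp [Nat.dvd_iff_mod_eq_zero, Nat.mul_mod, Nat.pow_mod, Nat.add_mod] at h

theorem fixFree_ne_one {g : Cfsg.Sz F m} (hg : FixFree m g) : g ≠ 1 :=
  fun h => hg (oInf m) (by rw [h, one_smul])

/-- Data attached to a fixed-point-free element: an element of prime order in its cyclic group. -/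
theorem exists_prime_power_elt {g : Cfsg.Sz F m} (hg : FixFree m g) :
    ∃ (p : ℕ) (h : Cfsg.Sz F m), p.Prime ∧ p ≠ 2 ∧ p ∣ Nat.card F ^ 2 + 1 ∧
      orderOf h = p ∧ h ∈ Subgroup.zpowers g := by
  have hne : orderOf g ≠ 1 := by simpa using fixFree_ne_one m hg
  refine ⟨(orderOf g).minFac, g ^ (orderOf g / (orderOf g).minFac), Nat.minFac_prime hne, ?_, ?_,
    orderOf_pow_orderOf_div (orderOf_pos g).ne' (Nat.minFac_dvd _),
    Subgroup.npow_mem_zpowers _ _⟩
  · intro h
    exact odd_Q (F := F) m ((h ▸ Nat.minFac_dvd _ : 2 ∣ orderOf g).trans (orderOf_dvd_of_fixFree m hg))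
  · exact (Nat.minFac_dvd _).trans (orderOf_dvd_of_fixFree m hg)

theorem centralizer_prime_cyclic {p : ℕ} (hp : p.Prime) (hp2 : p ≠ 2) (hpQ : p ∣ Nat.card F ^ 2 + 1)
    {h : Cfsg.Sz F m} (ho : orderOf h = p) : IsCyclic (Subgroup.centralizer {h}) := by
  have := Fact.mk hp
  refine isCyclic_of_commutes (M := toMat m h) hpQ hp2 ?_ ?_
    ((toMat m).comp (Subgroup.centralizer {h}).subtype)
    ((toMat_injective m).comp Subtype.val_injective) (fun k => ?_)
  · rw [← map_pow, ← ho, pow_orderOf_eq_one, map_one]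
  · rw [ne_eq, ← (toMat (F := F) m).map_one, (toMat_injective m).eq_iff, ← orderOf_eq_one_iff, ho]
    exact hp.ne_one
  · show toMat m h * toMat m k.1 = toMat m k.1 * toMat m h
    rw [← map_mul, ← map_mul, Subgroup.mem_centralizer_singleton_iff.mp k.2]

theorem centralizer_cyclic {g : Cfsg.Sz F m} (hg : FixFree m g) :
    IsCyclic (Subgroup.centralizer {g}) := by
  obtain ⟨p, h, hp, hp2, hpQ, ho, hh⟩ := exists_prime_power_elt m hg
  have := centralizer_prime_cyclic m hp hp2 hpQ ho
  refine Subgroup.isCyclic_of_le (H' := Subgroup.centralizer {h}) (fun k hk => ?_)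
  rw [Subgroup.mem_centralizer_singleton_iff] at hk ⊢
  obtain ⟨i, rfl⟩ := Subgroup.mem_zpowers_iff.mp hh
  exact (Commute.zpow_right hk i).eq

theorem fixFree_of_mem_centralizer {g k : Cfsg.Sz F m} (hg : FixFree m g)
    (hk : k ∈ Subgroup.centralizer {g}) (hk1 : k ≠ 1) : FixFree m k := by
  by_contra hne
  rw [Subgroup.mem_centralizer_singleton_iff] at hk
  rcases exists_conj_U_or_T m hne with ⟨j, hj⟩ | ⟨j, hj⟩
  · have : j * g * j⁻¹ ∈ Subgroup.centralizer {j * k * j⁻¹} := by
      rw [Subgroup.mem_centralizer_singleton_iff]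
      calc j * g * j⁻¹ * (j * k * j⁻¹) = j * (g * k) * j⁻¹ := by group
        _ = j * (k * g) * j⁻¹ := by rw [← hk]
        _ = _ := by group
    have h' := centralizer_U_le m hj (by rwa [ne_eq, conj_eq_one_iff]) this
    exact not_fixFree_of_mem_B m (U_le_B m h') (fixFree_conj m j hg)
  · have : j * g * j⁻¹ ∈ Subgroup.centralizer {j * k * j⁻¹} := by
      rw [Subgroup.mem_centralizer_singleton_iff]
      calc j * g * j⁻¹ * (j * k * j⁻¹) = j * (g * k) * j⁻¹ := by group
        _ = j * (k * g) * j⁻¹ := by rw [← hk]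
        _ = _ := by group
    rw [centralizer_T_eq m hj (by rwa [ne_eq, conj_eq_one_iff])] at this
    exact not_fixFree_of_mem_B m (T_le_B m this) (fixFree_conj m j hg)

theorem centralizer_commute {g k l : Cfsg.Sz F m} (hg : FixFree m g)
    (hk : k ∈ Subgroup.centralizer {g}) (hl : l ∈ Subgroup.centralizer {g}) : k * l = l * k := by
  have := centralizer_cyclic m hg
  let _ : CommGroup (Subgroup.centralizer {g}) := IsCyclic.commGroup
  exact congrArg Subtype.val (mul_comm (⟨k, hk⟩ : Subgroup.centralizer {g}) ⟨l, hl⟩)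

theorem centralizer_eq_of_mem {g k : Cfsg.Sz F m} (hg : FixFree m g)
    (hk : k ∈ Subgroup.centralizer {g}) (hk1 : k ≠ 1) :
    Subgroup.centralizer {k} = Subgroup.centralizer {g} := by
  have hkf := fixFree_of_mem_centralizer m hg hk hk1
  apply le_antisymm
  · intro l hl
    rw [Subgroup.mem_centralizer_singleton_iff]
    refine centralizer_commute m hkf hl ?_
    rw [Subgroup.mem_centralizer_singleton_iff]
    exact (Subgroup.mem_centralizer_singleton_iff.mp hk).symm
  · intro l hl
    rw [Subgroup.mem_centralizer_singleton_iff]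
    exact centralizer_commute m hg hl hk

theorem card_centralizer_dvd {g : Cfsg.Sz F m} (hg : FixFree m g) :
    Nat.card (Subgroup.centralizer {g}) ∣ Nat.card F ^ 2 + 1 := by
  have := centralizer_cyclic m hg
  obtain ⟨a, ha⟩ := IsCyclic.exists_ofOrder_eq_natCard (α := Subgroup.centralizer {g})
  rw [← ha, ← Subgroup.orderOf_coe]
  refine orderOf_dvd_of_fixFree m (fixFree_of_mem_centralizer m hg a.2 (fun h => ?_))
  have h1 : orderOf a = 1 := by rw [← Subgroup.orderOf_coe, h, orderOf_one]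
  rw [ha] at h1
  have hg' : g ∈ Subgroup.centralizer {g} := Subgroup.mem_centralizer_singleton_iff.mpr rfl
  have hbot := Subgroup.eq_bot_of_card_eq _ h1
  rw [hbot, Subgroup.mem_bot] at hg'
  exact fixFree_ne_one m hg hg'

/-- A Sylow subgroup meeting the centraliser of a fixed-point-free element lies inside it. -/
theorem sylow_le_centralizer {g k : Cfsg.Sz F m} (hg : FixFree m g) {p : ℕ} [hp : Fact p.Prime]
    (P : Sylow p (Cfsg.Sz F m)) (hkP : k ∈ (P : Subgroup (Cfsg.Sz F m)))
    (hk : k ∈ Subgroup.centralizer {g}) (hk1 : k ≠ 1) :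
    (P : Subgroup (Cfsg.Sz F m)) ≤ Subgroup.centralizer {g} := by
  have : Nontrivial P := ⟨⟨⟨k, hkP⟩, 1, fun h => hk1 (congrArg Subtype.val h)⟩⟩
  have := P.2.center_nontrivial
  obtain ⟨⟨z, hz⟩, hz1⟩ := exists_ne (1 : Subgroup.center P)
  have hz1' : (z : Cfsg.Sz F m) ≠ 1 := fun h => hz1 (Subtype.ext (Subtype.ext h))
  have hcomm : ∀ l ∈ (P : Subgroup (Cfsg.Sz F m)), l * z = z * l := fun l hl =>
    congrArg Subtype.val (Subgroup.mem_center_iff.mp hz ⟨l, hl⟩)
  have hzk : (z : Cfsg.Sz F m) ∈ Subgroup.centralizer {k} := by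
    rw [Subgroup.mem_centralizer_singleton_iff]
    exact (hcomm k hkP).symm
  rw [centralizer_eq_of_mem m hg hk hk1] at hzk
  intro l hl
  rw [← centralizer_eq_of_mem m hg hzk hz1', Subgroup.mem_centralizer_singleton_iff]
  exact hcomm l hl

theorem exists_sylow_le_centralizer {g : Cfsg.Sz F m} (hg : FixFree m g) {p : ℕ} [hp : Fact p.Prime]
    (hpd : p ∣ Nat.card (Subgroup.centralizer {g})) :
    ∃ P : Sylow p (Cfsg.Sz F m), (P : Subgroup (Cfsg.Sz F m)) ≤ Subgroup.centralizer {g} := by
  obtain ⟨k, hk⟩ := exists_prime_orderOf_dvd_card' p hpd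
  obtain ⟨P, hP⟩ := (IsPGroup.of_card (n := 1) (G := Subgroup.zpowers (k : Cfsg.Sz F m))
    (by rw [Nat.card_zpowers, Subgroup.orderOf_coe, hk, pow_one])).exists_le_sylow
  refine ⟨P, sylow_le_centralizer m hg P (hP (Subgroup.mem_zpowers _)) k.2 (fun h => ?_)⟩
  rw [← Subgroup.orderOf_coe, h, orderOf_one] at hk
  exact hp.out.ne_one hk.symm

theorem exists_fixFree_of_sylow {p : ℕ} [hp : Fact p.Prime] (hpQ : p ∣ Nat.card F ^ 2 + 1)
    (P : Sylow p (Cfsg.Sz F m)) :
    ∃ g, FixFree m g ∧ (P : Subgroup (Cfsg.Sz F m)) ≤ Subgroup.centralizer {g} := by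
  have hdvd : p ∣ Nat.card (Cfsg.Sz F m) := by
    rw [card_Sz]
    exact hpQ.trans (dvd_mul_left _ _)
  obtain ⟨k, hk⟩ := exists_prime_orderOf_dvd_card' p (P.dvd_card_of_dvd_card hdvd)
  have hk' : orderOf (k : Cfsg.Sz F m) = p := by rw [Subgroup.orderOf_coe, hk]
  have hk1 : (k : Cfsg.Sz F m) ≠ 1 := fun h => hp.out.ne_one (by rw [← hk', h, orderOf_one])
  have hkf := fixFree_of_orderOf_dvd m hk1 (hk'.symm ▸ hpQ)
  exact ⟨k, hkf, sylow_le_centralizer m hkf P k.2 (Subgroup.mem_centralizer_singleton_iff.mpr rfl) hk1⟩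

theorem sylow_odd_cyclic {p : ℕ} [hp : Fact p.Prime] (hp2 : p ≠ 2) (P : Sylow p (Cfsg.Sz F m)) :
    IsCyclic P := by
  show IsCyclic (P : Subgroup (Cfsg.Sz F m))
  by_cases hbot : (P : Subgroup (Cfsg.Sz F m)) = ⊥
  · have : Subsingleton (P : Subgroup (Cfsg.Sz F m)) := by rw [hbot]; infer_instance
    exact isCyclic_of_subsingleton
  by_cases hpQ : p ∣ Nat.card F ^ 2 + 1
  · obtain ⟨g, hg, hle⟩ := exists_fixFree_of_sylow m hpQ P
    have := centralizer_cyclic m hg
    exact Subgroup.isCyclic_of_le hle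
  · obtain ⟨k, hk, hk1⟩ := (Subgroup.ne_bot_iff_exists_ne_one.mp hbot).elim
      (fun x hx => (⟨x.1, x.2, fun h => hx (Subtype.ext h)⟩ : ∃ k ∈ (P : Subgroup (Cfsg.Sz F m)), k ≠ 1))
    have hdvd : p ∣ Nat.card (Cfsg.Sz F m) := by
      obtain ⟨j, hj⟩ := IsPGroup.iff_orderOf.mp P.2 ⟨k, hk⟩
      have hj0 : j ≠ 0 := by
        rintro rfl
        rw [pow_zero, orderOf_eq_one_iff] at hj
        exact hk1 (congrArg Subtype.val hj)
      rw [Subgroup.orderOf_mk] at hj
      exact (dvd_pow_self p hj0).trans (hj ▸ orderOf_dvd_natCard k)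
    obtain ⟨c1, -, -⟩ := coprime_parts (F := F) m
    rw [card_Sz] at hdvd
    have hpq1 : p ∣ Nat.card F - 1 := by
      rcases hp.out.dvd_mul.mp hdvd with h | h
      · rcases hp.out.dvd_mul.mp h with h | h
        · exfalso
          rw [card_nat m] at h
          exact hp2 ((Nat.prime_dvd_prime_iff_eq hp.out Nat.prime_two).mp
            (hp.out.dvd_of_dvd_pow (hp.out.dvd_of_dvd_pow h)))
        · exact h
      · exact absurd h hpQ
    obtain ⟨Q⟩ : Nonempty (Sylow p (T m : Subgroup (Cfsg.Sz F m))) := inferInstance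
    have hQG : IsPGroup p ((Q : Subgroup (T m : Subgroup (Cfsg.Sz F m))).map
        (T m : Subgroup (Cfsg.Sz F m)).subtype) := Q.2.map _
    have hpos1 : 0 < Nat.card F - 1 := by
      have := eight_le_card (F := F) m
      rw [Nat.card_eq_fintype_card]
      omega
    have hidx : ¬ p ∣ (T m : Subgroup (Cfsg.Sz F m)).index := by
      have hT' := (T m : Subgroup (Cfsg.Sz F m)).card_mul_index
      rw [card_T, card_Sz, show Nat.card F ^ 2 * (Nat.card F - 1) * (Nat.card F ^ 2 + 1) =
        (Nat.card F - 1) * (Nat.card F ^ 2 * (Nat.card F ^ 2 + 1)) by ring] at hT'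
      rw [Nat.eq_of_mul_eq_mul_left hpos1 hT']
      intro h'
      rcases hp.out.dvd_mul.mp h' with h' | h'
      · exact hp.out.ne_one (Nat.eq_one_of_dvd_coprimes c1 (hp.out.dvd_of_dvd_pow h') hpq1)
      · exact hpQ h'
    have hidx' : ¬ p ∣ ((Q : Subgroup (T m : Subgroup (Cfsg.Sz F m))).map
        (T m : Subgroup (Cfsg.Sz F m)).subtype).index := by
      rw [Subgroup.index_map_subtype]
      exact fun h => (hp.out.dvd_mul.mp h).elim Q.not_dvd_index hidx
    have e := Sylow.equiv (hQG.toSylow hidx') P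
    have : IsCyclic (T m : Subgroup (Cfsg.Sz F m)) :=
      isCyclic_of_surjective (MonoidHom.ofInjective (t_injective (F := F) m)).toMonoidHom
        (MonoidHom.ofInjective (t_injective (F := F) m)).surjective
    have : IsCyclic ↥((hQG.toSylow hidx') : Subgroup (Cfsg.Sz F m)) :=
      Subgroup.isCyclic_of_le (Subgroup.map_subtype_le _)
    exact isCyclic_of_surjective e.toMonoidHom e.surjective

theorem charpoly_hom_conj {G R : Type*} [Group G] [CommRing R] (f : G →* Matrix (Fin 4) (Fin 4) R)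
    (n h : G) : (f (n * h * n⁻¹)).charpoly = (f h).charpoly := by
  have e := Matrix.charpoly_units_conj (Units.map f (toUnits n)) (f h)
  rw [← Matrix.coe_units_inv, ← map_inv, Units.coe_map, Units.coe_map, val_toUnits_apply, ← map_inv, val_toUnits_apply,
    ← map_mul, ← map_mul] at e
  exact e

/-- The centraliser of a fixed-point-free element has index at most four in its normaliser. -/
theorem relIndex_centralizer_le {g : Cfsg.Sz F m} (hg : FixFree m g) :
    (Subgroup.centralizer {g}).relIndex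
      (Subgroup.normalizer (Subgroup.centralizer {g} : Set (Cfsg.Sz F m))) ≤ 4 := by
  classical
  obtain ⟨p, h, hp, hp2, hpQ, ho, hh⟩ := exists_prime_power_elt m hg
  have := Fact.mk hp
  set A := Subgroup.centralizer {g}
  set N := Subgroup.normalizer (A : Set (Cfsg.Sz F m))
  set M := toMat m h with hM
  have hhA : h ∈ A := (Subgroup.zpowers_le (H := A)).mpr
    (Subgroup.mem_centralizer_singleton_iff.mpr rfl) hh
  have hh1 : h ≠ 1 := fun h' => hp.ne_one (by rw [← ho, h', orderOf_one])
  have hCh : Subgroup.centralizer {h} = A := centralizer_eq_of_mem m hg hhA hh1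
  have hM1 : M ≠ 1 := by
    rw [hM, ne_eq, ← (toMat (F := F) m).map_one, (toMat_injective m).eq_iff]
    exact hh1
  have hMp : M ^ p = 1 := by rw [hM, ← map_pow, ← ho, pow_orderOf_eq_one, map_one]
  have := commutant_isDomain hpQ hp2 hMp hM1
  let _ : CommRing (commutant M) :=
    { (inferInstance : Ring (commutant M)) with
      mul_comm := (Finite.isDomain_to_isField (commutant M)).mul_comm }
  have hmem : ∀ n : N, toMat m (n.1 * h * n.1⁻¹) ∈ commutant M := by
    intro n
    rw [mem_commutant, hM, ← map_mul, ← map_mul]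
    congr 1
    exact centralizer_commute m hg hhA ((Subgroup.mem_normalizer_iff.mp n.2 h).mp hhA)
  let P : (commutant M)[X] := (M.charpoly).map (algebraMap F (commutant M))
  have hP : P ≠ 0 := ((Matrix.charpoly_monic M).map _).ne_zero
  have hroot : ∀ n : N, (⟨toMat m (n.1 * h * n.1⁻¹), hmem n⟩ : commutant M) ∈ P.roots.toFinset := by
    intro n
    rw [Multiset.mem_toFinset, mem_roots hP, IsRoot.def, eval_map, ← aeval_def]
    apply Subtype.ext
    rw [← Subalgebra.coe_val, ← aeval_algHom_apply, Subalgebra.coe_val]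
    show aeval (toMat m (n.1 * h * n.1⁻¹)) M.charpoly = 0
    have hc : M.charpoly = (toMat m (n.1 * h * n.1⁻¹)).charpoly := (charpoly_hom_conj (toMat m) n.1 h).symm
    rw [hc]
    exact Matrix.aeval_self_charpoly _
  let φ : (N ⧸ A.subgroupOf N) → P.roots.toFinset :=
    Quotient.lift (fun n : N =>
      (⟨⟨toMat m (n.1 * h * n.1⁻¹), hmem n⟩, hroot n⟩ : P.roots.toFinset)) (by
      intro a b hab
      have hab := QuotientGroup.leftRel_apply.mp hab
      rw [Subgroup.mem_subgroupOf, ← hCh, Subgroup.mem_centralizer_singleton_iff] at hab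
      apply Subtype.ext
      apply Subtype.ext
      show toMat m (a.1 * h * a.1⁻¹) = toMat m (b.1 * h * b.1⁻¹)
      congr 1
      have hb : (b : Cfsg.Sz F m) = a * ((a⁻¹ * b : N) : Cfsg.Sz F m) := by simp
      rw [hb, mul_assoc (a : Cfsg.Sz F m) _ h, hab]
      group)
  have hφ : Function.Injective φ := by
    intro x y
    induction x using QuotientGroup.induction_on
    induction y using QuotientGroup.induction_on
    rename_i a b
    intro hxy
    have e : toMat m (a.1 * h * a.1⁻¹) = toMat m (b.1 * h * b.1⁻¹) :=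
      congrArg (fun z => z.1.1) hxy
    have e' := toMat_injective m e
    rw [QuotientGroup.eq, Subgroup.mem_subgroupOf, ← hCh, Subgroup.mem_centralizer_singleton_iff]
    simp only [Subgroup.coe_mul, Subgroup.coe_inv]
    calc (a : Cfsg.Sz F m)⁻¹ * b * h = (a : Cfsg.Sz F m)⁻¹ * (b.1 * h * b.1⁻¹) * b := by group
      _ = h * ((a : Cfsg.Sz F m)⁻¹ * b) := by rw [← e']; group
  calc A.relIndex N = Nat.card (N ⧸ A.subgroupOf N) := rfl
    _ ≤ Nat.card P.roots.toFinset := Nat.card_le_card_of_injective φ hφ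
    _ ≤ 4 := by
      rw [Nat.card_eq_fintype_card, Fintype.card_coe]
      refine (Multiset.toFinset_card_le _).trans ((card_roots' P).trans ?_)
      rw [(Matrix.charpoly_monic M).natDegree_map, Matrix.charpoly_natDegree_eq_dim]
      simp

end Cfsg.Agent.Suzuki
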