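import Cfsg.Agent.Suzuki.Torus

/-!
An element of the Suzuki group fixing a non-zero vector is a 2-element.
-/

set_option autoImplicit false

open Cfsg MulAction Matrix

namespace Cfsg.Agent.Suzuki

variable {F : Type*} [Field F] [Fintype F] (m : ℕ) [SzField F m]

theorem orderOf_dvd_of_fixed_vector {g : Cfsg.Sz F m} {v : Fin 4 → F} (hv : v ≠ 0)
    (h : toMat m g *ᵥ v = v) : orderOf g ∣ 2 ^ (2 * (2 * m + 1)) := by
  by_cases hg1 : g = 1
  · simp [hg1]
  by_cases hf : FixFree m g
  · exfalso
    obtain ⟨p, x, hp, hp2, hpQ, ho, hx⟩ := exists_prime_power_elt m hf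
    have := Fact.mk hp
    obtain ⟨i, rfl⟩ := (mem_powers_iff_mem_zpowers (x := g)).mpr hx
    refine hv (no_fixed_vector (M := toMat m (g ^ i)) hpQ hp2 ?_ ?_ ?_)
    · rw [← MonoidHom.map_pow, ← ho, pow_orderOf_eq_one, MonoidHom.map_one]
    · rw [ne_eq, ← (toMat (F := F) m).map_one, (toMat_injective m).eq_iff, ← orderOf_eq_one_iff]
      dsimp only at ho
      rw [ho]; exact hp.ne_one
    · rw [MonoidHom.map_pow]; exact pow_mulVec_eq h i
  rcases exists_conj_U_or_T m hf with ⟨k, hk⟩ | ⟨k, hk⟩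
  · rw [← (MulAut.conj k).orderOf_eq g, MulAut.conj_apply]
    refine (Subgroup.orderOf_dvd_natCard _ hk).trans ?_
    rw [card_U, card_nat (F := F) m, ← pow_mul, mul_comm]
  · exfalso
    obtain ⟨s, hs⟩ := (mem_T m).mp hk
    have hs1 : s ≠ 1 := by
      rintro rfl
      rw [map_one, conj_eq_one_iff] at hs
      exact hg1 hs
    set v' := toMat m k *ᵥ v with hv'
    have hv'0 : v' ≠ 0 := by
      intro h0
      apply hv
      have := congrArg (fun z => toMat m k⁻¹ *ᵥ z) h0
      simp only [hv', Matrix.mulVec_mulVec, Matrix.mulVec_zero, ← MonoidHom.map_mul, inv_mul_cancel,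
        MonoidHom.map_one, Matrix.one_mulVec] at this
      exact this
    have hfix : toMat m (t m s) *ᵥ v' = v' := by
      rw [hv', ← hs, Matrix.mulVec_mulVec, ← MonoidHom.map_mul, inv_mul_cancel_right,
        MonoidHom.map_mul, ← Matrix.mulVec_mulVec, h]
    have hmat : toMat m (t m s) = tMat m s := rfl
    rw [hmat, tMat] at hfix
    apply hv'0
    have h1 : (s : F) ≠ 1 := fun h => hs1 (Units.ext h)
    have h2 : (s : F) * th m (s : F) ≠ 1 := fun h => h1 (eq_one_of_th_mul m (by rwa [mul_comm]))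
    have key : ∀ (i : Fin 4) (c : F), c ≠ 1 → c * v' i = v' i → v' i = 0 := by
      intro i c hc he
      by_contra hne
      exact hc (mul_right_cancel₀ hne (he.trans (one_mul _).symm))
    funext i
    have hi := congrFun hfix i
    rw [Matrix.mulVec_diagonal] at hi
    fin_cases i
    · exact key _ _ h2 hi
    · exact key _ _ h1 hi
    · exact key _ _ (fun h => h1 (inv_eq_one.mp h)) hi
    · exact key _ _ (fun h => h2 (inv_eq_one.mp h)) hi

end Cfsg.Agent.Suzuki
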