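import Cfsg.Agent.Suzuki.Count

/-!
The two classes of exceptional tori, of orders `q ± 2^(m+1) + 1`, of index four in their normalisers;
the partition of the group; real elements of odd order.
-/

set_option autoImplicit false

open Cfsg MulAction
open scoped Pointwise

namespace Cfsg.Agent.Suzuki

variable {F : Type*} [Field F] [Fintype F] (m : ℕ) [SzField F m]

/-- `q + 2^(m+1) + 1`. -/
abbrev aPlus : ℕ := 2 ^ (2 * m + 1) + 2 ^ (m + 1) + 1

/-- `q - 2^(m+1) + 1`. -/
abbrev aMinus : ℕ := 2 ^ (2 * m + 1) - 2 ^ (m + 1) + 1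

theorem map_conj_centralizer (k g : Cfsg.Sz F m) :
    (Subgroup.centralizer {g}).map (MulAut.conj k).toMonoidHom =
      Subgroup.centralizer {k * g * k⁻¹} := by
  ext x
  rw [Subgroup.mem_map_equiv, Subgroup.mem_centralizer_singleton_iff,
    Subgroup.mem_centralizer_singleton_iff, MulAut.conj_symm_apply]
  constructor
  · intro h
    have := congrArg (fun y => k * y * k⁻¹) h
    simpa [mul_assoc] using this
  · intro h
    have := congrArg (fun y => k⁻¹ * y * k) h
    simpa [mul_assoc] using this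

theorem centralizer_card_gt {g : Cfsg.Sz F m} (hg : FixFree m g) :
    5 ≤ Nat.card (Subgroup.centralizer {g}) := by
  set a := Nat.card (Subgroup.centralizer {g}) with ha
  have h1 : a ≠ 1 := by
    intro h
    have hbot := Subgroup.eq_bot_of_card_eq _ h
    have : g ∈ Subgroup.centralizer {g} := Subgroup.mem_centralizer_singleton_iff.mpr rfl
    rw [hbot, Subgroup.mem_bot] at this
    exact fixFree_ne_one m hg this
  have h0 : 0 < a := Nat.card_pos
  have h2 : ¬ 2 ∣ a := fun h => odd_Q (F := F) m (h.trans (card_centralizer_dvd m hg))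
  have h3 : ¬ 3 ∣ a := fun h =>
    three_not_dvd_card (F := F) m (h.trans (Subgroup.card_subgroup_dvd_card _))
  omega

theorem relIndex_mul_card (g : Cfsg.Sz F m) :
    (Subgroup.centralizer {g}).relIndex (Subgroup.normalizer (Subgroup.centralizer {g} : Set (Cfsg.Sz F m))) *
      Nat.card (Subgroup.centralizer {g}) =
      Nat.card (Subgroup.normalizer (Subgroup.centralizer {g} : Set (Cfsg.Sz F m))) := by
  set A := Subgroup.centralizer {g}
  rw [← (A.subgroupOf (Subgroup.normalizer (A : Set (Cfsg.Sz F m)))).card_mul_index,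
    Nat.card_congr (Subgroup.subgroupOfEquivOfLe (Subgroup.le_normalizer (H := A))).toEquiv, mul_comm]
  rfl

theorem relIndex_mem {g : Cfsg.Sz F m} (hg : FixFree m g) :
    (Subgroup.centralizer {g}).relIndex
        (Subgroup.normalizer (Subgroup.centralizer {g} : Set (Cfsg.Sz F m))) = 1 ∨
      (Subgroup.centralizer {g}).relIndex
        (Subgroup.normalizer (Subgroup.centralizer {g} : Set (Cfsg.Sz F m))) = 2 ∨
      (Subgroup.centralizer {g}).relIndex
        (Subgroup.normalizer (Subgroup.centralizer {g} : Set (Cfsg.Sz F m))) = 4 := by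
  set e := (Subgroup.centralizer {g}).relIndex
    (Subgroup.normalizer (Subgroup.centralizer {g} : Set (Cfsg.Sz F m)))
  have hle : e ≤ 4 := relIndex_centralizer_le m hg
  have h0 : e ≠ 0 := Subgroup.index_ne_zero_of_finite
  have h3 : e ≠ 3 := by
    intro h
    refine three_not_dvd_card (F := F) m (Dvd.dvd.trans ⟨Nat.card (Subgroup.centralizer {g}), ?_⟩
      (Subgroup.card_subgroup_dvd_card (Subgroup.normalizer (Subgroup.centralizer {g} : Set (Cfsg.Sz F m)))))
    rw [← h, relIndex_mul_card]
  omega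

theorem exists_conj_of_dvd {g g' : Cfsg.Sz F m} (hg : FixFree m g) (hg' : FixFree m g') {p : ℕ}
    [hp : Fact p.Prime] (h : p ∣ Nat.card (Subgroup.centralizer {g}))
    (h' : p ∣ Nat.card (Subgroup.centralizer {g'})) :
    ∃ k, Subgroup.centralizer {g'} = (Subgroup.centralizer {g}).map (MulAut.conj k).toMonoidHom := by
  obtain ⟨P, hP⟩ := exists_sylow_le_centralizer m hg h
  obtain ⟨P', hP'⟩ := exists_sylow_le_centralizer m hg' h'
  obtain ⟨k, rfl⟩ := exists_smul_eq (Cfsg.Sz F m) P P'
  refine ⟨k, ?_⟩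
  have hdvd : p ∣ Nat.card (Cfsg.Sz F m) := h.trans (Subgroup.card_subgroup_dvd_card _)
  obtain ⟨x, hx⟩ := exists_prime_orderOf_dvd_card' p (P.dvd_card_of_dvd_card hdvd)
  have hx1 : (x : Cfsg.Sz F m) ≠ 1 := fun he => hp.out.ne_one (by
    rw [← hx, ← Subgroup.orderOf_coe, he, orderOf_one])
  have hy1 : k * x * k⁻¹ ≠ (1 : Cfsg.Sz F m) := by rwa [ne_eq, conj_eq_one_iff]
  have hy : k * x * k⁻¹ ∈ Subgroup.centralizer {g'} := hP' ⟨x, x.2, rfl⟩
  rw [map_conj_centralizer, ← centralizer_eq_of_mem m hg' hy hy1]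
  refine centralizer_eq_of_mem m (fixFree_conj m k hg) ?_ hy1
  rw [← map_conj_centralizer]
  exact Subgroup.mem_map_of_mem _ (hP x.2)

theorem exists_conj_of_card_eq {g g' : Cfsg.Sz F m} (hg : FixFree m g) (hg' : FixFree m g')
    (h : Nat.card (Subgroup.centralizer {g}) = Nat.card (Subgroup.centralizer {g'})) :
    ∃ k, Subgroup.centralizer {g'} = (Subgroup.centralizer {g}).map (MulAut.conj k).toMonoidHom := by
  have hne : Nat.card (Subgroup.centralizer {g}) ≠ 1 := by
    have := centralizer_card_gt m hg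
    omega
  have := Fact.mk (Nat.minFac_prime hne)
  exact exists_conj_of_dvd m hg hg' (Nat.minFac_dvd _) (h ▸ Nat.minFac_dvd _)

theorem card_centralizer_map (k g : Cfsg.Sz F m) :
    Nat.card ((Subgroup.centralizer {g}).map (MulAut.conj k).toMonoidHom) =
      Nat.card (Subgroup.centralizer {g}) :=
  (Nat.card_congr ((Subgroup.centralizer {g}).equivMapOfInjective _
    (MulAut.conj k).injective).toEquiv).symm

/-- The number of conjugates of a subgroup. -/
theorem card_conjugates {G : Type*} [Group G] [Finite G] (A : Subgroup G) :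
    Nat.card (Set.range (fun k : G => A.map (MulAut.conj k).toMonoidHom)) =
      (Subgroup.normalizer (A : Set G)).index := by
  classical
  rw [Subgroup.index]
  have hN : ∀ a b : G, a⁻¹ * b ∈ Subgroup.normalizer (A : Set G) ↔
      A.map (MulAut.conj a).toMonoidHom = A.map (MulAut.conj b).toMonoidHom := by
    intro a b
    rw [Subgroup.mem_normalizer_iff]
    constructor
    · intro h
      ext x
      rw [Subgroup.mem_map_equiv, Subgroup.mem_map_equiv, MulAut.conj_symm_apply, MulAut.conj_symm_apply,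
        h (b⁻¹ * x * b)]
      simp [mul_assoc]
    · intro h x
      have := congrArg (fun H : Subgroup G => b * x * b⁻¹ ∈ H) h
      simp only [Subgroup.mem_map_equiv, MulAut.conj_symm_apply, eq_iff_iff] at this
      simp [mul_assoc] at this ⊢
      exact this.symm
  refine Nat.card_congr (Equiv.symm (Equiv.ofBijective
    (Quotient.lift (fun k : G => (⟨_, k, rfl⟩ : Set.range (fun k : G => A.map (MulAut.conj k).toMonoidHom)))
      (fun a b h => Subtype.ext ((hN a b).mp (QuotientGroup.leftRel_apply.mp h)))) ⟨?_, ?_⟩))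
  · intro x y
    induction x using QuotientGroup.induction_on
    induction y using QuotientGroup.induction_on
    intro h
    exact QuotientGroup.eq.mpr ((hN _ _).mpr (congrArg Subtype.val h))
  · rintro ⟨_, k, rfl⟩
    exact ⟨QuotientGroup.mk k, rfl⟩

theorem prod_dvd_of_pairwise {S : Finset ℕ} {Q : ℕ}
    (hcop : ∀ a ∈ S, ∀ b ∈ S, a ≠ b → Nat.Coprime a b) (hd : ∀ a ∈ S, a ∣ Q) : ∏ a ∈ S, a ∣ Q := by
  classical
  induction S using Finset.induction_on with
  | empty => simp
  | insert a S ha ih =>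
    rw [Finset.prod_insert ha]
    refine Nat.Coprime.mul_dvd_of_dvd_of_dvd (Nat.Coprime.prod_right (fun b hb => ?_))
      (hd a (Finset.mem_insert_self _ _))
      (ih (fun x hx y hy hxy => hcop x (Finset.mem_insert_of_mem hx) y (Finset.mem_insert_of_mem hy) hxy)
        (fun x hx => hd x (Finset.mem_insert_of_mem hx)))
    exact hcop a (Finset.mem_insert_self _ _) b (Finset.mem_insert_of_mem hb) (fun h => ha (h ▸ hb))

theorem torus_classes :
    (∀ g : Cfsg.Sz F m, FixFree m g →
      (Nat.card (Subgroup.centralizer {g}) = aPlus m ∨ Nat.card (Subgroup.centralizer {g}) = aMinus m) ∧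
      (Subgroup.centralizer {g}).relIndex
        (Subgroup.normalizer (Subgroup.centralizer {g} : Set (Cfsg.Sz F m))) = 4) ∧
    (∃ g : Cfsg.Sz F m, FixFree m g ∧ Nat.card (Subgroup.centralizer {g}) = aPlus m) ∧
    (∃ g : Cfsg.Sz F m, FixFree m g ∧ Nat.card (Subgroup.centralizer {g}) = aMinus m) := by
  classical
  have : Fintype (Cfsg.Sz F m) := Fintype.ofFinite _
  set R := Finset.univ.filter (fun g : Cfsg.Sz F m => FixFree m g) with hR
  have hRmem : ∀ g, g ∈ R ↔ FixFree m g := by simp [hR]
  set As := R.image (fun g => Subgroup.centralizer {g}) with hAs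
  set S := As.image (fun A : Subgroup (Cfsg.Sz F m) => Nat.card A) with hS
  have hASmem : ∀ a ∈ S, ∃ g : Cfsg.Sz F m, FixFree m g ∧ Nat.card (Subgroup.centralizer {g}) = a := by
    intro a ha
    simp only [hS, hAs, Finset.mem_image, hRmem, exists_exists_and_eq_and] at ha
    obtain ⟨g, hg, rfl⟩ := ha
    exact ⟨g, hg, rfl⟩
  choose! rep hrep hrepc using hASmem
  set e : ℕ → ℕ := fun a => (Subgroup.centralizer {rep a}).relIndex
    (Subgroup.normalizer (Subgroup.centralizer {rep a} : Set (Cfsg.Sz F m))) with he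
  have hfib : ∀ a ∈ S, (As.filter (fun A : Subgroup (Cfsg.Sz F m) => Nat.card A = a)).card * (e a * a) =
      Nat.card (Cfsg.Sz F m) := by
    intro a ha
    set A := Subgroup.centralizer {rep a} with hA
    have heq : (As.filter (fun B : Subgroup (Cfsg.Sz F m) => Nat.card B = a)).card =
        Nat.card (Set.range (fun k => A.map (MulAut.conj k).toMonoidHom)) := by
      rw [← Nat.card_eq_finsetCard]
      refine Nat.card_congr (Equiv.subtypeEquivRight (fun B => ?_))
      simp only [Finset.mem_filter, hAs, Finset.mem_image, hRmem, Set.mem_range]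
      constructor
      · rintro ⟨⟨g, hg, rfl⟩, hc⟩
        obtain ⟨k, hk⟩ := exists_conj_of_card_eq m (hrep a ha) hg ((hrepc a ha).trans hc.symm)
        exact ⟨k, hk.symm⟩
      · rintro ⟨k, rfl⟩
        exact ⟨⟨_, fixFree_conj m k (hrep a ha), (map_conj_centralizer m k _).symm⟩,
          (card_centralizer_map m k _).trans (hrepc a ha)⟩
    have h := relIndex_mul_card m (rep a)
    rw [hrepc a ha] at h
    rw [heq, card_conjugates, h, mul_comm, Subgroup.card_mul_index]
  have hcount : ∑ A ∈ As, (Nat.card A - 1) = R.card := by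
    rw [hAs, Finset.card_eq_sum_card_image (fun g => Subgroup.centralizer {g}) R]
    refine Finset.sum_congr rfl (fun A hA => ?_)
    obtain ⟨g, hg, rfl⟩ := Finset.mem_image.mp hA
    rw [hRmem] at hg
    have e : R.filter (fun k => Subgroup.centralizer {k} = Subgroup.centralizer {g}) =
        (Finset.univ.filter (fun k => k ∈ Subgroup.centralizer {g})).erase 1 := by
      ext k
      simp only [Finset.mem_filter, Finset.mem_erase, hRmem, Finset.mem_univ, true_and]
      constructor
      · rintro ⟨hk, hke⟩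
        refine ⟨fixFree_ne_one m hk, ?_⟩
        rw [← hke, Subgroup.mem_centralizer_singleton_iff]
      · rintro ⟨hk1, hk⟩
        exact ⟨fixFree_of_mem_centralizer m hg hk hk1, centralizer_eq_of_mem m hg hk hk1⟩
    rw [e, Finset.card_erase_of_mem (by simp [one_mem]), ← Fintype.card_subtype, Nat.card_eq_fintype_card]
  have hgroup : ∑ A ∈ As, (Nat.card A - 1) =
      ∑ a ∈ S, (As.filter (fun A : Subgroup (Cfsg.Sz F m) => Nat.card A = a)).card * (a - 1) := by
    rw [← Finset.sum_fiberwise_of_maps_to (g := fun A : Subgroup (Cfsg.Sz F m) => Nat.card A)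
      (fun A hA => Finset.mem_image_of_mem (fun A : Subgroup (Cfsg.Sz F m) => Nat.card A) hA) (fun A => Nat.card A - 1)]
    refine Finset.sum_congr rfl (fun a _ => ?_)
    rw [Finset.sum_congr rfl (fun A hA => by rw [(Finset.mem_filter.mp hA).2]), Finset.sum_const,
      smul_eq_mul]
  have hfree : 2 * R.card = Nat.card F ^ 3 * (Nat.card F - 1) ^ 2 := by
    rw [← card_fixFree m, Nat.card_eq_fintype_card, Fintype.card_subtype, hR]
  rw [← hcount, hgroup] at hfree
  have hc : ∀ a ∈ S, 4 / e a = 1 ∨ 4 / e a = 2 ∨ 4 / e a = 4 := by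
    intro a ha
    rcases relIndex_mem m (hrep a ha) with h | h | h <;> simp [he, h]
  have h5 : ∀ a ∈ S, 5 ≤ a := fun a ha => (hrepc a ha) ▸ centralizer_card_gt m (hrep a ha)
  have hprod : ∏ a ∈ S, a = Nat.card F ^ 2 + 1 := by
    have hcop : (S : Set ℕ).Pairwise (fun a b => Nat.Coprime a b) := by
      intro a ha b hb hab
      refine Nat.coprime_of_dvd (fun p hp h1 h2 => hab ?_)
      have := Fact.mk hp
      obtain ⟨k, hk⟩ := exists_conj_of_dvd m (hrep a ha) (hrep b hb) (p := p)
        ((hrepc a ha).symm ▸ h1) ((hrepc b hb).symm ▸ h2)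
      rw [← hrepc a ha, ← hrepc b hb, hk, card_centralizer_map]
    apply Nat.dvd_antisymm
    · exact prod_dvd_of_pairwise (fun a ha b hb hab => hcop ha hb hab)
        (fun a ha => (hrepc a ha) ▸ card_centralizer_dvd m (hrep a ha))
    · rw [Nat.dvd_iff_prime_pow_dvd_dvd]
      intro p k hp hpk
      rcases Nat.eq_zero_or_pos k with rfl | hk
      · simp
      have := Fact.mk hp
      obtain ⟨P⟩ : Nonempty (Sylow p (Cfsg.Sz F m)) := inferInstance
      obtain ⟨g, hg, hle⟩ := exists_fixFree_of_sylow m ((dvd_pow_self p hk.ne').trans hpk) P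
      have ha : Nat.card (Subgroup.centralizer {g}) ∈ S :=
        Finset.mem_image_of_mem _ (Finset.mem_image_of_mem _ ((hRmem g).mpr hg))
      refine Dvd.dvd.trans ?_ (Finset.dvd_prod_of_mem _ ha)
      refine Dvd.dvd.trans ?_ (Subgroup.card_dvd_of_le hle)
      refine P.pow_dvd_card_of_pow_dvd_card (hpk.trans ?_)
      rw [card_Sz]
      exact dvd_mul_left _ _
  have hq8 := eight_le_card (F := F) m
  rw [← Nat.card_eq_fintype_card] at hq8
  have hq1 : (1 : ℚ) < (Nat.card F : ℚ) := by exact_mod_cast (by omega : 1 < Nat.card F)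
  have hsum : ∑ a ∈ S, ((4 / e a : ℕ) : ℚ) * (1 - 1 / (a : ℚ)) =
      2 * (Nat.card F : ℚ) * ((Nat.card F : ℚ) - 1) / ((Nat.card F : ℚ) ^ 2 + 1) := by
    have hG : (Nat.card (Cfsg.Sz F m) : ℚ) =
        (Nat.card F : ℚ) ^ 2 * ((Nat.card F : ℚ) - 1) * ((Nat.card F : ℚ) ^ 2 + 1) := by
      rw [card_Sz, Nat.cast_mul, Nat.cast_mul, Nat.cast_sub (by omega)]
      push_cast
      ring
    have hG0 : (Nat.card (Cfsg.Sz F m) : ℚ) ≠ 0 := by
      exact_mod_cast Nat.card_pos.ne'
    have hterm : ∀ a ∈ S, ((4 / e a : ℕ) : ℚ) * (1 - 1 / (a : ℚ)) =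
        4 * (((As.filter (fun A : Subgroup (Cfsg.Sz F m) => Nat.card A = a)).card : ℚ) * ((a : ℚ) - 1)) /
          (Nat.card (Cfsg.Sz F m) : ℚ) := by
      intro a ha
      have ha5 := h5 a ha
      have he0 : e a ≠ 0 := Subgroup.index_ne_zero_of_finite
      have hd : e a ∣ 4 := by
        rcases relIndex_mem m (hrep a ha) with h | h | h <;> simp [he, h]
      have he0' : (e a : ℚ) ≠ 0 := by exact_mod_cast he0
      have ha0 : (a : ℚ) ≠ 0 := by positivity
      rw [Nat.cast_div hd he0']
      have hf : ((As.filter (fun A : Subgroup (Cfsg.Sz F m) => Nat.card A = a)).card : ℚ) *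
          ((e a : ℚ) * a) = Nat.card (Cfsg.Sz F m) := by exact_mod_cast hfib a ha
      have hn0 : ((As.filter (fun A : Subgroup (Cfsg.Sz F m) => Nat.card A = a)).card : ℚ) ≠ 0 :=
        fun h => hG0 (by rw [← hf, h, zero_mul])
      rw [← hf]
      push_cast
      field_simp
    rw [Finset.sum_congr rfl hterm, ← Finset.sum_div, ← Finset.mul_sum]
    have hfree' : 2 * ∑ a ∈ S,
        ((As.filter (fun A : Subgroup (Cfsg.Sz F m) => Nat.card A = a)).card : ℚ) * ((a : ℚ) - 1) =
        (Nat.card F : ℚ) ^ 3 * ((Nat.card F : ℚ) - 1) ^ 2 := by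
      have h := congrArg (fun n : ℕ => (n : ℚ)) hfree
      simp only [Nat.cast_mul, Nat.cast_pow, Nat.cast_sum, Nat.cast_ofNat] at h
      rw [Nat.cast_sub (by omega), Nat.cast_one] at h
      rw [← h]
      congr 1
      refine Finset.sum_congr rfl (fun a ha => ?_)
      rw [Nat.cast_sub (by linarith [h5 a ha]), Nat.cast_one]
    have h1 : ((Nat.card F : ℚ) - 1) ≠ 0 := sub_ne_zero.mpr hq1.ne'
    have h2 : (Nat.card F : ℚ) ≠ 0 := by positivity
    rw [show (4 : ℚ) = 2 * 2 by norm_num, mul_assoc, hfree', hG]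
    field_simp
  obtain ⟨a, b, hab, hSab, hca, hcb, haE, hbE⟩ := orders_arith (F := F) m hc h5 hprod hsum
  refine ⟨fun g hg => ?_, ⟨rep a, hrep a (by simp [hSab]), (hrepc a (by simp [hSab])).trans haE⟩,
    ⟨rep b, hrep b (by simp [hSab]), (hrepc b (by simp [hSab])).trans hbE⟩⟩
  have hmem : Nat.card (Subgroup.centralizer {g}) ∈ S :=
    Finset.mem_image_of_mem _ (Finset.mem_image_of_mem _ ((hRmem g).mpr hg))
  constructor
  · have h := hmem
    simp only [hSab, Finset.mem_insert, Finset.mem_singleton] at h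
    rcases h with h | h
    · exact Or.inl (h.trans haE)
    · exact Or.inr (h.trans hbE)
  · set c := Nat.card (Subgroup.centralizer {g}) with hc'
    obtain ⟨k, hk⟩ := exists_conj_of_card_eq m (hrep c hmem) hg (hrepc c hmem)
    have h4 : e c = 4 := by
      have h1 : 4 / e c = 1 := by
        simp only [hSab, Finset.mem_insert, Finset.mem_singleton] at hmem
        rcases hmem with h | h <;> rw [h] <;> assumption
      rcases relIndex_mem m (hrep c hmem) with h | h | h <;> simp [he, h] at h1 ⊢
    rw [hk, ← Subgroup.map_equiv_normalizer_eq,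
      Subgroup.relIndex_map_map_of_injective _ _ (MulAut.conj k).injective]
    exact h4

theorem card_centralizer_fixFree {g : Cfsg.Sz F m} (hg : FixFree m g) :
    Nat.card (Subgroup.centralizer {g}) = aPlus m ∨ Nat.card (Subgroup.centralizer {g}) = aMinus m :=
  ((torus_classes m).1 g hg).1

theorem card_normalizer_fixFree {g : Cfsg.Sz F m} (hg : FixFree m g) :
    Nat.card (Subgroup.normalizer (Subgroup.centralizer {g} : Set (Cfsg.Sz F m))) =
      4 * Nat.card (Subgroup.centralizer {g}) := by
  rw [← relIndex_mul_card, ((torus_classes m).1 g hg).2]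

theorem isNilpotent_of_inj {G H : Type*} [Group G] [Group H] [Group.IsNilpotent H] (f : G →* H)
    (hf : Function.Injective f) : Group.IsNilpotent G :=
  nilpotent_of_surjective (MonoidHom.ofInjective hf).symm.toMonoidHom (MonoidHom.ofInjective hf).symm.surjective

/-- The Suzuki group is a CN-group. -/
theorem isCNGroup : Cfsg.IsCNGroup (Cfsg.Sz F m) := by
  intro g hg
  by_cases hf : FixFree m g
  · have := centralizer_cyclic m hf
    let _ := IsCyclic.commGroup (α := Subgroup.centralizer {g})
    infer_instance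
  rcases exists_conj_U_or_T m hf with ⟨k, hk⟩ | ⟨k, hk⟩
  · have hnil : Group.IsNilpotent (U m : Subgroup (Cfsg.Sz F m)) := (isPGroup_U m).isNilpotent
    have hle : (Subgroup.centralizer {g}).map (MulAut.conj k).toMonoidHom ≤ U m := by
      rw [map_conj_centralizer]
      exact centralizer_U_le m hk (by rwa [ne_eq, conj_eq_one_iff])
    refine isNilpotent_of_inj ((Subgroup.inclusion hle).comp
      ((Subgroup.centralizer {g}).equivMapOfInjective _ (MulAut.conj k).injective).toMonoidHom) ?_
    exact (Subgroup.inclusion_injective hle).comp (MulEquiv.injective _)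
  · have hle : (Subgroup.centralizer {g}).map (MulAut.conj k).toMonoidHom = T m := by
      rw [map_conj_centralizer]
      exact centralizer_T_eq m hk (by rwa [ne_eq, conj_eq_one_iff])
    have hT : Group.IsNilpotent (T m : Subgroup (Cfsg.Sz F m)) := by
      have : IsCyclic (T m : Subgroup (Cfsg.Sz F m)) :=
        isCyclic_of_surjective (MonoidHom.ofInjective (t_injective (F := F) m)).toMonoidHom
          (MonoidHom.ofInjective (t_injective (F := F) m)).surjective
      let _ := IsCyclic.commGroup (α := (T m : Subgroup (Cfsg.Sz F m)))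
      infer_instance
    refine isNilpotent_of_inj ((Subgroup.inclusion hle.le).comp
      ((Subgroup.centralizer {g}).equivMapOfInjective _ (MulAut.conj k).injective).toMonoidHom) ?_
    exact (Subgroup.inclusion_injective hle.le).comp (MulEquiv.injective _)

theorem isCyclic_card_eq {V : Subgroup (Cfsg.Sz F m)} (hV : IsCyclic V)
    (hn : Nat.card V = aPlus m ∨ Nat.card V = aMinus m) :
    ∃ g, FixFree m g ∧ V = Subgroup.centralizer {g} := by
  obtain ⟨g₁, hg₁, hc₁⟩ := (torus_classes (F := F) m).2.1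
  obtain ⟨g₂, hg₂, hc₂⟩ := (torus_classes (F := F) m).2.2
  obtain ⟨g, hg⟩ := IsCyclic.exists_ofOrder_eq_natCard (α := V)
  have hdQ : Nat.card V ∣ Nat.card F ^ 2 + 1 := by
    rcases hn with h | h
    · rw [h, ← hc₁]; exact card_centralizer_dvd m hg₁
    · rw [h, ← hc₂]; exact card_centralizer_dvd m hg₂
  have hone : 1 < Nat.card V := by
    have := centralizer_card_gt m hg₁
    have := centralizer_card_gt m hg₂
    rcases hn with h | h <;> omega
  have hg1 : (g : Cfsg.Sz F m) ≠ 1 := by
    intro h
    rw [← Subgroup.orderOf_coe, h, orderOf_one] at hg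
    omega
  have hgf := fixFree_of_orderOf_dvd m hg1 (by rw [Subgroup.orderOf_coe, hg]; exact hdQ)
  refine ⟨g, hgf, ?_⟩
  have hle : V ≤ Subgroup.centralizer {(g : Cfsg.Sz F m)} := by
    intro x hx
    rw [Subgroup.mem_centralizer_singleton_iff]
    let _ := IsCyclic.commGroup (α := V)
    exact congrArg Subtype.val (mul_comm (⟨x, hx⟩ : V) g)
  refine Subgroup.eq_of_le_of_card_ge hle (le_of_eq ?_)
  rcases card_centralizer_fixFree m hgf with h | h <;> rcases hn with h' | h'
  · rw [h, h']
  · exfalso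
    have hd : aMinus m ∣ aPlus m := by rw [← h, ← h']; exact Subgroup.card_dvd_of_le hle
    exact not_minus_dvd_plus m hd
  · exfalso
    have hle' := Nat.le_of_dvd (by rw [h]; positivity) (Subgroup.card_dvd_of_le hle)
    rw [h, h'] at hle'
    have h1 : 1 ≤ 2 ^ (m + 1) := Nat.one_le_two_pow
    have h2 : 1 ≤ 2 ^ (2 * m + 1) := Nat.one_le_two_pow
    simp only [aPlus, aMinus] at hle'
    omega
  · rw [h, h']
where
  not_minus_dvd_plus (m : ℕ) [SzField F m] : ¬ aMinus m ∣ aPlus m := by
    rintro ⟨c, hc⟩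
    have hm : 1 ≤ m := SzField.pos F
    have hr : 2 * 2 ^ (2 * m + 1) = 2 ^ (m + 1) * 2 ^ (m + 1) := by ring
    have h4 : 4 ≤ 2 ^ (m + 1) :=
      calc (4 : ℕ) = 2 ^ 2 := rfl
        _ ≤ 2 ^ (m + 1) := Nat.pow_le_pow_right (by norm_num) (by omega)
    have hle : 2 ^ (m + 1) ≤ 2 ^ (2 * m + 1) := Nat.pow_le_pow_right (by norm_num) (by omega)
    simp only [aPlus, aMinus] at hc
    obtain ⟨d, hd⟩ := Nat.exists_eq_add_of_le hle
    rw [hd] at hc hr
    simp only [Nat.add_sub_cancel_left] at hc
    rcases Nat.lt_or_ge c 2 with h | h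
    · interval_cases c <;> omega
    rcases Nat.lt_or_ge c 3 with h' | h'
    · interval_cases c
      have hev : 2 ∣ 2 ^ (m + 1) := dvd_pow_self 2 (by omega)
      have hd2 : 2 ∣ d := by
        have : 2 ∣ 2 ^ (2 * m + 1) := dvd_pow_self 2 (by omega)
        omega
      omega
    · nlinarith

end Cfsg.Agent.Suzuki
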