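import Cfsg.Agent.Suzuki.Cover

/-!
Tools for the subgroups of the Suzuki group: involutions, the 2-part of a subgroup, and the number of
elements of a subgroup in the conjugates of one part.
-/

set_option autoImplicit false

open Cfsg MulAction
open scoped Pointwise

namespace Cfsg.Agent.Suzuki

variable {F : Type*} [Field F] [Fintype F] (m : ℕ) [SzField F m]

theorem orderOf_eq_two {j : Cfsg.Sz F m} (hj : j * j = 1) (hj1 : j ≠ 1) : orderOf j = 2 := by
  have : Fact (Nat.Prime 2) := ⟨Nat.prime_two⟩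
  exact orderOf_eq_prime (by rw [pow_two, hj]) hj1

/-- A nontrivial element of 2-power order fixes exactly one point. -/
theorem exists_unique_fixed {j : Cfsg.Sz F m} {i : ℕ} (hj : orderOf j = 2 ^ i) (hj1 : j ≠ 1) :
    ∃ p : suzukiOvoid F m, j • p = p ∧ ∀ q : suzukiOvoid F m, j • q = q → q = p := by
  have hcop : ∀ d, d ∣ (Nat.card F - 1) * (Nat.card F ^ 2 + 1) → d ∣ orderOf j → d = 1 := by
    intro d h1 h2
    have h3 : Nat.Coprime (2 ^ i) ((Nat.card F - 1) * (Nat.card F ^ 2 + 1)) :=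
      ((Nat.prime_two.coprime_iff_not_dvd).mpr (odd_compl m)).pow_left i
    exact Nat.eq_one_of_dvd_coprimes h3 (hj ▸ h2) h1
  have hnf : ¬ FixFree m j := fun hf => hj1 (orderOf_eq_one_iff.mp
    (hcop _ ((orderOf_dvd_of_fixFree m hf).trans (dvd_mul_left _ _)) dvd_rfl))
  rcases exists_conj_U_or_T m hnf with ⟨k, hk⟩ | ⟨k, hk⟩
  · refine ⟨k⁻¹ • oInf m, ?_, fun q hq => ?_⟩
    · have := U_le_B m hk
      rw [mem_B, mul_smul, mul_smul] at this
      exact eq_inv_smul_iff.mpr this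
    · refine eq_inv_smul_iff.mpr (U_fixed m hk (by rwa [ne_eq, conj_eq_one_iff]) ?_)
      rw [mul_smul, mul_smul, inv_smul_smul, hq]
  · refine absurd (orderOf_eq_one_iff.mp (hcop _ ?_ dvd_rfl)) hj1
    rw [← (MulAut.conj k).orderOf_eq j]
    exact (Subgroup.orderOf_dvd_natCard _ hk).trans (card_T (F := F) m ▸ dvd_mul_right _ _)

theorem fixed_unique {j : Cfsg.Sz F m} (hj : j * j = 1) (hj1 : j ≠ 1) {p q : suzukiOvoid F m}
    (hp : j • p = p) (hq : j • q = q) : p = q := by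
  obtain ⟨r, -, hr⟩ := exists_unique_fixed m (i := 1) (by rw [orderOf_eq_two m hj hj1, pow_one]) hj1
  rw [hr p hp, hr q hq]

/-- An element of 2-power order fixing infinity lies in `U`. -/
theorem mem_U_of_two_pow {j : Cfsg.Sz F m} {i : ℕ} (hj : orderOf j = 2 ^ i) (hB : j ∈ B m) :
    j ∈ U m := by
  by_contra hU
  obtain ⟨p, hp, hp'⟩ := exists_second_fixed m hB hU
  obtain ⟨r, -, hr⟩ := exists_unique_fixed m hj (fun h => hU (h ▸ one_mem _))
  exact hp ((hr p hp').trans (hr _ hB).symm)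

theorem mem_U_of_sq {j : Cfsg.Sz F m} (hj : j * j = 1) (hB : j ∈ B m) : j ∈ U m := by
  by_cases hj1 : j = 1
  · rw [hj1]; exact one_mem _
  · exact mem_U_of_two_pow m (i := 1) (by rw [orderOf_eq_two m hj hj1, pow_one]) hB

/-- Involutions of a subgroup with different fixed points are conjugate in it. -/
theorem involutions_conj {M : Subgroup (Cfsg.Sz F m)} {i j : Cfsg.Sz F m} (hi : i ∈ M) (hj : j ∈ M)
    (hi2 : i * i = 1) (hj2 : j * j = 1) (hi1 : i ≠ 1) (hj1 : j ≠ 1)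
    (hne : ∀ p : suzukiOvoid F m, i • p = p → j • p ≠ p) :
    ∃ g ∈ M, g * i * g⁻¹ = j := by
  have hii : i⁻¹ = i := inv_eq_of_mul_eq_one_right hi2
  have hjj : j⁻¹ = j := inv_eq_of_mul_eq_one_right hj2
  set x := i * j with hx
  have hxM : x ∈ M := mul_mem hi hj
  have hxi : i * x * i⁻¹ = x⁻¹ := by
    rw [hx, mul_inv_rev, hii, hjj, ← mul_assoc, hi2, one_mul]
  rcases Nat.even_or_odd (orderOf x) with ⟨r, hr⟩ | ⟨r, hr⟩
  · exfalso
    have hpos := orderOf_pos x
    set v := x ^ r with hv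
    have hv2 : v * v = 1 := by rw [hv, ← pow_add, ← hr, pow_orderOf_eq_one]
    have hv1 : v ≠ 1 := pow_ne_one_of_lt_orderOf (by omega) (by omega)
    have hvi : i * v * i⁻¹ = v := by
      rw [hv, ← conj_pow, hxi, inv_pow, ← hv]
      exact inv_eq_of_mul_eq_one_right hv2
    have hvx : Commute v x := (Commute.refl x).pow_left r
    have hiv : Commute i v := mul_inv_eq_iff_eq_mul.mp hvi
    have hjv : Commute j v := by
      have hje : j = i * x := by rw [hx, ← mul_assoc, hi2, one_mul]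
      rw [hje]
      exact hiv.mul_left hvx.symm
    obtain ⟨p, hp, hp'⟩ := exists_unique_fixed m (i := 1) (by rw [orderOf_eq_two m hv2 hv1, pow_one]) hv1
    refine hne p (hp' _ ?_) (hp' _ ?_)
    · rw [← mul_smul, ← hiv.eq, mul_smul, hp]
    · rw [← mul_smul, ← hjv.eq, mul_smul, hp]
  · refine ⟨x ^ r, pow_mem hxM r, ?_⟩
    have h1 : i * x ^ r * i⁻¹ = (x ^ r)⁻¹ := by rw [← conj_pow, hxi, inv_pow]
    have h2 : i * (x ^ r)⁻¹ = x ^ r * i := by
      rw [← h1, hii, ← mul_assoc, ← mul_assoc, hi2, one_mul]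
    calc x ^ r * i * (x ^ r)⁻¹ = x ^ r * (i * (x ^ r)⁻¹) := mul_assoc _ _ _
      _ = x ^ r * x ^ r * i := by rw [h2, mul_assoc]
      _ = x⁻¹ * i := by
        congr 1
        apply eq_inv_of_mul_eq_one_left
        rw [← pow_add, ← pow_succ, show r + r + 1 = orderOf x by omega, pow_orderOf_eq_one]
      _ = j := by rw [hx, mul_inv_rev, hii, hjj, mul_assoc, hi2, mul_one]

/-- The elements of `M` conjugate in `M` to a nontrivial element of `V`. -/
def classSet (M V : Subgroup (Cfsg.Sz F m)) : Set (Cfsg.Sz F m) :=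
  {g | ∃ x ∈ M, ∃ y ∈ M ⊓ V, y ≠ 1 ∧ x * y * x⁻¹ = g}

variable {m}

theorem classSet_subset {M V : Subgroup (Cfsg.Sz F m)} :
    classSet m M V ⊆ {g | g ∈ M ∧ g ≠ 1} := by
  rintro _ ⟨x, hx, y, ⟨hy, -⟩, hy1, rfl⟩
  exact ⟨mul_mem (mul_mem hx hy) (inv_mem hx), by rwa [ne_eq, conj_eq_one_iff]⟩

variable (m)

theorem mem_map_conj_iff {G : Type*} [Group G] {H : Subgroup G} {x g : G} :
    g ∈ H.map (MulAut.conj x).toMonoidHom ↔ x⁻¹ * g * x ∈ H := by
  rw [Subgroup.mem_map_equiv, MulAut.conj_symm_apply]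

theorem normalizer_of_conj_mem {V : Subgroup (Cfsg.Sz F m)} (hV : IsPart m V) {x y : Cfsg.Sz F m}
    (hy : y ∈ V) (hy1 : y ≠ 1) (hxy : x * y * x⁻¹ ∈ V) :
    x ∈ Subgroup.normalizer (V : Set (Cfsg.Sz F m)) := by
  have h := part_unique m (isPart_conj m x hV) hV
    (g := x * y * x⁻¹) (mem_map_conj_iff.mpr (by simpa [mul_assoc] using hy)) hxy
    (by rwa [ne_eq, conj_eq_one_iff])
  rw [Subgroup.mem_normalizer_iff]
  intro z
  constructor
  · intro hz
    rw [← h, mem_map_conj_iff]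
    simpa [mul_assoc] using hz
  · intro hz
    rw [← h, mem_map_conj_iff] at hz
    simpa [mul_assoc] using hz

theorem disjoint_classSet {M V W : Subgroup (Cfsg.Sz F m)} (hV : IsPart m V) (hW : IsPart m W)
    (hne : ∀ g ∈ M, g ∈ W → g ≠ 1 → g ∉ classSet m M V) :
    Disjoint (classSet m M V) (classSet m M W) := by
  rw [Set.disjoint_left]
  rintro _ ⟨x, hx, y, hy, hy1, rfl⟩ ⟨x', hx', y', hy', hy1', e⟩
  refine hne y' hy'.1 hy'.2 hy1' ⟨x'⁻¹ * x, mul_mem (inv_mem hx') hx, y, hy, hy1, ?_⟩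
  calc x'⁻¹ * x * y * (x'⁻¹ * x)⁻¹ = x'⁻¹ * (x * y * x⁻¹) * x' := by group
    _ = x'⁻¹ * (x' * y' * x'⁻¹) * x' := by rw [e]
    _ = y' := by group

/-- The size of the class of a part. -/
theorem card_classSet {M V : Subgroup (Cfsg.Sz F m)} (hV : IsPart m V) :
    Nat.card (classSet m M V) *
        Nat.card (M ⊓ Subgroup.normalizer (V : Set (Cfsg.Sz F m)) : Subgroup (Cfsg.Sz F m)) =
      Nat.card M * (Nat.card (M ⊓ V : Subgroup (Cfsg.Sz F m)) - 1) := by
  classical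
  set H : Subgroup (Cfsg.Sz F m) := M ⊓ Subgroup.normalizer (V : Set (Cfsg.Sz F m)) with hH
  have hchoice : ∀ g : classSet m M V, ∃ p : Cfsg.Sz F m × Cfsg.Sz F m,
      p.1 ∈ M ∧ p.2 ∈ M ⊓ V ∧ p.2 ≠ 1 ∧ p.1 * p.2 * p.1⁻¹ = g := by
    rintro ⟨g, x, hx, y, hy, hy1, h⟩
    exact ⟨(x, y), hx, hy, hy1, h⟩
  choose p hp1 hp2 hp3 hp4 using hchoice
  have hY : Nat.card {y : (M ⊓ V : Subgroup (Cfsg.Sz F m)) // y ≠ 1} =
      Nat.card (M ⊓ V : Subgroup (Cfsg.Sz F m)) - 1 := by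
    have : Fintype (M ⊓ V : Subgroup (Cfsg.Sz F m)) := Fintype.ofFinite _
    rw [Nat.card_eq_fintype_card, Nat.card_eq_fintype_card, Fintype.card_subtype_compl,
      Fintype.card_subtype_eq]
  rw [← hY, ← Nat.card_prod, ← Nat.card_prod]
  have hmem : ∀ (g : classSet m M V) (h : H),
      (h : Cfsg.Sz F m)⁻¹ * (p g).2 * h ∈ M ⊓ V ∧ (h : Cfsg.Sz F m)⁻¹ * (p g).2 * h ≠ 1 := by
    intro g h
    refine ⟨⟨M.mul_mem (M.mul_mem (M.inv_mem h.2.1) (hp2 g).1) h.2.1, ?_⟩, fun e => hp3 g ?_⟩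
    · exact (Subgroup.mem_normalizer_iff''.mp h.2.2 _).mp (hp2 g).2
    · calc (p g).2 = (h : Cfsg.Sz F m) * ((h : Cfsg.Sz F m)⁻¹ * (p g).2 * h) * (h : Cfsg.Sz F m)⁻¹ := by
            group
        _ = 1 := by rw [e]; group
  refine Nat.card_congr (Equiv.ofBijective (fun gh : classSet m M V × H =>
    ((⟨(p gh.1).1 * gh.2, mul_mem (hp1 gh.1) gh.2.2.1⟩ : M),
      (⟨⟨_, (hmem gh.1 gh.2).1⟩, fun e => (hmem gh.1 gh.2).2 (congrArg Subtype.val e)⟩ :
        {y : (M ⊓ V : Subgroup (Cfsg.Sz F m)) // y ≠ 1}))) ⟨?_, ?_⟩)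
  · rintro ⟨g, h⟩ ⟨g', h'⟩ e
    simp only [Prod.mk.injEq, Subtype.mk.injEq] at e
    obtain ⟨e1, e2⟩ := e
    have hg : g = g' := by
      apply Subtype.ext
      rw [← hp4 g, ← hp4 g']
      calc (p g).1 * (p g).2 * (p g).1⁻¹
          = ((p g).1 * h) * ((h : Cfsg.Sz F m)⁻¹ * (p g).2 * h) * ((p g).1 * h)⁻¹ := by group
        _ = ((p g').1 * h') * ((h' : Cfsg.Sz F m)⁻¹ * (p g').2 * h') * ((p g').1 * h')⁻¹ := by
            rw [e1, e2]
        _ = _ := by group
    subst hg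
    exact Prod.ext rfl (Subtype.ext (mul_left_cancel e1))
  · rintro ⟨⟨x, hx⟩, ⟨⟨y, hy⟩, hy1⟩⟩
    have hy1' : y ≠ 1 := fun e => hy1 (Subtype.ext e)
    let g : classSet m M V := ⟨x * y * x⁻¹, x, hx, y, hy, hy1', rfl⟩
    have e4 : (p g).1 * (p g).2 * (p g).1⁻¹ = x * y * x⁻¹ := hp4 g
    have hconj : (p g).1⁻¹ * x * y * ((p g).1⁻¹ * x)⁻¹ = (p g).2 := by
      rw [show (p g).1⁻¹ * x * y * ((p g).1⁻¹ * x)⁻¹ = (p g).1⁻¹ * (x * y * x⁻¹) * (p g).1 by group,
        ← e4]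
      group
    have hh : (p g).1⁻¹ * x ∈ H := ⟨M.mul_mem (M.inv_mem (hp1 g)) hx,
      normalizer_of_conj_mem m hV hy.2 hy1' (hconj ▸ (hp2 g).2)⟩
    refine ⟨(g, ⟨_, hh⟩), ?_⟩
    simp only [Prod.mk.injEq, Subtype.mk.injEq]
    refine ⟨mul_inv_cancel_left _ _, ?_⟩
    rw [← hconj]
    group

/-- The index of a cyclic part in its normaliser divides four. -/
theorem card_normalizer_dvd {V : Subgroup (Cfsg.Sz F m)} (hV : IsCyclic V)
    (hn : Nat.card V = 2 ^ (2 * m + 1) - 1 ∨ Nat.card V = aPlus m ∨ Nat.card V = aMinus m) :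
    Nat.card (Subgroup.normalizer (V : Set (Cfsg.Sz F m))) ∣ 4 * Nat.card V := by
  rcases hn with hn | hn
  · obtain ⟨x, hx⟩ := IsCyclic.exists_ofOrder_eq_natCard (α := V)
    have h8 := eight_le_card (F := F) m
    rw [SzField.card_eq (F := F) (m := m)] at h8
    have hx1 : (x : Cfsg.Sz F m) ≠ 1 := by
      intro h
      rw [← Subgroup.orderOf_coe, h, orderOf_one, hn] at hx
      omega
    set N := Subgroup.normalizer (V : Set (Cfsg.Sz F m))
    have hle : V ≤ N := Subgroup.le_normalizer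
    have hidx : (V.subgroupOf N).index ∣ 2 := by
      have hVc := cyclic_part_eq_centralizer m hV (Or.inl hn) x.2 hx1
      obtain ⟨c1, c2, c3⟩ := coprime_parts (F := F) m
      have hnf : ¬ FixFree m (x : Cfsg.Sz F m) := by
        intro hf
        refine hx1 (orderOf_eq_one_iff.mp ?_)
        have hxo : orderOf (x : Cfsg.Sz F m) = Nat.card F - 1 := by
          rw [Subgroup.orderOf_coe, hx, hn, card_nat (F := F) m]
        exact Nat.eq_one_of_dvd_coprimes c3 hxo.dvd (orderOf_dvd_of_fixFree m hf)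
      obtain ⟨k, hk⟩ : ∃ k : Cfsg.Sz F m, k * (x : Cfsg.Sz F m) * k⁻¹ ∈ T m := by
        rcases exists_conj_U_or_T m hnf with ⟨k, hk⟩ | h
        · exfalso
          refine hx1 (orderOf_eq_one_iff.mp ?_)
          have h1 : orderOf (k * x * k⁻¹) ∣ Nat.card F ^ 2 :=
            card_U (F := F) m ▸ Subgroup.orderOf_dvd_natCard _ hk
          rw [← MulAut.conj_apply, MulEquiv.orderOf_eq, Subgroup.orderOf_coe, hx, hn,
            ← card_nat (F := F) m] at h1
          rw [Subgroup.orderOf_coe, hx, hn, ← card_nat (F := F) m]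
          exact Nat.eq_one_of_dvd_coprimes (c1.pow_left 2) h1 dvd_rfl
        · exact h
      have hk1 : k * (x : Cfsg.Sz F m) * k⁻¹ ≠ 1 := by rwa [ne_eq, conj_eq_one_iff]
      have hmap : V.map (MulAut.conj k).toMonoidHom = T m := by
        rw [hVc, map_conj_centralizer, centralizer_T_eq m hk hk1]
      have hiff : ∀ g, g ∈ V ↔ k * g * k⁻¹ ∈ T m := by
        intro g
        rw [← hmap, mem_map_conj_iff]
        simp [mul_assoc]
      have hN : ∀ g : N, (g : Cfsg.Sz F m) ∈ V ∨ (g : Cfsg.Sz F m) * (k⁻¹ * w m * k) ∈ V := by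
        intro g
        have h1 : k * g * k⁻¹ * (k * x * k⁻¹) * (k * g * k⁻¹)⁻¹ ∈ T m := by
          rw [show k * (g : Cfsg.Sz F m) * k⁻¹ * (k * x * k⁻¹) * (k * g * k⁻¹)⁻¹ =
            k * (g * x * (g : Cfsg.Sz F m)⁻¹) * k⁻¹ by group, ← hiff]
          exact (Subgroup.mem_normalizer_iff.mp g.2 _).mp x.2
        rcases T_TI m hk hk1 h1 with h | h
        · exact Or.inl ((hiff _).mpr h)
        · refine Or.inr ((hiff _).mpr ?_)
          rwa [show k * ((g : Cfsg.Sz F m) * (k⁻¹ * w m * k)) * k⁻¹ = k * (g : Cfsg.Sz F m) * k⁻¹ * w m by group]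
      by_cases hall : ∀ g : N, (g : Cfsg.Sz F m) ∈ V
      · rw [Subgroup.index_eq_one.mpr (eq_top_iff.mpr fun g _ => hall g)]
        exact one_dvd _
      · push Not at hall
        obtain ⟨g0, hg0⟩ := hall
        refine dvd_of_eq (Subgroup.index_eq_two_iff.mpr ⟨g0⁻¹, fun b => ?_⟩)
        have hg0' : (g0 : Cfsg.Sz F m) * (k⁻¹ * w m * k) ∈ V := (hN g0).resolve_left hg0
        simp only [Subgroup.mem_subgroupOf, Subgroup.coe_mul, Subgroup.coe_inv]
        rcases hN b with hb | hb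
        · refine Or.inr ⟨hb, fun h => hg0 ?_⟩
          simpa using (Subgroup.mul_mem_cancel_left V hb).mp h
        · refine Or.inl ⟨?_, fun h => hg0 ?_⟩
          · have := mul_mem hb (inv_mem hg0')
            simpa [mul_assoc] using this
          · have h2 := (Subgroup.mul_mem_cancel_left V h).mp hb
            have h3 := mul_mem hg0' (inv_mem h2)
            simpa [mul_assoc] using h3
    have := (V.subgroupOf N).card_mul_index
    rw [Nat.card_congr (Subgroup.subgroupOfEquivOfLe hle).toEquiv] at this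
    rw [← this, mul_comm 4]
    exact mul_dvd_mul_left _ (hidx.trans (by norm_num))
  · obtain ⟨g, hg, rfl⟩ := isCyclic_card_eq m hV hn
    rw [card_normalizer_fixFree m hg]

theorem card_inf_normalizer_dvd {M V : Subgroup (Cfsg.Sz F m)} (hV : IsCyclic V)
    (hn : Nat.card V = 2 ^ (2 * m + 1) - 1 ∨ Nat.card V = aPlus m ∨ Nat.card V = aMinus m) :
    ∃ n, n ∣ 4 ∧ Nat.card (M ⊓ Subgroup.normalizer (V : Set (Cfsg.Sz F m)) : Subgroup (Cfsg.Sz F m)) =
      n * Nat.card (M ⊓ V : Subgroup (Cfsg.Sz F m)) := by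
  set N := Subgroup.normalizer (V : Set (Cfsg.Sz F m))
  have hle : V ≤ N := Subgroup.le_normalizer
  refine ⟨(M ⊓ V).relIndex (M ⊓ N), ?_, ?_⟩
  · have h1 : (V.subgroupOf N).index ∣ 4 := by
      have h := (V.subgroupOf N).card_mul_index
      rw [Nat.card_congr (Subgroup.subgroupOfEquivOfLe hle).toEquiv] at h
      have h2 := card_normalizer_dvd m hV hn
      rw [← h, mul_comm 4] at h2
      exact Nat.dvd_of_mul_dvd_mul_left Nat.card_pos h2
    have h3 : (M ⊓ V).relIndex (M ⊓ N) = (V.subgroupOf N).relIndex ((M ⊓ N).subgroupOf N) := by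
      rw [Subgroup.relIndex_subgroupOf inf_le_right, ← Subgroup.inf_relIndex_right V (M ⊓ N)]
      congr 1
      rw [inf_comm V, inf_assoc, inf_eq_right.mpr hle]
    rw [h3]
    exact (Subgroup.relIndex_dvd_index_of_normal _ _).trans h1
  · have h := ((M ⊓ V).subgroupOf (M ⊓ N)).card_mul_index
    rw [Nat.card_congr (Subgroup.subgroupOfEquivOfLe (inf_le_inf_left M hle)).toEquiv] at h
    rw [← h, mul_comm]
    rfl

end Cfsg.Agent.Suzuki
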