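import Cfsg.Agent.Suzuki.Subfield
import Cfsg.Agent.Suzuki.SubgroupsBasic

/-!
A subgroup moving infinity and containing `u 0 1` and a nontrivial torus element is a subfield subgroup.
-/

set_option autoImplicit false

open Cfsg MulAction
open scoped Pointwise

namespace Cfsg.Agent.Suzuki

variable {F : Type*} [Field F] [Fintype F] (m : ℕ) [SzField F m]

/-- Second coordinates of central elements of a subgroup. -/
def zPart (M : Subgroup (Cfsg.Sz F m)) : AddSubgroup F where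
  carrier := {b | u m 0 b ∈ M}
  add_mem' := fun {x y} hx hy => by
    have := mul_mem (show u m 0 x ∈ M from hx) (show u m 0 y ∈ M from hy)
    simpa [u_mul] using this
  zero_mem' := by simp
  neg_mem' := fun {x} hx => by simpa [neg_eq (F := F) m] using hx

/-- First coordinates of unipotent elements of a subgroup. -/
def aPart (M : Subgroup (Cfsg.Sz F m)) : AddSubgroup F where
  carrier := {a | ∃ b, u m a b ∈ M}
  add_mem' := fun {x y} ⟨b, hb⟩ ⟨c, hc⟩ => by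
    have := mul_mem hb hc
    rw [u_mul] at this
    exact ⟨_, this⟩
  zero_mem' := ⟨0, by simp⟩
  neg_mem' := fun {x} h => by rwa [neg_eq (F := F) m]

variable {m}

theorem mem_zPart {M : Subgroup (Cfsg.Sz F m)} {b : F} : b ∈ zPart m M ↔ u m 0 b ∈ M := Iff.rfl

theorem mem_aPart {M : Subgroup (Cfsg.Sz F m)} {a : F} : a ∈ aPart m M ↔ ∃ b, u m a b ∈ M := Iff.rfl

variable (m)

include m in
theorem mem_of_one_add_mul {S : AddSubgroup F} {c x : F} (hc : c ≠ 1) (hS : ∀ y ∈ S, c * y ∈ S)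
    (hx : (1 + c) * x ∈ S) : x ∈ S := by
  have hne : 1 + c ≠ 0 := fun h => hc (eq_of_add_eq_zero m h).symm
  let f : S → S := fun y => ⟨(1 + c) * y, by rw [one_add_mul]; exact S.add_mem y.2 (hS y y.2)⟩
  have hinj : Function.Injective f := fun y z h =>
    Subtype.ext (mul_left_cancel₀ hne (congrArg Subtype.val h))
  obtain ⟨y, hy⟩ := Finite.surjective_of_injective hinj ⟨_, hx⟩
  exact mul_left_cancel₀ hne (congrArg Subtype.val hy) ▸ y.2

variable {M : Subgroup (Cfsg.Sz F m)}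

theorem zPart_smul {s : Fˣ} (hs : t m s ∈ M) {b : F} (hb : b ∈ zPart m M) :
    (s : F) ^ 2 * th m (s : F) * b ∈ zPart m M := by
  have := mul_mem (mul_mem hs (mem_zPart.mp hb)) (inv_mem hs)
  rw [t_u] at this
  exact mem_zPart.mpr (by simpa using this)

theorem aPart_smul {s : Fˣ} (hs : t m s ∈ M) {a : F} (ha : a ∈ aPart m M) :
    th m (s : F) * a ∈ aPart m M := by
  obtain ⟨b, hb⟩ := mem_aPart.mp ha
  have := mul_mem (mul_mem hs hb) (inv_mem hs)
  rw [t_u] at this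
  exact mem_aPart.mpr ⟨_, this⟩

/-- With one torus element, the part of a subgroup fixing infinity splits. -/
theorem split_of_torus {s₀ : Fˣ} (hs₀ : s₀ ≠ 1) (ht₀ : t m s₀ ∈ M) {g : Cfsg.Sz F m} (hg : g ∈ M)
    (hgB : g ∈ B m) : ∃ a b : F, ∃ s : Fˣ, g = u m a b * t m s ∧ u m a b ∈ M ∧ t m s ∈ M := by
  obtain ⟨a, b, s, rfl⟩ := exists_u_t_of_fix_oInf m hgB
  refine ⟨a, b, s, rfl, ?_⟩
  suffices hu : u m a b ∈ M from ⟨hu, (Subgroup.mul_mem_cancel_left M hu).mp hg⟩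
  have key : ∀ a b : F, u m a b * t m s ∈ M →
      u m (th m (s₀ : F) * a + a) ((s₀ : F) ^ 2 * th m (s₀ : F) * b + (b + th m a * a) +
        th m (th m (s₀ : F) * a) * a) ∈ M := by
    intro a b h
    have h1 := mul_mem (mul_mem (mul_mem ht₀ h) (inv_mem ht₀)) (inv_mem h)
    have e : t m s * (t m s₀)⁻¹ * (t m s)⁻¹ = (t m s₀)⁻¹ := by
      rw [← map_inv, ← map_mul, mul_comm, map_mul, map_inv, mul_inv_cancel_right]
    rw [show t m s₀ * (u m a b * t m s) * (t m s₀)⁻¹ * (u m a b * t m s)⁻¹ =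
      t m s₀ * u m a b * (t m s * (t m s₀)⁻¹ * (t m s)⁻¹) * (u m a b)⁻¹ by group, e, t_u, u_inv,
      u_mul] at h1
    exact h1
  have ha : a ∈ aPart m M := by
    refine mem_of_one_add_mul m (c := th m (s₀ : F)) (fun h => hs₀ (Units.ext ((th_eq_one m).mp h)))
      (fun y hy => aPart_smul m ht₀ hy) ?_
    rw [one_add_mul, add_comm]
    exact mem_aPart.mpr ⟨_, key a b hg⟩
  obtain ⟨b', hb'⟩ := mem_aPart.mp ha
  have h2 := mul_mem (inv_mem hb') hg
  rw [← mul_assoc, u_inv, u_mul, add_self m a] at h2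
  set c := b' + th m a * a + b + th m a * a with hc
  have hcz : c ∈ zPart m M := by
    refine mem_of_one_add_mul m (c := (s₀ : F) ^ 2 * th m (s₀ : F))
      (fun h => hs₀ (Units.ext (eq_one_of_sq_mul_th m h))) (fun y hy => zPart_smul m ht₀ hy) ?_
    have h3 := key 0 c h2
    simp only [mul_zero, th_zero, zero_mul, add_zero] at h3
    rw [one_add_mul, add_comm]
    exact mem_zPart.mpr h3
  have hbc : u m a b = u m a b' * u m 0 c := by
    rw [u_mul, u_inj]
    refine ⟨(add_zero a).symm, ?_⟩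
    rw [mul_zero, add_zero, hc]
    linear_combination (norm := char_two_ring (m)) 0
  rw [hbc]
  exact mul_mem hb' (mem_zPart.mp hcz)

/-- A fixed-point pair of `M ∩ B` is conjugate to the base pair. -/
theorem fixed_mem_orbit {s₀ : Fˣ} (hs₀ : s₀ ≠ 1) (ht₀ : t m s₀ ∈ M) {g : Cfsg.Sz F m} (hg : g ∈ M)
    (hgB : g ∈ B m) (hg1 : g ≠ 1) {x : suzukiOvoid F m} (hx : x ≠ oInf m) (hgx : g • x = x) :
    ∃ v ∈ M ⊓ U m, v • oPt m (0 : F) 0 = x := by
  obtain ⟨a, b, s, rfl, hu, hts⟩ := split_of_torus m hs₀ ht₀ hg hgB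
  have hs : s ≠ 1 := by
    rintro rfl
    rw [map_one, mul_one] at hgx hg1
    exact hx (U_fixed m (u_mem_U m a b) hg1 hgx)
  have hmem : ∀ v ∈ M ⊓ U m, v * t m s * v⁻¹ * (t m s)⁻¹ ∈ M ⊓ U m := by
    rintro v ⟨hvM, hvU⟩
    refine ⟨M.mul_mem (M.mul_mem (M.mul_mem hvM hts) (M.inv_mem hvM)) (M.inv_mem hts), ?_⟩
    rw [mul_assoc v, mul_assoc v]
    exact (U m).mul_mem hvU ((Subgroup.mem_normalizer_iff.mp
      (B_le_normalizer_U m (T_le_B m (t_mem_T m s))) _).mp ((U m).inv_mem hvU))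
  let f : (M ⊓ U m : Subgroup (Cfsg.Sz F m)) → (M ⊓ U m : Subgroup (Cfsg.Sz F m)) :=
    fun v => ⟨_, hmem v v.2⟩
  have hf : Function.Injective f := by
    rintro ⟨v, hv⟩ ⟨v', hv'⟩ h
    have h' : v * t m s * v⁻¹ = v' * t m s * v'⁻¹ := mul_right_cancel (congrArg Subtype.val h)
    have hc : v'⁻¹ * v ∈ Subgroup.centralizer {t m s} := by
      rw [Subgroup.mem_centralizer_singleton_iff]
      calc v'⁻¹ * v * t m s = v'⁻¹ * (v * t m s * v⁻¹) * v := by group
        _ = _ := by rw [h']; group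
    rw [centralizer_T_eq m (t_mem_T m s) ((t_ne_one m).mpr hs)] at hc
    obtain ⟨r, hr⟩ := (mem_T m).mp hc
    have h1 : v'⁻¹ * v = 1 := by
      by_contra hne
      refine oPt_ne_oInf m (0 : F) 0 (U_fixed m ((U m).mul_mem ((U m).inv_mem hv'.2) hv.2) hne ?_)
      rw [hr, t_smul_oPt]
      simp
    exact Subtype.ext (inv_mul_eq_one.mp h1).symm
  obtain ⟨⟨v, hv⟩, hfv⟩ := Finite.surjective_of_injective hf ⟨u m a b, hu, u_mem_U m a b⟩
  have hv' : v * t m s * v⁻¹ * (t m s)⁻¹ = u m a b := congrArg Subtype.val hfv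
  refine ⟨v, hv, ?_⟩
  rw [← hv', inv_mul_cancel_right, mul_smul, mul_smul] at hgx
  rcases T_fixed m (t_mem_T m s) ((t_ne_one m).mpr hs) (eq_inv_smul_iff.mpr hgx) with h | h
  · exfalso
    rw [inv_smul_eq_iff] at h
    exact hx (h.trans (U_le_B m hv.2))
  · rw [inv_smul_eq_iff] at h
    exact h.symm

theorem exists_eq_sub {g₀ : Cfsg.Sz F m} (hg₀ : g₀ ∈ M) (hg₀B : g₀ ∉ B m) (hu1 : u m 0 1 ∈ M)
    {s₀ : Fˣ} (hs₀ : s₀ ≠ 1) (ht₀ : t m s₀ ∈ M) :
    ∃ k, 1 ≤ k ∧ 2 * k + 1 ∣ 2 * m + 1 ∧ M = sub m k := by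
  classical
  set Z := zPart m M with hZ
  have hZ1 : (1 : F) ∈ Z := hu1
  have hinv : ∀ b ∈ Z, b ≠ 0 → u m 0 b * u m 0 b = 1 ∧ u m 0 b ≠ 1 := fun b _ hb0 =>
    ⟨by rw [u_sq]; simp, fun h => hb0 ((u_eq_one m).mp h).2⟩
  -- transitivity on the central involutions
  have htrans : ∀ b ∈ Z, b ≠ 0 → ∃ s : Fˣ, t m s ∈ M ∧ (s : F) ^ 2 * th m (s : F) = b := by
    intro b hb hb0
    obtain ⟨h11, h12⟩ := hinv 1 hZ1 one_ne_zero
    obtain ⟨h21, h22⟩ := hinv b hb hb0
    set k := g₀ * u m 0 1 * g₀⁻¹ with hk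
    have hkM : k ∈ M := mul_mem (mul_mem hg₀ hu1) (inv_mem hg₀)
    have hk2 : k * k = 1 := by
      rw [hk, show g₀ * u m 0 1 * g₀⁻¹ * (g₀ * u m 0 1 * g₀⁻¹) = g₀ * (u m 0 1 * u m 0 1) * g₀⁻¹ by group,
        h11, mul_one, mul_inv_cancel]
    have hk1 : k ≠ 1 := by rwa [hk, ne_eq, conj_eq_one_iff]
    have hkfix : k • (g₀ • oInf m) = g₀ • (oInf m : suzukiOvoid F m) := by
      rw [hk, mul_smul, mul_smul, inv_smul_smul, u_smul_oInf]
    have hno : ∀ c : F, u m 0 c ≠ 1 → ∀ p : suzukiOvoid F m, u m 0 c • p = p → k • p ≠ p := by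
      intro c hc p hp hkp
      rw [U_fixed m (u_mem_U m 0 c) hc hp] at hkp
      exact hg₀B (fixed_unique m hk2 hk1 hkp hkfix).symm
    obtain ⟨g1, hg1, e1⟩ := involutions_conj m hu1 hkM h11 hk2 h12 hk1 (hno 1 h12)
    obtain ⟨g2, hg2, e2⟩ := involutions_conj m (mem_zPart.mp hb) hkM h21 hk2 h22 hk1 (hno b h22)
    have e : (g2⁻¹ * g1) * u m 0 1 * (g2⁻¹ * g1)⁻¹ = u m 0 b := by
      rw [show (g2⁻¹ * g1) * u m 0 1 * (g2⁻¹ * g1)⁻¹ = g2⁻¹ * (g1 * u m 0 1 * g1⁻¹) * g2 by group, e1, ← e2]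
      group
    have hB := U_TI m (u_mem_U m 0 1) h12 (e ▸ u_mem_U m 0 b)
    obtain ⟨c, d, s, hgs, -, hts⟩ := split_of_torus m hs₀ ht₀ (mul_mem (inv_mem hg2) hg1) hB
    refine ⟨s, hts, ?_⟩
    rw [hgs, show u m c d * t m s * u m 0 1 * (u m c d * t m s)⁻¹ =
      u m c d * (t m s * u m 0 1 * (t m s)⁻¹) * (u m c d)⁻¹ by group, t_u, u_conj, u_inj] at e
    simpa using e.2
  have hCZ : ∀ s : Fˣ, t m s ∈ M → ∀ b ∈ Z, (s : F) ^ 2 * th m (s : F) * b ∈ Z :=
    fun s hs b hb => zPart_smul m hs hb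
  let K : Subfield F :=
    { carrier := Z
      mul_mem' := fun {x y} hx hy => by
        by_cases hx0 : x = 0
        · rw [hx0, zero_mul]; exact Z.zero_mem
        obtain ⟨s, hs, rfl⟩ := htrans x hx hx0
        exact hCZ s hs y hy
      one_mem' := hZ1
      add_mem' := fun hx hy => Z.add_mem hx hy
      zero_mem' := Z.zero_mem
      neg_mem' := fun hx => Z.neg_mem hx
      inv_mem' := fun x hx => by
        by_cases hx0 : x = 0
        · rw [hx0, inv_zero]; exact Z.zero_mem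
        obtain ⟨s, hs, rfl⟩ := htrans x hx hx0
        have := hCZ s⁻¹ (by rw [map_inv]; exact inv_mem hs) 1 hZ1
        simpa [th_inv, mul_comm] using this }
  have hKZ : ∀ x, x ∈ K ↔ u m 0 x ∈ M := fun x => Iff.rfl
  have hKth : ∀ x ∈ K, th m x ∈ K := fun x hx => pow_mem hx _
  have hCK : ∀ s : Fˣ, t m s ∈ M ↔ (s : F) ∈ K := by
    have hfwd : ∀ s : Fˣ, t m s ∈ M → (s : F) ^ 2 * th m (s : F) ∈ K := fun s hs => by
      simpa [hKZ] using mem_zPart.mp (hCZ s hs 1 hZ1)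
    have hback : ∀ s : Fˣ, (s : F) ∈ K → t m s ∈ M := by
      intro s hs
      obtain ⟨s', hs', e⟩ := htrans _ (K.mul_mem (pow_mem hs 2) (hKth _ hs))
        (mul_ne_zero (pow_ne_zero 2 s.ne_zero) (by simp))
      rwa [Units.ext (sq_mul_th_injective m e)] at hs'
    intro s
    refine ⟨fun hs => ?_, hback s⟩
    let f : K → K := fun x => ⟨(x : F) ^ 2 * th m (x : F), K.mul_mem (pow_mem x.2 2) (hKth _ x.2)⟩
    have hf : Function.Injective f := fun x y h =>
      Subtype.ext (sq_mul_th_injective m (congrArg Subtype.val h))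
    obtain ⟨y, hy⟩ := Finite.surjective_of_injective hf ⟨_, hfwd s hs⟩
    rw [← sq_mul_th_injective m (congrArg Subtype.val hy)]
    exact y.2
  have ha : ∀ a b : F, u m a b ∈ M → a ∈ K := by
    intro a b h
    have h2 := mul_mem h h
    rw [u_sq] at h2
    let f : K → K := fun x => ⟨(x : F) * th m (x : F), K.mul_mem x.2 (hKth _ x.2)⟩
    have hf : Function.Injective f := fun x y h =>
      Subtype.ext (mul_th_injective m (congrArg Subtype.val h))
    obtain ⟨y, hy⟩ := Finite.surjective_of_injective hf ⟨a * th m a, (hKZ _).mpr (by rwa [mul_comm])⟩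
    rw [← mul_th_injective m (congrArg Subtype.val hy)]
    exact y.2
  -- the orbit of infinity
  set Δ : Set (suzukiOvoid F m) := {x | x ≠ oInf m ∧ ∃ g ∈ M, g • oInf m = x} with hΔ
  set Kn := {b : F // b ∈ K ∧ b ≠ 0}
  set I : Set (Cfsg.Sz F m) := {j | j ∈ M ∧ j * j = 1 ∧ j ∉ B m} with hI
  set S₀ : Set (suzukiOvoid F m) := {x | ∃ v ∈ M ⊓ U m, v • oPt m (0 : F) 0 = x} with hS₀
  have hKn : Nat.card Kn + 1 = Nat.card K := by
    have : Fintype K := Fintype.ofFinite _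
    have e : Kn ≃ {b : K // b ≠ 0} :=
      { toFun := fun b => ⟨⟨b.1, b.2.1⟩, fun h => b.2.2 (congrArg Subtype.val h)⟩
        invFun := fun b => ⟨b.1.1, b.1.2, fun h => b.2 (Subtype.ext h)⟩
        left_inv := fun b => rfl
        right_inv := fun b => rfl }
    rw [Nat.card_congr e, Nat.card_eq_fintype_card, Nat.card_eq_fintype_card, Fintype.card_subtype_compl,
      Fintype.card_subtype_eq]
    have : 0 < Fintype.card K := Fintype.card_pos
    omega
  have hIinj : Nat.card Δ * Nat.card Kn ≤ Nat.card I := by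
    rw [← Nat.card_prod]
    have hc : ∀ x : Δ, ∃ g ∈ M, g • oInf m = (x : suzukiOvoid F m) := fun x => x.2.2
    choose g hgM hgx using hc
    have hu : ∀ b : Kn, u m 0 (b : F) * u m 0 (b : F) = 1 ∧ u m 0 (b : F) ≠ 1 :=
      fun b => hinv b.1 b.2.1 b.2.2
    refine Nat.card_le_card_of_injective (fun p => (⟨g p.1 * u m 0 p.2.1 * (g p.1)⁻¹, ?_, ?_, ?_⟩ : I)) ?_
    · exact mul_mem (mul_mem (hgM p.1) ((hKZ _).mp p.2.2.1)) (inv_mem (hgM p.1))
    · rw [show g p.1 * u m 0 p.2.1 * (g p.1)⁻¹ * (g p.1 * u m 0 p.2.1 * (g p.1)⁻¹) =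
        g p.1 * (u m 0 p.2.1 * u m 0 p.2.1) * (g p.1)⁻¹ by group, (hu p.2).1, mul_one, mul_inv_cancel]
    · intro hB
      rw [mem_B, mul_smul, mul_smul, ← eq_inv_smul_iff] at hB
      have h2 := U_fixed m (u_mem_U m 0 p.2.1) (hu p.2).2 hB
      rw [inv_smul_eq_iff, hgx] at h2
      exact p.1.2.1 h2.symm
    · rintro ⟨x, b⟩ ⟨y, c⟩ h
      have h' : g x * u m 0 b.1 * (g x)⁻¹ = g y * u m 0 c.1 * (g y)⁻¹ := congrArg Subtype.val h
      have hxy : x = y := by
        apply Subtype.ext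
        refine fixed_unique m (j := g x * u m 0 b.1 * (g x)⁻¹) ?_ (by rw [ne_eq, conj_eq_one_iff]; exact (hu b).2) ?_ ?_
        · rw [show g x * u m 0 b.1 * (g x)⁻¹ * (g x * u m 0 b.1 * (g x)⁻¹) =
            g x * (u m 0 b.1 * u m 0 b.1) * (g x)⁻¹ by group, (hu b).1, mul_one, mul_inv_cancel]
        · rw [← hgx, mul_smul, mul_smul, inv_smul_smul, u_smul_oInf]
        · rw [h', ← hgx, mul_smul, mul_smul, inv_smul_smul, u_smul_oInf]
      subst hxy
      exact Prod.ext rfl (Subtype.ext ((u_inj m).mp (mul_left_cancel (mul_right_cancel h'))).2)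
  have hIx : ∀ j : I, (j : Cfsg.Sz F m) • oInf m ∈ Δ := fun j => ⟨j.2.2.2, j, j.2.1, rfl⟩
  -- fibres
  have hswap : ∀ (x : suzukiOvoid F m) (j j' : Cfsg.Sz F m), j * j = 1 → j' * j' = 1 →
      j • oInf m = x → j' • oInf m = x → (j' * j) • oInf m = (oInf m : suzukiOvoid F m) ∧ (j' * j) • x = x := by
    intro x j j' hj hj' e e'
    have e2 : j • x = oInf m := by rw [← e, ← mul_smul, hj, one_smul]
    have e3 : j' • x = oInf m := by rw [← e', ← mul_smul, hj', one_smul]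
    exact ⟨by rw [mul_smul, e, e3], by rw [mul_smul, e2, e']⟩
  let F₁ : suzukiOvoid F m → Finset (Cfsg.Sz F m) := fun x =>
    (Set.toFinite {j | j ∈ I ∧ j • oInf m = x}).toFinset
  have hfib1 : ∀ x ∈ Δ, x ∉ S₀ → (F₁ x).card ≤ 1 := by
    intro x hx hxS
    rw [Finset.card_le_one]
    intro j hj j' hj'
    simp only [F₁, Set.Finite.mem_toFinset, Set.mem_ofPred_eq] at hj hj'
    by_contra hne
    obtain ⟨h1, h2⟩ := hswap x j j' hj.1.2.1 hj'.1.2.1 hj.2 hj'.2
    have hne1 : j' * j ≠ 1 := fun h => hne (by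
      have := congrArg (fun z => j' * z) h
      simpa [← mul_assoc, hj'.1.2.1] using this)
    exact hxS (fixed_mem_orbit m hs₀ ht₀ (mul_mem hj'.1.1 hj.1.1) h1 hne1 hx.1 h2)
  have hfib2 : ∀ x ∈ S₀, (F₁ x).card ≤ Nat.card Kn := by
    intro x hxS
    rcases (F₁ x).eq_empty_or_nonempty with h | ⟨j', hj'⟩
    · simp [h]
    obtain ⟨v, hv, hvx⟩ := hxS
    rw [← Nat.card_eq_finsetCard]
    simp only [F₁, Set.Finite.mem_toFinset, Set.mem_ofPred_eq] at hj'
    have key : ∀ j : F₁ x, ∃ b : Kn, v⁻¹ * (j' * (j : Cfsg.Sz F m)) * v = t m (Units.mk0 b.1 b.2.2) := by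
      rintro ⟨j, hj⟩
      simp only [F₁, Set.Finite.mem_toFinset, Set.mem_ofPred_eq] at hj
      obtain ⟨h1, h2⟩ := hswap x j j' hj.1.2.1 hj'.1.2.1 hj.2 hj'.2
      obtain ⟨s, hs⟩ := exists_t_of_fixed m (g := v⁻¹ * (j' * j) * v)
        (by rw [mul_smul, mul_smul, U_le_B m hv.2, h1, inv_smul_eq_iff, U_le_B m hv.2])
        (by rw [mul_smul, mul_smul, hvx, h2, inv_smul_eq_iff, hvx])
      refine ⟨⟨(s : F), (hCK s).mp ?_, s.ne_zero⟩, hs.trans (by simp)⟩
      rw [← hs]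
      exact M.mul_mem (M.mul_mem (M.inv_mem hv.1) (M.mul_mem hj'.1.1 hj.1.1)) hv.1
    choose f hf using key
    refine Nat.card_le_card_of_injective f (fun j k h => Subtype.ext ?_)
    have := (hf j).trans (h ▸ (hf k).symm)
    exact mul_left_cancel (mul_left_cancel (mul_right_cancel this))
  have hsum : Nat.card I ≤ ∑ x ∈ Δ.toFinite.toFinset, (F₁ x).card := by
    rw [Nat.card_coe_set_eq, Set.ncard_eq_toFinset_card I, Finset.card_eq_sum_card_fiberwise
      (f := fun j : Cfsg.Sz F m => j • oInf m) (t := Δ.toFinite.toFinset)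
      (fun j hj => (Δ.toFinite.mem_toFinset).mpr (hIx ⟨j, (I.toFinite.mem_toFinset).mp hj⟩))]
    refine Finset.sum_le_sum (fun x _ => Finset.card_le_card (fun j hj => ?_))
    rw [Finset.mem_filter, I.toFinite.mem_toFinset] at hj; exact (Set.Finite.mem_toFinset _).mpr hj
  have hKn2 : 2 ≤ Nat.card Kn := by
    refine Finite.one_lt_card_iff_nontrivial.mpr ⟨⟨(s₀ : F), (hCK s₀).mp ht₀, s₀.ne_zero⟩,
      ⟨1, K.one_mem, one_ne_zero⟩, fun h => hs₀ (Units.ext (congrArg Subtype.val h))⟩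
  have hΔS : Δ ⊆ S₀ := by
    intro x hx
    by_contra hxS
    have h2 : ∑ x ∈ Δ.toFinite.toFinset, (F₁ x).card < ∑ _x ∈ Δ.toFinite.toFinset, Nat.card Kn := by
      refine Finset.sum_lt_sum (fun y hy => ?_) ⟨x, by simpa using hx, ?_⟩
      · by_cases hyS : y ∈ S₀
        · exact hfib2 y hyS
        · exact (hfib1 y (by simpa using hy) hyS).trans (by omega)
      · exact (hfib1 x hx hxS).trans_lt (by omega)
    rw [Finset.sum_const, smul_eq_mul, ← Set.ncard_eq_toFinset_card, ← Nat.card_coe_set_eq] at h2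
    omega
  -- the point zero and the involution w
  obtain ⟨j, hjM, hj2, hjB⟩ : Nonempty I := by
    refine ⟨⟨g₀ * u m 0 1 * g₀⁻¹, mul_mem (mul_mem hg₀ hu1) (inv_mem hg₀), ?_, fun hB => ?_⟩⟩
    · rw [show g₀ * u m 0 1 * g₀⁻¹ * (g₀ * u m 0 1 * g₀⁻¹) = g₀ * (u m 0 1 * u m 0 1) * g₀⁻¹ by group,
        (hinv 1 hZ1 one_ne_zero).1, mul_one, mul_inv_cancel]
    · rw [mem_B, mul_smul, mul_smul, ← eq_inv_smul_iff] at hB
      have h2 := U_fixed m (u_mem_U m 0 1) (hinv 1 hZ1 one_ne_zero).2 hB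
      rw [inv_smul_eq_iff] at h2
      exact hg₀B h2.symm
  obtain ⟨v, hv, hvx⟩ := hΔS (hIx ⟨j, hjM, hj2, hjB⟩)
  have hS₀Δ : S₀ ⊆ Δ := by
    rintro x ⟨v', hv', rfl⟩
    refine ⟨fun h => oPt_ne_oInf m (0 : F) 0 (smul_left_cancel v' (h.trans (U_le_B m hv'.2).symm)), ?_⟩
    exact ⟨v' * v⁻¹ * j, M.mul_mem (M.mul_mem hv'.1 (M.inv_mem hv.1)) hjM,
      by rw [mul_smul, mul_smul, ← hvx, inv_smul_smul]⟩
  set j₁ := v⁻¹ * j * v with hj₁
  have hj₁M : j₁ ∈ M := M.mul_mem (M.mul_mem (M.inv_mem hv.1) hjM) hv.1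
  obtain ⟨r, hr⟩ := exists_t_of_fixed m (g := j₁ * w m)
    (by
      have e2 : j • v • oPt m (0 : F) 0 = oInf m := by rw [hvx, ← mul_smul, hj2, one_smul]
      rw [mul_smul, w_smul_oInf, hj₁, mul_smul, mul_smul, e2, inv_smul_eq_iff, U_le_B m hv.2])
    (by
      rw [mul_smul, w_smul_zero, hj₁, mul_smul, mul_smul, U_le_B m hv.2, ← hvx, inv_smul_smul])
  have hj₁e : j₁ = t m r * w m := by rw [← hr, mul_assoc, w_mul_w, mul_one]
  have hw : w m ∈ M := by
    have hx0 : oPt m (0 : F) 1 ∈ Δ := hS₀Δ ⟨u m 0 1, ⟨hu1, u_mem_U m 0 1⟩, by simp [u_smul_oPt]⟩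
    obtain ⟨g, hg, hgx⟩ := hx0.2
    have hx1 : j₁ • oPt m (0 : F) 1 = oPt m (th m (r : F)) 0 := by
      rw [hj₁e, mul_smul, w_smul_oPt m (Or.inr one_ne_zero), t_smul_oPt]
      simp [ovf]
    have hxΔ : oPt m (th m (r : F)) 0 ∈ Δ := ⟨oPt_ne_oInf m _ _, j₁ * g, mul_mem hj₁M hg,
      by rw [mul_smul, hgx, hx1]⟩
    obtain ⟨v', hv', hv'x⟩ := hΔS hxΔ
    obtain ⟨a, b, rfl⟩ := (mem_U m).mp hv'.2
    rw [u_smul_oPt, oPt_inj, zero_add] at hv'x
    have hrK : th m (r : F) ∈ K := ha _ b (hv'x.1 ▸ hv'.1)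
    have hr' : (r : F) ∈ K := by
      let f : K → K := fun x => ⟨th m (x : F), hKth _ x.2⟩
      have hf : Function.Injective f := fun x y h => Subtype.ext (th_injective m (congrArg Subtype.val h))
      obtain ⟨y, hy⟩ := Finite.surjective_of_injective hf ⟨_, hrK⟩
      rw [← th_injective m (congrArg Subtype.val hy)]
      exact y.2
    exact (Subgroup.mul_mem_cancel_left M ((hCK r).mpr hr')).mp (hj₁e ▸ hj₁M)
  have hu0 : ∀ a ∈ K, u m a 0 ∈ M := by
    intro a haK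
    by_cases ha0 : a = 0
    · rw [ha0, u_zero]; exact one_mem _
    let f : Kn → Kn := fun b => ⟨b.1 / th m b.1, K.div_mem b.2.1 (hKth _ b.2.1),
      div_ne_zero b.2.2 (by simpa using b.2.2)⟩
    have hf : Function.Injective f := by
      intro b c h
      have h' : b.1 / th m b.1 = c.1 / th m c.1 := congrArg Subtype.val h
      have hb := b.2.2
      have hc := c.2.2
      have hb' : th m b.1 ≠ 0 := by simpa using hb
      have hc' : th m c.1 ≠ 0 := by simpa using hc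
      have e : th m (b.1 / c.1) = b.1 / c.1 := by
        rw [div_eq_div_iff hb' hc'] at h'
        rw [div_eq_mul_inv, th_mul, th_inv]
        field_simp
        linear_combination -h'
      rcases th_eq_self m e with h0 | h0
      · exact absurd h0 (div_ne_zero hb hc)
      · exact Subtype.ext ((div_eq_one_iff_eq hc).mp h0)
    obtain ⟨b, hb⟩ := Finite.surjective_of_injective hf ⟨a, haK, ha0⟩
    have hb' : b.1 / th m b.1 = a := congrArg Subtype.val hb
    obtain ⟨g, hg, hgx⟩ := (hS₀Δ ⟨u m 0 b.1, ⟨(hKZ _).mp b.2.1, u_mem_U m _ _⟩,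
      by simp [u_smul_oPt]⟩ : oPt m (0 : F) b.1 ∈ Δ).2
    have hxΔ : oPt m a 0 ∈ Δ := ⟨oPt_ne_oInf m _ _, w m * g, mul_mem hw hg, by
      rw [mul_smul, hgx, w_smul_oPt m (Or.inr b.2.2), ← hb']
      simp [ovf]⟩
    obtain ⟨v', hv', hv'x⟩ := hΔS hxΔ
    obtain ⟨c, d, rfl⟩ := (mem_U m).mp hv'.2
    rw [u_smul_oPt, oPt_inj] at hv'x
    simp only [zero_add, mul_zero, add_zero] at hv'x
    rw [hv'x.1, hv'x.2] at hv'
    exact hv'.1
  have huK : ∀ a b : F, a ∈ K → b ∈ K → u m a b ∈ M := by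
    intro a b haK hbK
    have := mul_mem ((hKZ b).mp hbK) (hu0 a haK)
    simpa [u_mul] using this
  -- the field
  have : CharP F 2 := charTwo m
  obtain ⟨d, hd⟩ : ∃ d, Nat.card K = 2 ^ d := by
    have hdvd : Nat.card K ∣ Nat.card F := AddSubgroup.card_addSubgroup_dvd_card K.toAddSubgroup
    rw [card_nat (F := F) m] at hdvd
    obtain ⟨d, -, hd⟩ := (Nat.dvd_prime_pow Nat.prime_two).mp hdvd
    exact ⟨d, hd⟩
  have hdiv : d ∣ 2 * m + 1 := by
    have hdim := Module.natCard_eq_pow_finrank (K := K) (V := F)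
    rw [hd, card_nat m, ← pow_mul] at hdim
    exact ⟨_, Nat.pow_right_injective (le_refl 2) hdim⟩
  obtain ⟨i, hi⟩ : Odd d := by
    rcases Nat.even_or_odd d with ⟨i, hi⟩ | h
    · obtain ⟨e, he⟩ := hdiv
      have : 2 * m + 1 = 2 * (i * e) := by rw [he, hi]; ring
      omega
    · exact h
  subst hi
  refine ⟨i, ?_, hdiv, ?_⟩
  · by_contra hlt
    push Not at hlt
    have : i = 0 := by omega
    subst this
    rw [Nat.mul_zero, Nat.zero_add, pow_one] at hd
    omega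
  have hfix : ∀ x, x ∈ fixField F i ↔ x ∈ K := by
    have hsub : (K : Set F) ⊆ fixField F i := by
      intro x hx
      show x ^ 2 ^ (2 * i + 1) = x
      have : Fintype K := Fintype.ofFinite _
      have h := congrArg Subtype.val (FiniteField.pow_card (⟨x, hx⟩ : K))
      rw [← Nat.card_eq_fintype_card, hd] at h
      simpa using h
    have heq := Set.eq_of_subset_of_ncard_le hsub (by
      rw [← Nat.card_coe_set_eq, ← Nat.card_coe_set_eq]
      exact (card_fixField_le F i).trans hd.ge) (fixField_finite F i)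
    intro x
    rw [← heq]
    rfl
  refine (Subgroup.eq_of_le_of_card_ge ?_ ?_).symm
  · rw [sub, Subgroup.closure_le]
    rintro g (rfl | ⟨a, ha', b, hb', rfl⟩)
    · exact hw
    · exact huK a b ((hfix a).mp ha') ((hfix b).mp hb')
  rw [card_sub m (by
    by_contra hlt
    push Not at hlt
    have : i = 0 := by omega
    subst this
    rw [Nat.mul_zero, Nat.zero_add, pow_one] at hd
    omega) hdiv, ← hd]
  -- order of M
  have hP : Nat.card (M ⊓ U m : Subgroup (Cfsg.Sz F m)) ≤ Nat.card K ^ 2 := by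
    rw [sq, ← Nat.card_prod]
    have hk : ∀ g : (M ⊓ U m : Subgroup (Cfsg.Sz F m)), ∃ p : K × K, (g : Cfsg.Sz F m) = u m (p.1 : F) (p.2 : F) := by
      rintro ⟨g, hgM, hgU⟩
      obtain ⟨a, b, rfl⟩ := (mem_U m).mp hgU
      have haK := ha a b hgM
      have hbK : b ∈ K := (hKZ _).mpr (by
        have := mul_mem (inv_mem (hu0 a haK)) hgM
        rw [u_inv, u_mul, add_self m a] at this
        convert this using 2
        linear_combination (norm := char_two_ring (m)) 0)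
      exact ⟨(⟨a, haK⟩, ⟨b, hbK⟩), rfl⟩
    choose f hf using hk
    refine Nat.card_le_card_of_injective f (fun g h e => Subtype.ext ?_)
    rw [hf g, hf h, e]
  have hC : Nat.card (M ⊓ T m : Subgroup (Cfsg.Sz F m)) ≤ Nat.card Kn := by
    have hk : ∀ g : (M ⊓ T m : Subgroup (Cfsg.Sz F m)),
        ∃ b : Kn, (g : Cfsg.Sz F m) = t m (Units.mk0 b.1 b.2.2) := by
      rintro ⟨g, hgM, hgT⟩
      obtain ⟨s, rfl⟩ := (mem_T m).mp hgT
      exact ⟨⟨(s : F), (hCK s).mp hgM, s.ne_zero⟩, by simp⟩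
    choose f hf using hk
    refine Nat.card_le_card_of_injective f (fun g h e => Subtype.ext ?_)
    rw [hf g, hf h, e]
  have hB : Nat.card (M ⊓ B m : Subgroup (Cfsg.Sz F m)) ≤
      Nat.card (M ⊓ U m : Subgroup (Cfsg.Sz F m)) * Nat.card (M ⊓ T m : Subgroup (Cfsg.Sz F m)) := by
    rw [← Nat.card_prod]
    have hk : ∀ g : (M ⊓ B m : Subgroup (Cfsg.Sz F m)),
        ∃ p : (M ⊓ U m : Subgroup (Cfsg.Sz F m)) × (M ⊓ T m : Subgroup (Cfsg.Sz F m)),
          (g : Cfsg.Sz F m) = p.1 * p.2 := by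
      rintro ⟨g, hgM, hgB⟩
      obtain ⟨a, b, s, rfl, h1, h2⟩ := split_of_torus m hs₀ ht₀ hgM hgB
      exact ⟨(⟨_, h1, u_mem_U m a b⟩, ⟨_, h2, t_mem_T m s⟩), rfl⟩
    choose f hf using hk
    refine Nat.card_le_card_of_injective f (fun g h e => Subtype.ext ?_)
    rw [hf g, hf h, e]
  have horb : Nat.card M = Nat.card (MulAction.orbit M (oInf m : suzukiOvoid F m)) *
      Nat.card (M ⊓ B m : Subgroup (Cfsg.Sz F m)) := by
    rw [← Nat.card_congr (Subgroup.subgroupOfEquivOfLe (inf_le_left (a := M) (b := B m))).toEquiv,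
      ← Nat.card_prod, Subgroup.inf_subgroupOf_left,
      ← Nat.card_congr (MulAction.orbitProdStabilizerEquivGroup M (oInf m : suzukiOvoid F m))]
    refine Nat.card_congr (Equiv.prodCongr (Equiv.refl _) (Equiv.subtypeEquivRight fun g => ?_))
    rfl
  have horb2 : Nat.card (MulAction.orbit M (oInf m : suzukiOvoid F m)) ≤
      Nat.card (M ⊓ U m : Subgroup (Cfsg.Sz F m)) + 1 := by
    let f : Option (M ⊓ U m : Subgroup (Cfsg.Sz F m)) → suzukiOvoid F m :=
      fun o => o.elim (oInf m) (fun v => (v : Cfsg.Sz F m) • oPt m (0 : F) 0)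
    refine le_trans (Nat.card_mono (Set.finite_range f) ?_) ((Finite.card_range_le f).trans ?_)
    · rintro x ⟨g, rfl⟩
      by_cases hx : g • (oInf m : suzukiOvoid F m) = oInf m
      · exact ⟨none, hx.symm⟩
      · obtain ⟨v', hv', hv'x⟩ := hΔS (show g • oInf m ∈ Δ from ⟨hx, g, g.2, rfl⟩)
        exact ⟨some ⟨v', hv'⟩, hv'x⟩
    · rw [Nat.card_eq_fintype_card, Nat.card_eq_fintype_card, Fintype.card_option]
  rw [horb]
  calc Nat.card (MulAction.orbit M (oInf m : suzukiOvoid F m)) * Nat.card (M ⊓ B m : Subgroup (Cfsg.Sz F m))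
      ≤ (Nat.card (M ⊓ U m : Subgroup (Cfsg.Sz F m)) + 1) *
        (Nat.card (M ⊓ U m : Subgroup (Cfsg.Sz F m)) * Nat.card (M ⊓ T m : Subgroup (Cfsg.Sz F m))) :=
        Nat.mul_le_mul horb2 hB
    _ ≤ (Nat.card K ^ 2 + 1) * (Nat.card K ^ 2 * Nat.card Kn) := by gcongr
    _ = _ := by rw [show Nat.card Kn = Nat.card K - 1 by omega]; ring

end Cfsg.Agent.Suzuki
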