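import Cfsg.Agent.Suzuki.ClassSquare
import Cfsg.Agent.Suzuki.SubgroupsEven

/-!
Binary transitive actions of the Suzuki group.
-/

set_option autoImplicit false

open Cfsg MulAction
open scoped Pointwise

namespace Cfsg.Agent.Suzuki

section General

variable {G Ω : Type*} [Group G] [MulAction G Ω]

/-- Relational complexity two. -/
def IsBinaryAction (G Ω : Type*) [Group G] [MulAction G Ω] : Prop :=
  ∀ (n : ℕ) (I J : Fin n → Ω), 2 ≤ n →
    (∀ i j : Fin n, i ≠ j → ∃ g : G, g • I i = J i ∧ g • I j = J j) → ∃ g : G, ∀ i, g • I i = J i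

/-- The pointwise stabiliser of the fixed points of an element. -/
def fixW (Ω : Type*) [MulAction G Ω] (x : G) : Subgroup G := fixingSubgroup G (fixedBy Ω x)

theorem mem_fixW {x k : G} : k ∈ fixW Ω x ↔ ∀ ω : Ω, x • ω = ω → k • ω = ω := mem_fixingSubgroup_iff G

theorem self_mem_fixW (x : G) : x ∈ fixW Ω x := mem_fixW.mpr fun _ h => h

theorem fixW_le_of_mem {x y : G} (h : y ∈ fixW Ω x) : fixW Ω y ≤ fixW Ω x := fun _ hk =>
  mem_fixW.mpr fun ω hω => mem_fixW.mp hk ω (mem_fixW.mp h ω hω)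

theorem fixW_le_stabilizer {x : G} {ω : Ω} (h : x • ω = ω) : fixW Ω x ≤ stabilizer G ω :=
  fun _ hk => mem_fixW.mp hk ω h

theorem conj_mem_fixW {g x k : G} (h : k ∈ fixW Ω x) : g * k * g⁻¹ ∈ fixW Ω (g * x * g⁻¹) := by
  rw [mem_fixW] at h ⊢
  intro ω hω
  rw [mul_smul, mul_smul] at hω ⊢
  rw [h _ (eq_inv_smul_iff.mpr hω), smul_inv_smul]

theorem mem_fixW_conj {g x k : G} : k ∈ fixW Ω (g * x * g⁻¹) ↔ g⁻¹ * k * g ∈ fixW Ω x := by
  constructor
  · intro h
    have := conj_mem_fixW (g := g⁻¹) h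
    simpa [mul_assoc] using this
  · intro h
    have := conj_mem_fixW (g := g) h
    simpa [mul_assoc] using this

/-- Binarity only depends on the group up to an equivalence compatible with the action. -/
theorem isBinaryAction_congr {L : Type*} [Group L] [MulAction L Ω] (f : G ≃* L)
    (h : ∀ (g : G) (x : Ω), g • x = f g • x) : IsBinaryAction G Ω ↔ IsBinaryAction L Ω := by
  constructor
  · intro hb n I J hn hp
    obtain ⟨g, hg⟩ := hb n I J hn fun i j hij => by
      obtain ⟨g, h1, h2⟩ := hp i j hij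
      exact ⟨f.symm g, by rw [h, MulEquiv.apply_symm_apply, h1], by rw [h, MulEquiv.apply_symm_apply, h2]⟩
    exact ⟨f g, fun i => by rw [← h, hg i]⟩
  · intro hb n I J hn hp
    obtain ⟨g, hg⟩ := hb n I J hn fun i j hij => by
      obtain ⟨g, h1, h2⟩ := hp i j hij
      exact ⟨f g, by rw [← h, h1], by rw [← h, h2]⟩
    exact ⟨f.symm g, fun i => by rw [h, MulEquiv.apply_symm_apply, hg i]⟩

theorem exists_fixed_conj {g x : G} (h : ∃ ω : Ω, x • ω = ω) : ∃ ω : Ω, (g * x * g⁻¹) • ω = ω := by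
  obtain ⟨ω, hω⟩ := h
  exact ⟨g • ω, by rw [mul_smul, mul_smul, inv_smul_smul, hω]⟩

/-- Three pointwise stabilisers refuting binarity. -/
theorem not_binary [Finite Ω] {a b c x b' c' : G} (hfa : ∃ ω : Ω, a • ω = ω) (hfb : ∃ ω : Ω, b • ω = ω)
    (hx : x ∈ fixW Ω a) (hb : b' ∈ fixW Ω b) (hc : c' ∈ fixW Ω c) (he : x = b' * c')
    (hno : ∀ k ∈ fixW Ω a, k ∈ fixW Ω b → k⁻¹ * x ∉ fixW Ω c) : ¬ IsBinaryAction G Ω := by
  intro hbin
  classical
  let P := (fixedBy Ω a ⊕ fixedBy Ω b) ⊕ fixedBy Ω c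
  have : Fintype P := Fintype.ofFinite P
  let e := Fintype.equivFin P
  let I₀ : P → Ω := Sum.elim (Sum.elim (fun p => p.1) (fun p => p.1)) (fun p => p.1)
  let J₀ : P → Ω := Sum.elim (Sum.elim (fun p => p.1) (fun p => p.1)) (fun p => x • p.1)
  have hn : 2 ≤ Fintype.card P := by
    obtain ⟨ω₁, h₁⟩ := hfa
    obtain ⟨ω₂, h₂⟩ := hfb
    exact Fintype.one_lt_card_iff.mpr ⟨Sum.inl (Sum.inl ⟨ω₁, h₁⟩), Sum.inl (Sum.inr ⟨ω₂, h₂⟩), by simp [P]⟩
  have hb'c : ∀ p : fixedBy Ω c, b' • (p.1 : Ω) = x • p.1 := fun p => by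
    rw [he, mul_smul, mem_fixW.mp hc _ p.2]
  have hpair : ∀ p q : P, ∃ g : G, g • I₀ p = J₀ p ∧ g • I₀ q = J₀ q := by
    rintro ((p | p) | p) ((q | q) | q)
    · exact ⟨1, one_smul _ _, one_smul _ _⟩
    · exact ⟨1, one_smul _ _, one_smul _ _⟩
    · exact ⟨x, mem_fixW.mp hx _ p.2, rfl⟩
    · exact ⟨1, one_smul _ _, one_smul _ _⟩
    · exact ⟨1, one_smul _ _, one_smul _ _⟩
    · exact ⟨b', mem_fixW.mp hb _ p.2, hb'c q⟩
    · exact ⟨x, rfl, mem_fixW.mp hx _ q.2⟩
    · exact ⟨b', hb'c p, mem_fixW.mp hb _ q.2⟩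
    · exact ⟨x, rfl, rfl⟩
  obtain ⟨k, hk⟩ := hbin (Fintype.card P) (I₀ ∘ e.symm) (J₀ ∘ e.symm) hn (fun i j _ => hpair _ _)
  have hk' : ∀ p : P, k • I₀ p = J₀ p := fun p => by simpa using hk (e p)
  refine hno k (mem_fixW.mpr fun ω hω => hk' (Sum.inl (Sum.inl ⟨ω, hω⟩)))
    (mem_fixW.mpr fun ω hω => hk' (Sum.inl (Sum.inr ⟨ω, hω⟩))) (mem_fixW.mpr fun ω hω => ?_)
  rw [mul_smul, inv_smul_eq_iff]
  exact (hk' (Sum.inr ⟨ω, hω⟩)).symm

/-- The combinatorial choice of two translates. -/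
theorem exists_pair {F : Type*} [Field F] [Finite F] (S : F → AddSubgroup F) (hself : ∀ e, e ≠ 0 → e ∈ S e)
    (hmono : ∀ e e', e ≠ 0 → e' ≠ 0 → e' ∈ S e → S e' ≤ S e)
    (hcard : ∀ e, e ≠ 0 → Nat.card (S e) = Nat.card (S 1)) (hne : S 1 ≠ ⊤) :
    ∃ β : F, β ≠ 0 ∧ 1 + β ≠ 0 ∧ (∀ e, e ∈ S 1 → e ∈ S β → e = 0) ∧ (1 : F) ∉ S (1 + β) := by
  obtain ⟨β, hβ⟩ : ∃ β, β ∉ S 1 := by
    by_contra! h
    exact hne (eq_top_iff.mpr fun x _ => h x)
  have heq : ∀ e e', e ≠ 0 → e' ≠ 0 → e' ∈ S e → S e' = S e := fun e e' h h' hm =>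
    AddSubgroup.eq_of_le_of_card_ge (hmono e e' h h' hm) (by rw [hcard e h, hcard e' h'])
  have h1 := hself 1 one_ne_zero
  have hβ0 : β ≠ 0 := fun e => hβ (e ▸ (S 1).zero_mem)
  have hγ : 1 + β ≠ 0 := fun e => hβ ((eq_neg_of_add_eq_zero_right e) ▸ (S 1).neg_mem h1)
  refine ⟨β, hβ0, hγ, fun e he he' => ?_, fun h => ?_⟩
  · by_contra h0
    exact hβ (((heq 1 e one_ne_zero h0 he).symm.trans (heq β e hβ0 h0 he')) ▸ hself β hβ0)
  · have h2 := heq _ 1 hγ one_ne_zero h
    have h3 : 1 + β ∈ S 1 := h2 ▸ hself _ hγ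
    exact hβ (((S 1).add_mem_cancel_left h1).mp h3)

end General

variable {F : Type*} [Field F] [Fintype F] (m : ℕ) [SzField F m]
variable {Ω : Type*} [MulAction (Cfsg.Sz F m) Ω] [Finite Ω]

theorem tra_wuwu (a β : F) :
    tra m (w m * u m a β * w m * u m a (β + a * th m a)) = (th m a * (1 + a) + ovf m a β) ^ 2 := by
  have hN : ovf m a (β + a * th m a) = ovf m a β := by
    simp only [ovf, th_add, th_mul, th_th]
    linear_combination (norm := char_two_ring (m)) 0
  show Matrix.trace ((wSL : Matrix.SpecialLinearGroup (Fin 4) F).1 * uMat m a β *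
    (wSL : Matrix.SpecialLinearGroup (Fin 4) F).1 * uMat m a (β + a * th m a)) = _
  simp [Matrix.trace, uMat, coe_wSL, Matrix.mul_apply, Fin.sum_univ_four, Matrix.vecMul,
    dotProduct, Matrix.vecHead, Matrix.vecTail, hN]
  linear_combination (norm := char_two_ring (m)) 0

theorem not_fixed_of_w {g v : Cfsg.Sz F m} (hv : v ∈ B m) (hg : g = w m * v) : g ∉ B m := by
  intro h
  rw [mem_B, hg, mul_smul, (mem_B m).mp hv, w_smul_oInf] at h
  exact oPt_ne_oInf m _ _ h

/-- Semisimple elements in a point stabiliser. -/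
theorem not_binary_ss {x₀ : Cfsg.Sz F m} (hss : IsSS m x₀) (hfix : ∃ ω : Ω, x₀ • ω = ω)
    (hW : fixW Ω x₀ ≤ Subgroup.centralizer {x₀}) : ¬ IsBinaryAction (Cfsg.Sz F m) Ω := by
  classical
  obtain ⟨L, hL⟩ := exists_trace (F := F) m
  obtain ⟨z, hz⟩ := (th_bijective (F := F) m).2 (tra m x₀)
  set x := w m * u m 0 z with hx
  have htx : tra m x = tra m x₀ := by
    have := tra_twu m (1 : Fˣ) 0 z
    rw [map_one, one_mul, ← hx] at this
    rw [this]
    simp [ovf, hz]
  -- transfer from x₀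
  have hcls : ∀ g, tra m g = tra m x₀ → IsSS m g ∧ (∃ ω : Ω, g • ω = ω) ∧
      fixW Ω g ≤ Subgroup.centralizer {g} := by
    intro g hg
    obtain ⟨c, rfl⟩ := isConj_iff.mp (isConj_of_tra m hss hg)
    refine ⟨hss.conj m (isConj_iff.mpr ⟨c, rfl⟩), exists_fixed_conj hfix, fun k hk => ?_⟩
    have h := Subgroup.mem_centralizer_singleton_iff.mp (hW (mem_fixW_conj.mp hk))
    rw [Subgroup.mem_centralizer_singleton_iff]
    calc k * (c * x₀ * c⁻¹) = c * (c⁻¹ * k * c * x₀) * c⁻¹ := by group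
      _ = _ := by rw [h]; group
  obtain ⟨hxss, hxfix, hxW⟩ := hcls x htx
  have hc0 : tra m x₀ ≠ 0 := (tra_classes m).1 x₀ hss
  obtain ⟨V, hV, hxV⟩ : ∃ V : Subgroup (Cfsg.Sz F m), IsCyclicPart m V ∧ x ∈ V := by
    rcases exists_cyclic_part m (g := x) with ⟨i, hi⟩ | ⟨V, -, hc, hn, h⟩
    · exfalso
      exact (tra_classes m).1 x hxss (tra_two_power m hi)
    · exact ⟨V, ⟨hc, hn⟩, h⟩
  have hVC := hV.centralizer_eq hxV hxss.1
  obtain ⟨r, hr⟩ := (sq_injective (F := F) m |> Finite.surjective_of_injective) (tra m x₀)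
  dsimp only at hr
  have hr0 : r ≠ 0 := fun e => hc0 (by rw [← hr, e]; simp)
  -- two candidate parameters
  have hcand : ∀ e : F, e ≠ 0 → L (r * e) = 1 → ∃ η β : F, η ≠ 0 ∧ th m η = e⁻¹ ∧
      th m (th m η / η) * (1 + th m η / η) + ovf m (th m η / η) β = r := by
    intro e he hLe
    obtain ⟨η, hη⟩ := (th_bijective (F := F) m).2 e⁻¹
    have hη0 : η ≠ 0 := fun h => inv_ne_zero he (by rw [← hη, h, th_zero])
    have hη' : th m η ≠ 0 := by simpa using hη0
    obtain ⟨e', -, he', -⟩ := hL.solve ((η / th m η) ^ 2 + η / th m η + 1 + r / th m η) (by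
      rw [map_add, map_add, map_add, hL.one, ← th_th m (η / th m η), hL.th_eq, hL.th_eq, hη,
        div_inv_eq_mul r e, hLe]
      have : ∀ p : ZMod 2, p + p + 1 + 1 = 0 := by decide
      exact this _)
    refine ⟨η, η * e', hη0, hη, ?_⟩
    rw [div_pow] at he'
    simp only [ovf, th_mul, div_eq_mul_inv, th_inv, th_th]
    have hh := congrArg (fun t => th m η * t) he'
    field_simp at hh ⊢
    linear_combination (norm := char_two_ring (m)) hh
  obtain ⟨k, hk0, hk1, hLk⟩ : ∃ k : F, k ≠ 0 ∧ k ≠ 1 ∧ L k = 1 := by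
    obtain ⟨v, hv0, hv1⟩ := exists_ne_zero_one (F := F) m
    refine ⟨1 + (v + th m v), ?_, ?_, ?_⟩
    · intro h
      exact not_mem_range_one m ⟨v, (add_comm _ _).trans (eq_of_add_eq_zero m h).symm⟩
    · intro h
      have h' : v + th m v = 0 := by linear_combination h
      rcases th_eq_self m (eq_of_add_eq_zero m h').symm with e | e <;> contradiction
    · rw [map_add, map_add, hL.th_eq, hL.one]
      have : ∀ p : ZMod 2, 1 + (p + p) = 1 := by decide
      exact this _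
  obtain ⟨η₁, β₁, hη₁, hη₁e, h₁⟩ := hcand r⁻¹ (inv_ne_zero hr0) (by rw [mul_inv_cancel₀ hr0, hL.one])
  obtain ⟨η₂, β₂, hη₂, hη₂e, h₂⟩ := hcand (k / r) (div_ne_zero hk0 hr0)
    (by rw [mul_div_cancel₀ k hr0, hLk])
  have hdiff : th m η₁ / η₁ ≠ th m η₂ / η₂ := by
    intro e
    have hη₁' : th m η₁ ≠ 0 := by simpa using hη₁
    have hη₂' : th m η₂ ≠ 0 := by simpa using hη₂
    have e' : th m (η₁ / η₂) = η₁ / η₂ := by
      rw [div_eq_mul_inv, th_mul, th_inv]
      field_simp at e ⊢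
      linear_combination e
    rcases th_eq_self m e' with h | h
    · exact div_ne_zero hη₁ hη₂ h
    · rw [div_eq_one_iff_eq hη₂] at h
      rw [h, hη₂e, inv_inj] at hη₁e
      exact hk1 (by rw [div_eq_iff hr0, inv_mul_cancel₀ hr0] at hη₁e; exact hη₁e)
  -- at most one first coordinate normalises V
  have hbad : ∀ a b a' b' : F, a ≠ 0 → a' ≠ 0 → u m a b ∈ Subgroup.normalizer (V : Set (Cfsg.Sz F m)) →
      u m a' b' ∈ Subgroup.normalizer (V : Set (Cfsg.Sz F m)) → a = a' := by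
    intro a b a' b' ha ha' h h'
    set N := Subgroup.normalizer (V : Set (Cfsg.Sz F m))
    have hinv : ∀ a b : F, a ≠ 0 → u m a b ∈ N → u m a b * u m a b ∈ N ∧ u m a b * u m a b ∉ V ∧
        (u m a b * u m a b) * (u m a b * u m a b) = 1 := by
      intro a b ha h
      have h2 : (u m a b * u m a b) * (u m a b * u m a b) = 1 := by rw [u_sq, u_sq]; simp
      refine ⟨N.mul_mem h h, fun e => ?_, h2⟩
      have := hV.eq_one_of_sq e h2
      rw [u_sq, u_eq_one] at this
      exact mul_ne_zero (by simpa using ha) ha this.2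
    obtain ⟨n1, n2, n3⟩ := hinv a b ha h
    obtain ⟨n1', n2', n3'⟩ := hinv a' b' ha' h'
    have hm := hV.mul_mem_of_involutions n3 n2 n1 n3' n2' n1'
    rw [u_sq, u_sq, u_mul] at hm
    have := hV.eq_one_of_sq hm (by rw [u_sq]; simp)
    rw [u_eq_one] at this
    have e : th m a * a = th m a' * a' := by
      have := this.2
      simp only [th_zero, zero_mul, add_zero] at this
      exact eq_of_add_eq_zero m this
    exact mul_th_injective m (by simpa [mul_comm] using e)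
  have main : ∀ a β : F, th m a * (1 + a) + ovf m a β = r →
      u m a (β + z) ∉ Subgroup.normalizer (V : Set (Cfsg.Sz F m)) → ¬ IsBinaryAction (Cfsg.Sz F m) Ω := by
    intro a β he hN
    set y := u m a (β + z) * x * (u m a (β + z))⁻¹ with hy
    have hty : tra m y = tra m x₀ := (tra_conj m (isConj_iff.mpr ⟨_, rfl⟩)).trans htx
    have hg : x * y = w m * u m a β * w m * u m a (β + a * th m a) := by
      rw [hy, hx, u_inv, show w m * u m 0 z * (u m a (β + z) * (w m * u m 0 z) * u m a (β + z + th m a * a)) =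
        w m * (u m 0 z * u m a (β + z)) * w m * (u m 0 z * u m a (β + z + th m a * a)) by group, u_mul, u_mul]
      congr 1
      · congr 2
        rw [u_inj]
        exact ⟨by ring, by simp only [th_zero, zero_mul]; linear_combination (norm := char_two_ring (m)) 0⟩
      · rw [u_inj]
        exact ⟨by ring, by simp only [th_zero, zero_mul]; linear_combination (norm := char_two_ring (m)) 0⟩
    have htg : tra m (x * y) = tra m x₀ := by rw [hg, tra_wuwu, he, hr]
    obtain ⟨hyss, hyfix, hyW⟩ := hcls y hty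
    obtain ⟨hgss, hgfix, hgW⟩ := hcls (x * y) htg
    have hyV : y ∉ V := fun e => hN (normalizer_of_conj_mem m hV.isPart hxV hxss.1 e)
    refine not_binary hgfix hxfix (self_mem_fixW (x * y)) (self_mem_fixW x) (self_mem_fixW y) rfl
      (fun k hk hk' hk'' => ?_)
    have h1 := hgW hk
    have h2 := hxW hk'
    have h3 := hyW hk''
    rw [hVC] at h2
    by_cases hk1 : k = 1
    · rw [hk1, inv_one, one_mul, Subgroup.mem_centralizer_singleton_iff] at h3
      have hcomm : x * y = y * x := by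
        have h4 := congrArg (fun t => t * y⁻¹) h3
        simpa [mul_assoc] using h4
      exact hyV (hVC ▸ Subgroup.mem_centralizer_singleton_iff.mpr hcomm.symm)
    · have hgV : x * y ∈ Subgroup.centralizer {k} := by
        rw [Subgroup.mem_centralizer_singleton_iff]
        exact (Subgroup.mem_centralizer_singleton_iff.mp h1).symm
      rw [hV.centralizer_eq h2 hk1] at hgV
      exact hyV ((V.mul_mem_cancel_left hxV).mp hgV)
  by_cases h : u m (th m η₁ / η₁) (β₁ + z) ∈ Subgroup.normalizer (V : Set (Cfsg.Sz F m))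
  · refine main _ _ h₂ (fun h' => hdiff (hbad _ _ _ _ ?_ ?_ h h'))
    · exact div_ne_zero (by simpa using hη₁) hη₁
    · exact div_ne_zero (by simpa using hη₂) hη₂
  · exact main _ _ h₁ h

theorem stabilizer_type {ω : Ω} (hne : stabilizer (Cfsg.Sz F m) ω ≠ ⊤)
    (hZ : ∀ z : F, u m 0 z ∈ stabilizer (Cfsg.Sz F m) ω) : stabilizer (Cfsg.Sz F m) ω ≤ B m := by
  set K := stabilizer (Cfsg.Sz F m) ω
  have : Fact (Nat.Prime 2) := ⟨Nat.prime_two⟩
  have hcard : Nat.card F ∣ Nat.card K := by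
    let f : Multiplicative F →* K :=
      { toFun := fun z => ⟨u m 0 z.toAdd, hZ _⟩
        map_one' := Subtype.ext (u_zero m)
        map_mul' := fun y z => Subtype.ext (by simp [u_mul]) }
    have hf : Function.Injective f := fun y z e => ((u_inj m).mp (congrArg Subtype.val e)).2
    have := Subgroup.card_dvd_of_injective f hf
    rwa [Nat.card_congr Multiplicative.toAdd] at this
  rw [card_nat (F := F) m] at hcard
  have h3 : 3 ≤ 2 * m + 1 := by have := SzField.pos F (m := m); omega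
  rcases subgroup_type m K with ⟨p, hp⟩ | ⟨V, hc, hn, hle⟩ | ⟨k, hk, hd, c, hc⟩
  · have hp0 := U_fixed m (u_mem_U m 0 1) (fun e => one_ne_zero ((u_eq_one m).mp e).2) (hp _ (hZ 1))
    intro g hg
    show g • oInf m = (oInf m : suzukiOvoid F m)
    rw [← hp0]
    exact hp g hg
  · exfalso
    have h1 := hcard.trans ((Subgroup.card_dvd_of_le hle).trans (card_normalizer_dvd m hc hn))
    have h2 : 2 ^ 3 ∣ 4 * Nat.card V := (pow_dvd_pow 2 h3).trans h1
    obtain ⟨c, hc2⟩ := IsCyclic.exists_ofOrder_eq_natCard (α := V)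
    have hodd := cyclic_part_orderOf m hn c.2
    rw [Subgroup.orderOf_coe, hc2] at hodd
    refine odd_compl (F := F) m (Dvd.dvd.trans ?_ hodd)
    omega
  · exfalso
    have h1 : Nat.card K = Nat.card (sub (F := F) m k) := by
      rw [← hc]
      exact Nat.card_congr (K.equivMapOfInjective _ (MulAut.conj c).injective).toEquiv
    rw [h1, card_sub m hk hd, mul_assoc, ← pow_mul] at hcard
    have hodd : ¬ 2 ∣ (2 ^ (2 * k + 1) - 1) * (2 ^ ((2 * k + 1) * 2) + 1) := by
      have h2 : 2 ∣ 2 ^ (2 * k + 1) := dvd_pow_self 2 (by omega)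
      have h4 : 2 ∣ 2 ^ ((2 * k + 1) * 2) := dvd_pow_self 2 (by omega)
      have := Nat.one_le_two_pow (n := 2 * k + 1)
      intro e
      rcases (Nat.prime_two.dvd_mul).mp e with e | e <;> omega
    have h5 := (Nat.Coprime.pow_left (2 * m + 1) ((Nat.prime_two.coprime_iff_not_dvd).mpr hodd)).dvd_of_dvd_mul_right hcard
    rw [Nat.pow_dvd_pow_iff_le_right (by norm_num)] at h5
    have hkm : k = m := by
      obtain ⟨e, he⟩ := hd
      rcases Nat.lt_or_ge e 2 with h | h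
      · interval_cases e <;> omega
      · rcases Nat.lt_or_ge e 3 with h' | h'
        · interval_cases e; omega
        · have := Nat.mul_le_mul_left (2 * k + 1) h'
          omega
    rw [sub_eq_top m hkm, ← Subgroup.map_top_of_surjective (MulAut.conj c).toMonoidHom (MulAut.conj c).surjective] at hc
    exact hne (Subgroup.map_injective (MulAut.conj c).injective hc)

theorem not_binary_Z (hle : ∀ k ∈ fixW Ω (u m (0 : F) 1), ∃ e : F, k = u m 0 e)
    (hne : ∃ e : F, u m 0 e ∉ fixW Ω (u m (0 : F) 1)) (hfix : ∃ ω : Ω, u m (0 : F) 1 • ω = ω) :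
    ¬ IsBinaryAction (Cfsg.Sz F m) Ω := by
  let S : F → AddSubgroup F := fun e => zPart m (fixW Ω (u m 0 e))
  have hconj : ∀ e : F, e ≠ 0 → ∃ s : Fˣ, ∀ z, t m s * u m 0 z * (t m s)⁻¹ = u m 0 (e * z) := by
    intro e he
    obtain ⟨s, hs⟩ := (sq_mul_th_bijective (F := F) m).2 e
    dsimp only at hs
    have hs0 : s ≠ 0 := fun h => by
      rw [h, zero_pow two_ne_zero, zero_mul] at hs
      exact he hs.symm
    exact ⟨Units.mk0 s hs0, fun z => by rw [t_u, Units.val_mk0, hs, mul_zero]⟩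
  have hcov : ∀ e z : F, e ≠ 0 → (e * z ∈ S e ↔ z ∈ S 1) := by
    intro e z he
    obtain ⟨s, hs⟩ := hconj e he
    show u m 0 (e * z) ∈ fixW Ω (u m 0 e) ↔ u m 0 z ∈ fixW Ω (u m 0 1)
    have h1 : t m s * u m 0 1 * (t m s)⁻¹ = u m 0 e := by rw [hs, mul_one]
    rw [← h1, ← hs, mem_fixW_conj]
    group
  obtain ⟨β, hβ, hγ, h1, h2⟩ := exists_pair S (fun e _ => self_mem_fixW (u m 0 e))
    (fun e e' _ _ h z hz => fixW_le_of_mem h hz) (fun e he => by
      refine (Nat.card_congr (Equiv.ofBijective (fun z : S 1 => (⟨e * z, (hcov e z he).mpr z.2⟩ : S e)) ⟨?_, ?_⟩)).symm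
      · intro a b h; exact Subtype.ext (mul_left_cancel₀ he (congrArg Subtype.val h))
      · rintro ⟨z, hz⟩
        exact ⟨⟨z / e, (hcov e (z / e) he).mp (by rwa [mul_div_cancel₀ z he])⟩,
          Subtype.ext (mul_div_cancel₀ z he)⟩)
    (fun h => by obtain ⟨e, he⟩ := hne; exact he (show e ∈ S 1 from h ▸ trivial))
  have hfix' : ∀ e : F, e ≠ 0 → ∃ ω : Ω, u m 0 e • ω = ω := by
    intro e he
    obtain ⟨s, hs⟩ := hconj e he
    obtain ⟨ω, hω⟩ := hfix
    refine ⟨t m s • ω, ?_⟩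
    rw [← mul_one e, ← hs, mul_smul, mul_smul, inv_smul_smul, hω]
  refine not_binary (hfix' 1 one_ne_zero) (hfix' β hβ) (self_mem_fixW _) (self_mem_fixW (u m 0 β))
    (self_mem_fixW (u m 0 (1 + β))) ?_ (fun k hk hk' hk'' => ?_)
  · rw [u_mul]
    simp only [add_zero, th_zero, mul_zero]
    congr 1
    linear_combination (norm := char_two_ring (m)) 0
  · obtain ⟨e, rfl⟩ := hle k hk
    have he := h1 e hk hk'
    subst he
    rw [u_zero, inv_one, one_mul] at hk''
    exact h2 hk''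

theorem conj_mem_of_centralizer {x v k : Cfsg.Sz F m} (h : v * x * v⁻¹ = x) (hk : k ∈ fixW Ω x) :
    v * k * v⁻¹ ∈ fixW Ω x := by
  have := conj_mem_fixW (g := v) hk
  rwa [h] at this

theorem u01_central {v : Cfsg.Sz F m} (hv : v ∈ U m) : v * u m (0 : F) 1 * v⁻¹ = u m 0 1 := by
  obtain ⟨c, d, rfl⟩ := (mem_U m).mp hv
  rw [u_conj]
  simp

theorem fixW_u01_le_B (hne : ∀ ω : Ω, stabilizer (Cfsg.Sz F m) ω ≠ ⊤)
    (hfix : ∃ ω : Ω, u m (0 : F) 1 • ω = ω) : fixW Ω (u m (0 : F) 1) ≤ B m := by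
  set W := fixW Ω (u m (0 : F) 1)
  by_contra hB
  set N := Subgroup.normalizer (W : Set (Cfsg.Sz F m))
  have hUN : U m ≤ N := by
    intro v hv
    rw [Subgroup.mem_normalizer_iff]
    intro k
    refine ⟨conj_mem_of_centralizer m (u01_central m hv), fun h => ?_⟩
    have := conj_mem_of_centralizer m (u01_central m ((U m).inv_mem hv)) h
    simpa [mul_assoc] using this
  have hN : N = ⊤ := eq_top_of_U_le m hUN (fun h => hB (le_trans Subgroup.le_normalizer h))
  have := isSimpleGroup (F := F) m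
  rcases (Subgroup.normalizer_eq_top_iff.mp hN).eq_bot_or_eq_top with h | h
  · exact hB (show W ≤ B m from h ▸ bot_le)
  · obtain ⟨ω, hω⟩ := hfix
    exact hne ω (top_le_iff.mp (h ▸ fixW_le_stabilizer hω))

/-- The centre lies in the pointwise stabiliser unless that stabiliser is elementary and small. -/
theorem center_le_fixW (hne : ∀ ω : Ω, stabilizer (Cfsg.Sz F m) ω ≠ ⊤)
    (hfix : ∃ ω : Ω, u m (0 : F) 1 • ω = ω) (hbin : IsBinaryAction (Cfsg.Sz F m) Ω) :
    ∀ z : F, u m 0 z ∈ fixW Ω (u m (0 : F) 1) := by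
  set W := fixW Ω (u m (0 : F) 1) with hW
  have hWB := fixW_u01_le_B m hne hfix
  by_cases hle : ∀ k ∈ W, ∃ e : F, k = u m 0 e
  · by_contra! h
    exact not_binary_Z m hle h hfix hbin
  push Not at hle
  obtain ⟨k, hk, hkZ⟩ := hle
  by_cases hkU : k ∈ U m
  · obtain ⟨a, b, rfl⟩ := (mem_U m).mp hkU
    have ha : a ≠ 0 := fun e => hkZ b (by rw [e])
    obtain ⟨L, hL⟩ := exists_trace (F := F) m
    have hA : th m a * a ≠ 0 := mul_ne_zero (by simpa using ha) ha
    have hker : ∀ r, L r = 0 → u m 0 (th m a * a * r) ∈ W := by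
      intro r hr
      obtain ⟨r', hr'0, hr', -⟩ := hL.solve r hr
      have h1 := W.mul_mem (W.inv_mem hk) (conj_mem_of_centralizer m (u01_central m (u_mem_U m (a * r') 0)) hk)
      rw [u_inv, u_conj, u_mul] at h1
      convert h1 using 2
      · exact (add_self m a).symm
      · rw [th_mul, ← hr']
        linear_combination (norm := char_two_ring (m)) 0
    intro z
    have hsq := W.mul_mem hk hk
    rw [u_sq] at hsq
    rcases zmod_two_cases (L (z / (th m a * a))) with h | h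
    · have := hker _ h
      rwa [mul_div_cancel₀ z hA] at this
    · have := W.mul_mem hsq (hker (z / (th m a * a) + 1) (by rw [map_add, h, hL.one]; decide))
      rw [u_mul] at this
      convert this using 2
      · simp
      · rw [mul_add, mul_div_cancel₀ z hA, th_zero, zero_mul, add_zero, mul_one]
        linear_combination (norm := char_two_ring (m)) 0
  · have hmem : ∀ v ∈ U m, v * k * v⁻¹ * k⁻¹ ∈ U m := by
      intro v hv
      rw [mul_assoc v, mul_assoc v]
      exact (U m).mul_mem hv ((Subgroup.mem_normalizer_iff.mp (B_le_normalizer_U m (hWB hk)) _).mp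
        ((U m).inv_mem hv))
    let f : ↥(U m : Subgroup (Cfsg.Sz F m)) → ↥(U m : Subgroup (Cfsg.Sz F m)) := fun v => ⟨_, hmem v v.2⟩
    have hf : Function.Injective f := by
      rintro ⟨v, hv⟩ ⟨v', hv'⟩ h
      have h' : v * k * v⁻¹ = v' * k * v'⁻¹ := mul_right_cancel (congrArg Subtype.val h)
      by_contra hne'
      have h1 : v'⁻¹ * v ≠ 1 := fun e => hne' (Subtype.ext (inv_mul_eq_one.mp e).symm)
      refine hkU (centralizer_U_le m ((U m).mul_mem ((U m).inv_mem hv') hv) h1 ?_)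
      rw [Subgroup.mem_centralizer_singleton_iff]
      calc k * (v'⁻¹ * v) = v'⁻¹ * (v' * k * v'⁻¹) * v := by group
        _ = _ := by rw [← h']; group
    intro z
    obtain ⟨⟨v, hv⟩, e⟩ := Finite.surjective_of_injective hf ⟨u m 0 z, u_mem_U m 0 z⟩
    rw [← show v * k * v⁻¹ * k⁻¹ = u m 0 z from congrArg Subtype.val e]
    exact W.mul_mem (conj_mem_of_centralizer m (u01_central m hv) hk) (W.inv_mem hk)

theorem center_le_fixW' (hne : ∀ ω : Ω, stabilizer (Cfsg.Sz F m) ω ≠ ⊤)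
    (hfix : ∃ ω : Ω, u m (0 : F) 1 • ω = ω) (hbin : IsBinaryAction (Cfsg.Sz F m) Ω)
    {b : F} (hb : b ≠ 0) (z : F) : u m 0 z ∈ fixW Ω (u m 0 b) := by
  obtain ⟨s, hs⟩ := (sq_mul_th_bijective (F := F) m).2 b
  dsimp only at hs
  have hs0 : s ≠ 0 := fun h => by
    rw [h, zero_pow two_ne_zero, zero_mul] at hs
    exact hb hs.symm
  have h := conj_mem_fixW (g := t m (Units.mk0 s hs0)) (center_le_fixW m hne hfix hbin (z / b))
  rwa [t_u, t_u, Units.val_mk0, hs, mul_zero, mul_one, mul_div_cancel₀ z hb] at h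

theorem stabilizer_le_U_case [IsPretransitive (Cfsg.Sz F m) Ω] (hne : ∀ ω : Ω, stabilizer (Cfsg.Sz F m) ω ≠ ⊤)
    (hfix : ∃ ω : Ω, u m (0 : F) 1 • ω = ω) (hbin : IsBinaryAction (Cfsg.Sz F m) Ω) {ω : Ω}
    (hU : stabilizer (Cfsg.Sz F m) ω ≤ U m)
    (hZ : ∀ z : F, u m 0 z ∈ stabilizer (Cfsg.Sz F m) ω) :
    ∀ k ∈ stabilizer (Cfsg.Sz F m) ω, ∃ b : F, k = u m 0 b := by
  set K := stabilizer (Cfsg.Sz F m) ω with hK
  by_contra! hno
  obtain ⟨k, hk, hkZ⟩ := hno
  obtain ⟨a, b, rfl⟩ := (mem_U m).mp (hU hk)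
  have ha : a ≠ 0 := fun e => hkZ b (by rw [e])
  have hstab : ∀ (c : Cfsg.Sz F m) (ω' : Ω), c • ω = ω' →
      ∀ g, g ∈ stabilizer (Cfsg.Sz F m) ω' → c⁻¹ * g * c ∈ K := by
    rintro c ω' rfl g hg
    rw [hK, mem_stabilizer_iff, mul_smul, mul_smul, inv_smul_eq_iff]
    exact hg
  -- points fixed by a nontrivial element of U have stabilisers in U
  have hfixU : ∀ (v : Cfsg.Sz F m) (ω' : Ω), v ∈ U m → v ≠ 1 → v • ω' = ω' →
      stabilizer (Cfsg.Sz F m) ω' ≤ U m := by
    intro v ω' hv hv1 hω' g hg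
    obtain ⟨c, hc⟩ := exists_smul_eq (Cfsg.Sz F m) ω ω'
    have h1 := hU (hstab c ω' hc v hω')
    have hcB : c⁻¹ ∈ B m := U_TI m hv hv1 (by rwa [inv_inv])
    have h2 := hU (hstab c ω' hc g hg)
    have h3 := (Subgroup.mem_normalizer_iff.mp (B_le_normalizer_U m ((B m).inv_mem hcB)) _).mp h2
    simpa [mul_assoc] using h3
  by_cases hA : aPart m K = ⊤
  · have hKU : U m ≤ K := by
      intro g hg
      obtain ⟨c, d, rfl⟩ := (mem_U m).mp hg
      obtain ⟨d', hd'⟩ := mem_aPart.mp (show c ∈ aPart m K from hA ▸ trivial)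
      have := K.mul_mem (hZ (d + d')) hd'
      rw [u_mul] at this
      convert this using 2
      · simp
      · simp only [th_zero, zero_mul, add_zero]
        linear_combination (norm := char_two_ring (m)) 0
    -- y and y * u 0 1 are nontrivial 2-elements
    set y := t m 1 * w m * u m (1 : F) 0 with hy
    have hy1 : y ∉ B m := by
      rw [hy, map_one, one_mul]
      exact not_fixed_of_w m (U_le_B m (u_mem_U m 1 0)) rfl
    have hyu : y * u m 0 1 ∉ B m := fun h => hy1 (((B m).mul_mem_cancel_right (U_le_B m (u_mem_U m 0 1))).mp h)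
    have ht1 : tra m y = 0 := by
      rw [hy, tra_twu]; simp [ovf]; linear_combination (norm := char_two_ring (m)) 0
    have ht2 : tra m (y * u m 0 1) = 0 := by
      rw [hy, mul_assoc (t m 1 * w m), u_mul, tra_twu]
      simp [ovf]; linear_combination (norm := char_two_ring (m)) 0
    have key : ∀ v : Cfsg.Sz F m, tra m v = 0 → v ∉ B m →
        (∃ ω' : Ω, v • ω' = ω') ∧ ∃ q : suzukiOvoid F m, q ≠ oInf m ∧
          ∀ g ∈ fixW Ω v, g • q = q := by
      intro v hv hvB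
      have hv1 : v ≠ 1 := fun e => hvB (e ▸ (B m).one_mem)
      obtain ⟨i, hi⟩ := (dichotomy m v).resolve_right (fun h => (tra_classes m).1 v h hv)
      obtain ⟨c, hc⟩ := exists_conj_mem_U m hi hv1
      have hfx : v • (c⁻¹ • ω) = c⁻¹ • ω := by
        have h1 := hKU hc
        rw [hK, mem_stabilizer_iff, mul_smul, mul_smul] at h1
        exact eq_inv_smul_iff.mpr h1
      refine ⟨⟨_, hfx⟩, c⁻¹ • oInf m, fun e => hvB ?_, fun g hg => ?_⟩
      · have h1 := U_le_B m hc
        rw [mem_B, mul_smul, mul_smul] at h1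
        rw [mem_B, ← e]
        exact eq_inv_smul_iff.mpr h1
      · have h1 := U_le_B m (hU (hstab c⁻¹ _ rfl g (fixW_le_stabilizer hfx hg)))
        rw [inv_inv, mem_B, mul_smul, mul_smul] at h1
        exact eq_inv_smul_iff.mpr h1
    obtain ⟨hf1, q1, hq1, hW1⟩ := key y⁻¹ (by
        by_contra h
        obtain ⟨h1, h2⟩ := isSS_of_tra_ne m h
        exact (tra_classes m).1 y ⟨fun e => h1 (by rw [e, inv_one]), by rwa [orderOf_inv] at h2⟩ ht1)
      (fun h => hy1 (by simpa using (B m).inv_mem h))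
    obtain ⟨-, q2, hq2, hW2⟩ := key (y * u m 0 1) ht2 hyu
    refine not_binary hfix hf1 (self_mem_fixW _) (self_mem_fixW y⁻¹) (self_mem_fixW (y * u m 0 1))
      (inv_mul_cancel_left y _).symm (fun g hg hg' hg'' => ?_) hbin
    obtain ⟨ω₁, hω₁⟩ := hfix
    have hgU := hfixU _ ω₁ (u_mem_U m 0 1) (fun e => one_ne_zero ((u_eq_one m).mp e).2) hω₁
      (fixW_le_stabilizer hω₁ hg)
    by_cases hg1 : g = 1
    · subst hg1
      rw [inv_one, one_mul] at hg''
      exact hq2 (U_fixed m (u_mem_U m 0 1) (fun e => one_ne_zero ((u_eq_one m).mp e).2) (hW2 _ hg''))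
    · exact hq1 (U_fixed m hgU hg1 (hW1 _ hg'))
  · -- lines
    obtain ⟨s₀, hs₀⟩ := (th_bijective (F := F) m).2 a⁻¹
    have hs₀0 : s₀ ≠ 0 := fun e => inv_ne_zero ha (by rw [← hs₀, e, th_zero])
    have hZW : ∀ (e : F) (z : F), e ≠ 0 → u m 0 z ∈ fixW Ω (u m e 0) := by
      intro e z he
      have hsq : u m 0 (th m e * e) ∈ fixW Ω (u m e 0) := by
        rw [← u_sq m e 0]; exact mul_mem (self_mem_fixW _) (self_mem_fixW _)
      exact fixW_le_of_mem hsq (center_le_fixW' m hne hfix hbin (mul_ne_zero (by simpa using he) he) z)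
    have ha0 : u m a 0 ∈ K := by
      have := K.mul_mem (hZ b) hk
      rw [u_mul] at this
      convert this using 2
      · simp
      · simp only [th_zero, zero_mul, add_zero]
        linear_combination (norm := char_two_ring (m)) 0
    have hfe : ∀ e : F, e ≠ 0 → ∃ ω' : Ω, u m e 0 • ω' = ω' := by
      intro e he
      obtain ⟨s, hs⟩ := (th_bijective (F := F) m).2 (e / a)
      have hs0 : s ≠ 0 := fun h => div_ne_zero he ha (by rw [← hs, h, th_zero])
      refine ⟨t m (Units.mk0 s hs0) • ω, ?_⟩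
      rw [show u m e 0 = t m (Units.mk0 s hs0) * u m a 0 * (t m (Units.mk0 s hs0))⁻¹ by
        rw [t_u, Units.val_mk0, hs, div_mul_cancel₀ e ha, mul_zero], mul_smul, mul_smul, inv_smul_smul,
        show u m a 0 • ω = ω from ha0]
    have hWU : ∀ e : F, e ≠ 0 → fixW Ω (u m e 0) ≤ U m := fun e he => by
      obtain ⟨ω', hω'⟩ := hfe e he
      exact (fixW_le_stabilizer hω').trans
        (hfixU _ ω' (u_mem_U m e 0) (fun h => he ((u_eq_one m).mp h).1) hω')
    let S : F → AddSubgroup F := fun e => aPart m (fixW Ω (u m e 0))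
    have hS : ∀ e a', e ≠ 0 → (a' ∈ S e ↔ u m a' 0 ∈ fixW Ω (u m e 0)) := by
      intro e a' he
      refine ⟨fun h => ?_, fun h => mem_aPart.mpr ⟨0, h⟩⟩
      obtain ⟨d, hd⟩ := mem_aPart.mp h
      have := mul_mem (hZW e d he) hd
      rw [u_mul] at this
      convert this using 2
      · simp
      · simp only [th_zero, zero_mul, add_zero]
        linear_combination (norm := char_two_ring (m)) 0
    have hcov : ∀ e x : F, e ≠ 0 → (e * x ∈ S e ↔ x ∈ S 1) := by
      intro e x he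
      obtain ⟨s, hs⟩ := (th_bijective (F := F) m).2 e
      have hs0 : s ≠ 0 := fun h => he (by rw [← hs, h, th_zero])
      have hc : ∀ x, t m (Units.mk0 s hs0) * u m x 0 * (t m (Units.mk0 s hs0))⁻¹ = u m (e * x) 0 :=
        fun x => by rw [t_u, Units.val_mk0, hs, mul_zero]
      rw [hS e _ he, hS 1 _ one_ne_zero]
      have h1 : t m (Units.mk0 s hs0) * u m 1 0 * (t m (Units.mk0 s hs0))⁻¹ = u m e 0 := by rw [hc, mul_one]
      rw [← h1, ← hc, mem_fixW_conj]
      group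
    obtain ⟨β, hβ, hγ, h1, h2⟩ := exists_pair S
      (fun e he => (hS e e he).mpr (self_mem_fixW _))
      (fun e e' he he' h x hx => (hS e x he).mpr (fixW_le_of_mem ((hS e e' he).mp h) ((hS e' x he').mp hx)))
      (fun e he => by
        refine (Nat.card_congr (Equiv.ofBijective (fun z : S 1 => (⟨e * z, (hcov e z he).mpr z.2⟩ : S e)) ⟨?_, ?_⟩)).symm
        · intro p q h; exact Subtype.ext (mul_left_cancel₀ he (congrArg Subtype.val h))
        · rintro ⟨z, hz⟩
          exact ⟨⟨z / e, (hcov e (z / e) he).mp (by rwa [mul_div_cancel₀ z he])⟩,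
            Subtype.ext (mul_div_cancel₀ z he)⟩)
      (fun h => hA (by
        refine eq_top_iff.mpr (fun x _ => ?_)
        have hx : a * (x / a) ∈ S a := (hcov a (x / a) ha).mpr (h ▸ trivial)
        rw [mul_div_cancel₀ x ha] at hx
        exact mem_aPart.mpr ⟨0, fixW_le_stabilizer (show u m a 0 • ω = ω from ha0) ((hS a x ha).mp hx)⟩))
    refine not_binary (hfe 1 one_ne_zero) (hfe β hβ) (self_mem_fixW _) (self_mem_fixW (u m β 0))
      (c' := u m (1 + β) (th m β * (1 + β))) ?_ ?_ (fun g hg hg' hg'' => ?_) hbin (c := u m (1 + β) 0)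
    · have := mul_mem (hZW (1 + β) (th m β * (1 + β)) hγ) (self_mem_fixW (Ω := Ω) (u m (1 + β) 0))
      rw [u_mul] at this
      convert this using 2
      · simp
      · simp
    · rw [u_mul, u_inj]
      exact ⟨by linear_combination (norm := char_two_ring (m)) 0,
        by linear_combination (norm := char_two_ring (m)) 0⟩
    · obtain ⟨c, d, rfl⟩ := (mem_U m).mp (hWU 1 one_ne_zero hg)
      have hc := h1 c (mem_aPart.mpr ⟨d, hg⟩) (mem_aPart.mpr ⟨d, hg'⟩)
      subst hc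
      rw [u_inv, u_mul] at hg''
      simp only [zero_add] at hg''
      exact h2 (mem_aPart.mpr ⟨_, hg''⟩)

theorem stabilizer_of_binary [IsPretransitive (Cfsg.Sz F m) Ω] (hne : ∀ ω : Ω, stabilizer (Cfsg.Sz F m) ω ≠ ⊤)
    (hbin : IsBinaryAction (Cfsg.Sz F m) Ω) (ω₀ : Ω) (hbot : stabilizer (Cfsg.Sz F m) ω₀ ≠ ⊥) :
    ∃ ω : Ω, ∀ g, g ∈ stabilizer (Cfsg.Sz F m) ω ↔ ∃ b : F, g = u m 0 b := by
  have : Fact (Nat.Prime 2) := ⟨Nat.prime_two⟩
  by_cases h2 : 2 ∣ Nat.card (stabilizer (Cfsg.Sz F m) ω₀)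
  · obtain ⟨i, hi⟩ := exists_prime_orderOf_dvd_card' 2 h2
    rw [← Subgroup.orderOf_coe] at hi
    have h01 : orderOf (u m (0 : F) 1) = 2 :=
      orderOf_eq_two m (by rw [u_sq]; simp) (fun e => one_ne_zero ((u_eq_one m).mp e).2)
    obtain ⟨c, hc⟩ := isConj_iff.mp (isConj_involutions m hi h01)
    have hfx : u m (0 : F) 1 • (c • ω₀) = c • ω₀ := by
      rw [← hc, mul_smul, mul_smul, inv_smul_smul, i.2]
    have hfix : ∃ ω : Ω, u m (0 : F) 1 • ω = ω := ⟨_, hfx⟩
    have hZ : ∀ z, u m 0 z ∈ stabilizer (Cfsg.Sz F m) (c • ω₀) := fun z =>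
      fixW_le_stabilizer hfx (center_le_fixW m hne hfix hbin z)
    have hKB := stabilizer_type m (hne _) hZ
    set K := stabilizer (Cfsg.Sz F m) (c • ω₀) with hK
    have hKU : K ≤ U m := by
      intro g hg
      by_contra hgU
      obtain ⟨p, hp, hgp⟩ := exists_second_fixed m (hKB hg) hgU
      have h2p := two_pretransitive (F := F) m
      rw [is_two_pretransitive_iff] at h2p
      obtain ⟨j, hj1, hj2⟩ := h2p hp.symm (oPt_ne_oInf m (0 : F) 0).symm
      obtain ⟨s, hs⟩ := exists_t_of_fixed m (g := j * g * j⁻¹)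
        (by rw [mul_smul, mul_smul, inv_smul_eq_iff.mpr hj1.symm, (mem_B m).mp (hKB hg), hj1])
        (by rw [mul_smul, mul_smul, inv_smul_eq_iff.mpr hj2.symm, hgp, hj2])
      have hg1 : g ≠ 1 := fun e => hgU (e ▸ (U m).one_mem)
      have hss : IsSS m g := by
        refine ⟨hg1, ?_⟩
        rw [← (MulAut.conj j).orderOf_eq g, MulAut.conj_apply, hs]
        exact (odd_card_units (F := F) m).of_dvd_nat ((orderOf_map_dvd (t m) s).trans (orderOf_dvd_natCard s))
      obtain ⟨k, hk2, hkg⟩ := exists_involution_inverting m hss.2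
      have hkB : k ∉ B m := by
        intro hkB
        have hkU := mem_U_of_two_pow m (i := 1) (by rw [hk2, pow_one]) hkB
        have h1 : k * (g * k⁻¹ * g⁻¹) ∈ U m := (U m).mul_mem hkU
          ((Subgroup.mem_normalizer_iff.mp (B_le_normalizer_U m (hKB hg)) _).mp ((U m).inv_mem hkU))
        rw [← mul_assoc, ← mul_assoc, hkg, ← mul_inv_rev] at h1
        have h3 : orderOf ((g * g)⁻¹) ∣ Nat.card F ^ 2 :=
          card_U (F := F) m ▸ Subgroup.orderOf_dvd_natCard _ h1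
        rw [orderOf_inv, ← pow_two, (Nat.coprime_two_right.mpr hss.2).orderOf_pow, card_nat (F := F) m,
          ← pow_mul] at h3
        exact hg1 (orderOf_eq_one_iff.mp (Nat.eq_one_of_dvd_coprimes
          ((Nat.coprime_two_right.mpr hss.2).pow_right _) dvd_rfl h3))
      refine not_binary_ss m hss ⟨_, hg⟩ (fun v hv => ?_) hbin
      have hv1 := hKB (fixW_le_stabilizer (show g • (c • ω₀) = c • ω₀ from hg) hv)
      have hgk : k⁻¹ * g * k = g⁻¹ := by
        have hkk : k⁻¹ = k := inv_eq_of_mul_eq_one_right (by rw [← pow_two, ← hk2]; exact pow_orderOf_eq_one k)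
        have := hkg
        rw [hkk] at this ⊢
        exact this
      have hgkω : g • (k • (c • ω₀)) = k • (c • ω₀) := by
        rw [← mul_smul, show g * k = k * g⁻¹ by rw [← hgk]; group, mul_smul,
          show g⁻¹ • (c • ω₀) = c • ω₀ from K.inv_mem hg]
      have hv2 : k⁻¹ * v * k ∈ B m := hKB (by
        rw [hK, mem_stabilizer_iff, mul_smul, mul_smul, inv_smul_eq_iff]
        exact fixW_le_stabilizer hgkω hv)
      have hkp : k • oInf m = p := by
        have hgk' : g • (k • oInf m) = k • (oInf m : suzukiOvoid F m) := by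
          rw [← mul_smul, show g * k = k * g⁻¹ by rw [← hgk]; group, mul_smul,
            show g⁻¹ • (oInf m : suzukiOvoid F m) = oInf m from (B m).inv_mem (hKB hg)]
        by_contra hne'
        exact hg1 (eq_one_of_three_fixed m hp.symm (Ne.symm hne') (Ne.symm hkB) (hKB hg) hgp hgk')
      rw [mem_B, mul_smul, mul_smul, hkp, inv_smul_eq_iff, hkp] at hv2
      obtain ⟨s', hs'⟩ := exists_t_of_fixed m (g := j * v * j⁻¹)
        (by rw [mul_smul, mul_smul, inv_smul_eq_iff.mpr hj1.symm, (mem_B m).mp hv1, hj1])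
        (by rw [mul_smul, mul_smul, inv_smul_eq_iff.mpr hj2.symm, hv2, hj2])
      rw [Subgroup.mem_centralizer_singleton_iff]
      have hc' : (j * v * j⁻¹) * (j * g * j⁻¹) = (j * g * j⁻¹) * (j * v * j⁻¹) := by
        rw [hs, hs', ← map_mul, ← map_mul, mul_comm]
      calc v * g = j⁻¹ * ((j * v * j⁻¹) * (j * g * j⁻¹)) * j := by group
        _ = g * v := by rw [hc']; group
    refine ⟨c • ω₀, fun g => ⟨stabilizer_le_U_case m hne hfix hbin hKU hZ g, ?_⟩⟩
    rintro ⟨b, rfl⟩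
    exact hZ b
  · exfalso
    obtain ⟨V, hc, hn, hle⟩ := odd_case m h2 hbot
    have hV : IsCyclicPart m V := ⟨hc, hn⟩
    obtain ⟨x, hx, hx1⟩ : ∃ x ∈ stabilizer (Cfsg.Sz F m) ω₀, x ≠ 1 := by
      by_contra! h
      exact hbot ((Subgroup.eq_bot_iff_forall _).mpr h)
    refine not_binary_ss m ⟨hx1, hV.odd_orderOf (hle hx)⟩ ⟨ω₀, hx⟩ ?_ hbin
    rw [hV.centralizer_eq (hle hx) hx1]
    exact (fixW_le_stabilizer (show x • ω₀ = ω₀ from hx)).trans hle

omit [Finite Ω] in
theorem binary_free [IsPretransitive (Cfsg.Sz F m) Ω] {ω₀ : Ω} (h : stabilizer (Cfsg.Sz F m) ω₀ = ⊥) :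
    IsBinaryAction (Cfsg.Sz F m) Ω := by
  intro n I J hn hp
  have hfree : ∀ (g k : Cfsg.Sz F m) (p : Ω), g • p = k • p → g = k := by
    intro g k p hgk
    obtain ⟨c, rfl⟩ := exists_smul_eq (Cfsg.Sz F m) ω₀ p
    have : c⁻¹ * (k⁻¹ * g) * c ∈ stabilizer (Cfsg.Sz F m) ω₀ := by
      rw [mem_stabilizer_iff, mul_smul, mul_smul, mul_smul, inv_smul_eq_iff, inv_smul_eq_iff]
      exact hgk
    rw [h, Subgroup.mem_bot] at this
    have h1 : k⁻¹ * g = 1 := by
      calc k⁻¹ * g = c * (c⁻¹ * (k⁻¹ * g) * c) * c⁻¹ := by group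
        _ = 1 := by rw [this]; group
    exact (inv_mul_eq_one.mp h1).symm
  obtain ⟨g, hg0, -⟩ := hp ⟨0, by omega⟩ ⟨1, by omega⟩ (by simp)
  refine ⟨g, fun i => ?_⟩
  by_cases hi : i = ⟨0, by omega⟩
  · rw [hi]; exact hg0
  · obtain ⟨k, hk0, hk1⟩ := hp ⟨0, by omega⟩ i (Ne.symm hi)
    rwa [hfree g k _ (hg0.trans hk0.symm)]

omit [Finite Ω] in
theorem binary_center [IsPretransitive (Cfsg.Sz F m) Ω] {ω₀ : Ω}
    (h : ∀ g, g ∈ stabilizer (Cfsg.Sz F m) ω₀ ↔ ∃ b : F, g = u m 0 b) :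
    IsBinaryAction (Cfsg.Sz F m) Ω := by
  -- each point has a centre-conjugate as stabiliser, determined by a point of the ovoid
  have hc : ∀ p : Ω, ∃ c : Cfsg.Sz F m, c • ω₀ = p := fun p => exists_smul_eq _ _ _
  choose c hc using hc
  have hmem : ∀ (p : Ω) (g : Cfsg.Sz F m), g • p = p ↔ ∃ b : F, g = c p * u m 0 b * (c p)⁻¹ := by
    intro p g
    have h1 := h ((c p)⁻¹ * g * c p)
    rw [mem_stabilizer_iff, mul_smul, mul_smul, hc, inv_smul_eq_iff, hc] at h1
    rw [h1]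
    constructor <;> rintro ⟨b, hb⟩
    · exact ⟨b, by rw [← hb]; group⟩
    · exact ⟨b, by rw [hb]; group⟩
  have hsq : ∀ (p : Ω) (g : Cfsg.Sz F m), g • p = p → g * g = 1 := by
    intro p g hg
    obtain ⟨b, rfl⟩ := (hmem p g).mp hg
    rw [show c p * u m 0 b * (c p)⁻¹ * (c p * u m 0 b * (c p)⁻¹) = c p * (u m 0 b * u m 0 b) * (c p)⁻¹ by group,
      u_sq]
    simp
  have hov : ∀ (p : Ω) (g : Cfsg.Sz F m), g • p = p → g • (c p • oInf m) = c p • (oInf m : suzukiOvoid F m) := by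
    intro p g hg
    obtain ⟨b, rfl⟩ := (hmem p g).mp hg
    rw [mul_smul, mul_smul, inv_smul_smul, u_smul_oInf]
  have hsame : ∀ p q : Ω, c p • (oInf m : suzukiOvoid F m) = c q • oInf m →
      ∀ g : Cfsg.Sz F m, g • p = p → g • q = q := by
    intro p q e g hg
    obtain ⟨b, rfl⟩ := (hmem p g).mp hg
    have hB : (c q)⁻¹ * c p ∈ B m := by rw [mem_B, mul_smul, inv_smul_eq_iff]; exact e
    obtain ⟨a, d, s, hs⟩ := exists_u_t_of_fix_oInf m hB
    refine (hmem q _).mpr ⟨(s : F) ^ 2 * th m (s : F) * b, ?_⟩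
    have e1 : u m a d * t m s * u m 0 b * (u m a d * t m s)⁻¹ = u m 0 ((s : F) ^ 2 * th m (s : F) * b) := by
      rw [show u m a d * t m s * u m 0 b * (u m a d * t m s)⁻¹ =
        u m a d * (t m s * u m 0 b * (t m s)⁻¹) * (u m a d)⁻¹ by group, t_u, u_conj]
      simp
    rw [← e1, ← hs]
    group
  intro n I J hn hp
  set i₀ : Fin n := ⟨0, by omega⟩
  have hch : ∀ i : Fin n, ∃ g : Cfsg.Sz F m, g • I i₀ = J i₀ ∧ g • I i = J i := by
    intro i
    by_cases hi : i₀ = i
    · subst hi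
      obtain ⟨g, hg, -⟩ := hp i₀ ⟨1, by omega⟩ (by simp [i₀])
      exact ⟨g, hg, hg⟩
    · exact hp i₀ i hi
  choose g hg0 hgi using hch
  by_cases hall : ∀ i, c (I i) • (oInf m : suzukiOvoid F m) = c (I i₀) • oInf m
  · refine ⟨g i₀, fun i => ?_⟩
    have hd : ((g i)⁻¹ * g i₀) • I i₀ = I i₀ := by rw [mul_smul, hg0 i₀, inv_smul_eq_iff, hg0 i]
    have := hsame _ _ (hall i).symm _ hd
    rwa [mul_smul, inv_smul_eq_iff, hgi i] at this
  push Not at hall
  obtain ⟨i, hi⟩ := hall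
  refine ⟨g i, fun j => ?_⟩
  set d := (g i)⁻¹ * g j with hd
  have hd0 : d • I i₀ = I i₀ := by rw [hd, mul_smul, hg0 j, inv_smul_eq_iff, hg0 i]
  suffices hdj : d • I j = I j by
    rw [hd, mul_smul, hgi j, inv_smul_eq_iff] at hdj
    exact hdj.symm
  by_cases hj : c (I j) • (oInf m : suzukiOvoid F m) = c (I i₀) • oInf m
  · exact hsame _ _ hj.symm _ hd0
  by_cases hji : i = j
  · subst hji
    simp [hd]
  obtain ⟨g', hg'i, hg'j⟩ := hp i j hji
  set e := (g i)⁻¹ * g' with he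
  set f := (g j)⁻¹ * g' with hf
  have he' : e • I i = I i := by rw [he, mul_smul, hg'i, inv_smul_eq_iff, hgi i]
  have hf' : f • I j = I j := by rw [hf, mul_smul, hg'j, inv_smul_eq_iff, hgi j]
  have hdf : e = d * f := by rw [hd, he, hf]; group
  suffices hd1 : d = 1 by rw [hd1, one_smul]
  by_contra hd1
  have hone : ∀ (p q : Ω), c p • (oInf m : suzukiOvoid F m) ≠ c q • oInf m →
      ∀ a b : Cfsg.Sz F m, a • p = p → b • q = q → a ≠ 1 → b ≠ 1 → a * b ≠ b * a := by
    intro p q hpq a b ha hb ha1 hb1 hab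
    have h1 : b • (c p • (oInf m : suzukiOvoid F m)) = c p • oInf m := by
      refine fixed_unique m (hsq p a ha) ha1 ?_ (hov p a ha)
      rw [← mul_smul, hab, mul_smul, hov p a ha]
    exact hpq (fixed_unique m (hsq q b hb) hb1 h1 (hov q b hb))
  have hf1 : f ≠ 1 := by
    intro hf1
    rw [hf1, mul_one] at hdf
    rw [hdf] at he'
    exact hone _ _ hi.symm d d hd0 he' hd1 hd1 rfl
  refine hone _ _ (Ne.symm hj) d f hd0 hf' hd1 hf1 ?_
  have h1 : (d * f) * (d * f) = 1 := hdf ▸ hsq _ e he'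
  calc d * f = d * f * (d * f * (d * f))⁻¹ := by rw [h1, inv_one, mul_one]
    _ = f⁻¹ * d⁻¹ := by group
    _ = f * d := by rw [inv_eq_of_mul_eq_one_right (hsq _ f hf'), inv_eq_of_mul_eq_one_right (hsq _ d hd0)]

/-- The binary actions. -/
theorem binary_iff [IsPretransitive (Cfsg.Sz F m) Ω] (hne : ∀ ω : Ω, stabilizer (Cfsg.Sz F m) ω ≠ ⊤) (ω₀ : Ω) :
    IsBinaryAction (Cfsg.Sz F m) Ω ↔ stabilizer (Cfsg.Sz F m) ω₀ = ⊥ ∨
      ∃ c : Cfsg.Sz F m, ∀ g, g ∈ stabilizer (Cfsg.Sz F m) ω₀ ↔ ∃ b : F, c⁻¹ * g * c = u m 0 b := by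
  constructor
  · intro hb
    by_cases hbot : stabilizer (Cfsg.Sz F m) ω₀ = ⊥
    · exact Or.inl hbot
    obtain ⟨ω, hω⟩ := stabilizer_of_binary m hne hb ω₀ hbot
    obtain ⟨c, rfl⟩ := exists_smul_eq (Cfsg.Sz F m) ω ω₀
    refine Or.inr ⟨c, fun g => ?_⟩
    rw [← hω, mem_stabilizer_iff, mem_stabilizer_iff, mul_smul, mul_smul, inv_smul_eq_iff]
  · rintro (h | ⟨c, hc⟩)
    · exact binary_free m h
    · refine binary_center m (ω₀ := c⁻¹ • ω₀) (fun g => ?_)
      have h1 := hc (c * g * c⁻¹)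
      rw [mem_stabilizer_iff, mul_smul, mul_smul] at h1
      rw [mem_stabilizer_iff, eq_inv_smul_iff, h1]
      simp [mul_assoc]

/-- The centre of a conjugate of the Sylow 2-subgroup, transported by an isomorphism. -/
theorem mem_center_map_iff {L : Type*} [Group L] (f : Cfsg.Sz F m ≃* L) (P : Subgroup L) (c : Cfsg.Sz F m)
    (hP : ∀ x, f x ∈ P ↔ c⁻¹ * x * c ∈ U m) (g : Cfsg.Sz F m) :
    f g ∈ (Subgroup.center P).map P.subtype ↔ ∃ b : F, c⁻¹ * g * c = u m 0 b := by
  constructor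
  · rintro ⟨⟨y, hy⟩, hz, hyg⟩
    have hyg' : y = f g := hyg
    have hgU := (hP g).mp (hyg' ▸ hy)
    have hz' : (⟨_, hgU⟩ : (U m : Subgroup (Cfsg.Sz F m))) ∈ Subgroup.center _ := by
      rw [Subgroup.mem_center_iff]
      rintro ⟨v, hv⟩
      apply Subtype.ext
      have h1 := congrArg Subtype.val (Subgroup.mem_center_iff.mp hz
        ⟨f (c * v * c⁻¹), (hP _).mpr (by simpa [mul_assoc] using hv)⟩)
      change f (c * v * c⁻¹) * y = y * f (c * v * c⁻¹) at h1
      rw [hyg', ← map_mul, ← map_mul] at h1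
      have h2 := f.injective h1
      show v * (c⁻¹ * g * c) = c⁻¹ * g * c * v
      calc v * (c⁻¹ * g * c) = c⁻¹ * (c * v * c⁻¹ * g) * c := by group
        _ = _ := by rw [h2]; group
    exact (mem_center_U m).mp hz'
  · rintro ⟨b, hb⟩
    refine ⟨⟨f g, (hP g).mpr (hb ▸ u_mem_U m 0 b)⟩, ?_, rfl⟩
    rw [SetLike.mem_coe, Subgroup.mem_center_iff]
    rintro ⟨y, hy⟩
    obtain ⟨v, rfl⟩ := f.surjective y
    obtain ⟨p, q, hpq⟩ := (mem_U m).mp ((hP v).mp hy)
    apply Subtype.ext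
    show f v * f g = f g * f v
    rw [← map_mul, ← map_mul]
    congr 1
    have e : c⁻¹ * v * c * (c⁻¹ * g * c) = c⁻¹ * g * c * (c⁻¹ * v * c) := by
      rw [hb, hpq, u_mul, u_mul]
      simp [add_comm]
    calc v * g = c * (c⁻¹ * v * c * (c⁻¹ * g * c)) * c⁻¹ := by group
      _ = g * v := by rw [e]; group

end Cfsg.Agent.Suzuki
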