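import Cfsg.Agent.Suzuki.Simple

/-!
A faithful complex representation of the Suzuki group has degree at least `2^m (q - 1)`.
-/

set_option autoImplicit false

open Cfsg MulAction

namespace Cfsg.Agent.Suzuki

variable {F : Type*} [Field F] [Fintype F] (m : ℕ) [SzField F m]

theorem exists_linearMap_th :
    ∃ L : F →+ ZMod 2, (∀ x, L (th m x) = L x) ∧ ∀ a, a ≠ 0 → ∃ b, L (a * b) ≠ 0 := by
  have : CharP F 2 := charTwo m
  have : Fact (Nat.Prime 2) := ⟨Nat.prime_two⟩
  have hc : ringChar F = 2 := ringChar.eq F 2
  let _ : Algebra (ZMod 2) F := ZMod.algebra F 2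
  refine ⟨(Algebra.trace (ZMod 2) F).toAddMonoidHom, fun x => ?_, fun a ha => ?_⟩
  · show Algebra.trace (ZMod 2) F _ = Algebra.trace (ZMod 2) F x
    exact Algebra.trace_eq_of_algEquiv (AlgEquiv.ofRingEquiv
      (f := RingEquiv.ofBijective (thHom (F := F) m) (th_bijective m)) (fun c => RingHom.congr_fun
        (Subsingleton.elim ((thHom (F := F) m).comp (algebraMap (ZMod 2) F)) (algebraMap (ZMod 2) F)) c)) x
  · have htr := (traceForm_nondegenerate (ZMod 2) F).1 a
    simp_rw [Algebra.traceForm_apply] at htr
    by_contra! hf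
    exact ha (htr hf)

/-- A sign character of the additive group of the field, invariant under θ, with no kernel ideal. -/
theorem exists_sign_char (K : Type*) [Field K] [CharZero K] :
    ∃ ψ : F → K, (∀ x y, ψ (x + y) = ψ x * ψ y) ∧ (∀ x, ψ x = 1 ∨ ψ x = -1) ∧
      (∀ x, ψ (th m x) = ψ x) ∧ ∀ a, a ≠ 0 → ∃ b, ψ (b * a) = -1 := by
  obtain ⟨L, hL, hnd⟩ := exists_linearMap_th (F := F) m
  refine ⟨fun x => if L x = 0 then 1 else -1, fun x y => ?_, fun x => ?_, fun x => ?_, fun a ha => ?_⟩
  · have : ∀ a b : ZMod 2, (if a + b = 0 then (1 : K) else -1) =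
        (if a = 0 then 1 else -1) * (if b = 0 then 1 else -1) := by
      intro a b
      have h01 : ∀ z : ZMod 2, z = 0 ∨ z = 1 := by decide
      have h11 : (1 : ZMod 2) + 1 = 0 := by decide
      rcases h01 a with rfl | rfl <;> rcases h01 b with rfl | rfl <;> simp [h11]
    simp only [map_add]
    exact this _ _
  · dsimp only
    split_ifs <;> simp
  · simp only [hL]
  · obtain ⟨b, hb⟩ := hnd a ha
    exact ⟨b, by rw [mul_comm] at hb; simp [hb]⟩

set_option maxHeartbeats 300000 in
theorem degree_bound {K : Type*} [Field K] [CharZero K] {k : ℕ}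
    (ρ : Cfsg.Sz F m →* Module.End K (Fin k → K))
    (hinj : Function.Injective ρ) : 2 ^ m * (2 ^ (2 * m + 1) - 1) ≤ k := by
  classical
  obtain ⟨ψ, hψadd, hψval, hψth, hψnd⟩ := exists_sign_char (F := F) m K
  have hψ0 : ψ 0 = 1 := by
    rcases hψval 0 with h | h
    · exact h
    · have := hψadd 0 0
      rw [add_zero, h] at this
      norm_num at this
  have hψsq : ∀ x, ψ x * ψ x = 1 := fun x => by rw [← hψadd, add_self m x, hψ0]
  have hne : ∀ x, ψ x ≠ 0 := fun x h => by simpa [h] using hψsq x
  have hsum : ∀ a : F, ∑ b : F, ψ (b * a) = if a = 0 then (Fintype.card F : K) else 0 := by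
    intro a
    split_ifs with ha
    · simp [ha, hψ0]
    · obtain ⟨b₀, hb₀⟩ := hψnd a ha
      have h := (Equiv.sum_comp (Equiv.addRight b₀) (fun b => ψ (b * a))).symm
      simp only [Equiv.coe_addRight, add_mul, hψadd, hb₀, mul_neg, mul_one, Finset.sum_neg_distrib] at h
      linear_combination h / 2
  have hq : (Fintype.card F : K) ≠ 0 := by simp [Fintype.card_ne_zero]
  let Z : F → Module.End K (Fin k → K) := fun b => ρ (u m 0 b)
  have hZadd : ∀ b c, Z (b + c) = Z b * Z c := fun b c => by
    show ρ _ = ρ _ * ρ _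
    rw [← map_mul, u_mul]; simp
  -- projection on the eigenspace of the character b ↦ ψ (b * r)
  let Pr : F → Module.End K (Fin k → K) := fun r => ∑ b : F, ψ (b * r) • Z b
  have hPZ : ∀ r c, Z c * Pr r = ψ (c * r) • Pr r := by
    intro r c
    simp only [Pr, Finset.mul_sum, mul_smul_comm, ← hZadd, Finset.smul_sum, smul_smul]
    rw [← Equiv.sum_comp (Equiv.addLeft c)]
    refine Finset.sum_congr rfl (fun b _ => ?_)
    simp only [Equiv.coe_addLeft]
    rw [← hψadd, show c + (c + b) = b by rw [← add_assoc, add_self m c, zero_add],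
      show c * r + b * r = (c + b) * r by ring]
  have hPP : ∀ r s, Pr r * Pr s = if r = s then (Fintype.card F : K) • Pr s else 0 := by
    intro r s
    calc Pr r * Pr s = ∑ c : F, (ψ (c * r) * ψ (c * s)) • Pr s := by
          show (∑ c : F, ψ (c * r) • Z c) * Pr s = _
          rw [Finset.sum_mul]
          exact Finset.sum_congr rfl (fun c _ => by rw [smul_mul_assoc, hPZ, smul_smul])
      _ = (∑ c : F, ψ (c * (r + s))) • Pr s := by
          rw [Finset.sum_smul]
          exact Finset.sum_congr rfl (fun c _ => by rw [mul_add, hψadd])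
      _ = _ := by
          rw [hsum]
          by_cases h : r = s
          · subst h; rw [if_pos (add_self m r), if_pos rfl]
          · rw [if_neg (fun h' => h (eq_of_add_eq_zero m h')), if_neg h, zero_smul]
  have hPr1 : ∃ r, r ≠ 0 ∧ Pr r ≠ 0 := by
    by_contra! h
    have htot : ∑ r : F, Pr r = (Fintype.card F : K) • (1 : Module.End K (Fin k → K)) := by
      simp only [Pr]
      rw [Finset.sum_comm]
      simp only [← Finset.sum_smul]
      rw [Finset.sum_eq_single (0 : F)]
      · simp [Z, hψ0]
      · intro b _ hb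
        have : ∑ r : F, ψ (b * r) = 0 := by
          simp only [mul_comm b]
          rw [hsum, if_neg hb]
        rw [this, zero_smul]
      · simp
    rw [Finset.sum_eq_single (0 : F) (fun r _ hr => h r hr) (by simp)] at htot
    have h1 := hPZ 0 1
    rw [htot, mul_smul_comm, mul_one, one_mul, hψ0, one_smul] at h1
    have h2 : Z 1 = 1 := smul_right_injective _ hq h1
    have h3 := hinj (h2.trans ρ.map_one.symm)
    exact one_ne_zero ((u_eq_one m).mp h3).2
  -- the torus permutes the projections
  have hT : ∀ (s : Fˣ) (r : F), ρ (t m s) * Pr ((s : F) ^ 2 * th m (s : F) * r) = Pr r * ρ (t m s) := by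
    intro s r
    simp only [Pr, Finset.mul_sum, Finset.sum_mul, mul_smul_comm, smul_mul_assoc, Z, ← map_mul]
    have hs0 : (s : F) ^ 2 * th m (s : F) ≠ 0 := mul_ne_zero (pow_ne_zero _ s.ne_zero) (by simp)
    refine (Finset.sum_congr rfl (fun b _ => ?_)).trans
      (Equiv.sum_comp (Equiv.mulLeft₀ _ hs0) (fun b => ψ (b * r) • ρ (u m 0 b * t m s)))
    simp only [Equiv.mulLeft₀_apply]
    congr 1
    · ring_nf
    · congr 1
      have h := t_u m s 0 b
      rw [mul_inv_eq_iff_eq_mul] at h
      simpa using h
  have hPr : Pr 1 ≠ 0 := by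
    obtain ⟨r, hr, hPr⟩ := hPr1
    obtain ⟨s, hs⟩ := (sq_mul_th_bijective (F := F) m).2 r
    dsimp only at hs
    have hs0 : s ≠ 0 := by rintro rfl; simp at hs; exact hr hs.symm
    intro h1
    have h := hT (Units.mk0 s hs0) 1
    rw [h1, zero_mul, Units.val_mk0, mul_one, hs] at h
    apply hPr
    have h2 := congrArg (fun X => ρ (t m (Units.mk0 s hs0))⁻¹ * X) h
    simpa [← mul_assoc, ← map_mul] using h2
  obtain ⟨W, hW⟩ : ∃ W : Submodule K (Fin k → K), ∀ x, x ∈ W ↔ ∃ y, Pr 1 y = x :=
    ⟨LinearMap.range (Pr 1), fun x => Iff.rfl⟩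
  set d := Module.finrank K W with hd
  -- q - 1 independent copies of W
  have hcopies : (Fintype.card F - 1) * d ≤ k := by
    let Φ : (Fˣ → W) →ₗ[K] (Fin k → K) :=
      ∑ s : Fˣ, (ρ (t m s)) ∘ₗ W.subtype ∘ₗ (LinearMap.proj s)
    have hΦ : Function.Injective Φ := by
      rw [← LinearMap.ker_eq_bot, LinearMap.ker_eq_bot']
      intro f hf
      funext s₀
      have hs₀ : (s₀ : F) ^ 2 * th m (s₀ : F) ≠ 0 :=
        mul_ne_zero (pow_ne_zero _ s₀.ne_zero) (by simp)
      set r₀ := ((s₀ : F) ^ 2 * th m (s₀ : F))⁻¹ with hr₀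
      have h := congrArg (Pr r₀) hf
      rw [map_zero] at h
      simp only [Φ, LinearMap.sum_apply, map_sum, LinearMap.comp_apply, LinearMap.proj_apply,
        Submodule.coe_subtype] at h
      have e : ∀ s, Pr r₀ (ρ (t m s) (f s : Fin k → K)) =
          if s = s₀ then (Fintype.card F : K) • ρ (t m s) (f s : Fin k → K) else 0 := by
        intro s
        obtain ⟨x, hx⟩ := (hW _).mp (f s).2
        rw [← hx, ← Module.End.mul_apply, ← hT s r₀, Module.End.mul_apply,
          ← Module.End.mul_apply (Pr _) (Pr 1), hPP]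
        by_cases hs : s = s₀
        · subst hs
          rw [if_pos (mul_inv_cancel₀ hs₀), if_pos rfl, LinearMap.smul_apply, map_smul]
        · rw [if_neg, if_neg hs, LinearMap.zero_apply, map_zero]
          intro h'
          apply hs
          refine Units.ext (sq_mul_th_injective m ?_)
          have := eq_inv_of_mul_eq_one_left h'
          rw [hr₀, inv_inv] at this
          exact this
      rw [Finset.sum_eq_single s₀ (fun s _ hs => by rw [e s, if_neg hs]) (by simp), e s₀, if_pos rfl]
        at h
      have h2 := congrArg (ρ (t m s₀)⁻¹) ((smul_eq_zero.mp h).resolve_left hq)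
      rw [← Module.End.mul_apply, ← map_mul, inv_mul_cancel, map_one, Module.End.one_apply,
        map_zero] at h2
      exact Subtype.ext h2
    have h := LinearMap.finrank_le_finrank_of_injective hΦ
    rw [Module.finrank_pi_fintype, Finset.sum_const, Finset.card_univ, Fintype.card_units,
      Module.finrank_fin_fun, smul_eq_mul] at h
    exact h
  -- the operators of U on W
  have hcomm : ∀ a, Pr 1 * ρ (u m a 0) = ρ (u m a 0) * Pr 1 := by
    intro a
    simp only [Pr, Finset.mul_sum, Finset.sum_mul, mul_smul_comm, smul_mul_assoc, Z, ← map_mul, u_mul]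
    refine Finset.sum_congr rfl (fun b _ => ?_)
    simp
  have hWmem : ∀ a, ∀ x ∈ W, ρ (u m a 0) x ∈ W := by
    intro a x hx
    obtain ⟨y, rfl⟩ := (hW x).mp hx
    refine (hW _).mpr ⟨ρ (u m a 0) y, by rw [← Module.End.mul_apply, hcomm, Module.End.mul_apply]⟩
  let Y : F → Module.End K W := fun a => (ρ (u m a 0)).restrict (hWmem a)
  have hYZ : ∀ c (x : W), Z c x.1 = ψ c • x.1 := by
    intro c x
    obtain ⟨y, hy⟩ := (hW _).mp x.2
    rw [← hy, ← Module.End.mul_apply, hPZ, mul_one, LinearMap.smul_apply]
  let ω : F → F → K := fun c a => ψ (th m c * a + th m a * c)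
  have hswap : ∀ c a, Y c * Y a = ω c a • (Y a * Y c) := by
    intro c a
    refine LinearMap.ext fun x => Subtype.ext ?_
    show ρ (u m c 0) (ρ (u m a 0) x.1) = ω c a • ρ (u m a 0) (ρ (u m c 0) x.1)
    have e : u m c 0 * u m a 0 = u m a 0 * u m c 0 * u m 0 (th m c * a + th m a * c) := by
      rw [u_mul, u_mul, u_mul, u_inj]
      refine ⟨by ring, ?_⟩
      simp only [mul_zero, add_zero, zero_add]
      linear_combination -(th m a * c) * two_eq_zero (F := F) m
    rw [← Module.End.mul_apply, ← map_mul, e, map_mul, Module.End.mul_apply, map_mul,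
      Module.End.mul_apply]
    show ρ (u m a 0) (ρ (u m c 0) (Z _ x.1)) = _
    rw [hYZ, map_smul, map_smul]
  -- radical
  have hrad : ∀ a, (∀ c, ω c a = 1) → a = 0 ∨ a = 1 := by
    intro a ha
    obtain ⟨a', ha'⟩ := (th_bijective (F := F) m).2 a
    have key : ∀ c, ψ (c * (a' + th m a)) = 1 := by
      intro c
      rw [mul_add, hψadd, ← hψth (c * a'), th_mul, ha', ← hψadd, mul_comm c]
      exact ha c
    by_cases h0 : a' + th m a = 0
    · have h1 := eq_of_add_eq_zero m h0
      rw [h1, th_th] at ha'
      rcases mul_eq_zero.mp (show a * (a - 1) = 0 by linear_combination ha') with h | h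
      · exact Or.inl h
      · exact Or.inr (sub_eq_zero.mp h)
    · obtain ⟨b, hb⟩ := hψnd _ h0
      rw [key b] at hb
      norm_num at hb
  have hωadd : ∀ c a a', ω c (a + a') = ω c a * ω c a' := by
    intro c a a'
    simp only [ω, ← hψadd, th_add]
    congr 1
    ring
  let χ : F → (F → K) := fun a c => ω c a
  set S := Finset.univ.image χ with hS
  have hScard : Fintype.card F ≤ 2 * S.card := by
    rw [← Finset.card_univ]
    refine Finset.card_le_mul_card_image Finset.univ 2 (fun f hf => ?_)
    obtain ⟨a, -, rfl⟩ := Finset.mem_image.mp hf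
    refine le_trans (Finset.card_le_card (t := ({a, a + 1} : Finset F)) (fun a' ha' => ?_))
      Finset.card_le_two
    simp only [Finset.mem_filter, Finset.mem_univ, true_and] at ha'
    have h1 : ∀ c, ω c (a + a') = 1 := fun c => by
      have := congrFun ha' c
      simp only [χ] at this
      rw [hωadd, this]
      exact hψsq _
    simp only [Finset.mem_insert, Finset.mem_singleton]
    rcases hrad _ h1 with h | h
    · exact Or.inl (eq_of_add_eq_zero m h).symm
    · right
      linear_combination h - a * two_eq_zero (F := F) m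
  choose rep hrep using fun f : S => Finset.mem_image.mp f.2
  have hWne : ∃ x : W, x ≠ 0 := by
    by_contra! h
    refine hPr (LinearMap.ext fun y => ?_)
    have := congrArg Subtype.val (h ⟨Pr 1 y, (hW _).mpr ⟨y, rfl⟩⟩)
    simpa using this
  have hYne : ∀ a, Y a ≠ 0 := by
    intro a h
    obtain ⟨x, hx⟩ := hWne
    apply hx
    have h1 : ρ (u m a 0) x.1 = 0 := congrArg Subtype.val (LinearMap.congr_fun h x)
    have h2 := congrArg (ρ (u m a 0)⁻¹) h1
    rw [← Module.End.mul_apply, ← map_mul, inv_mul_cancel, map_one, Module.End.one_apply, map_zero] at h2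
    exact Subtype.ext h2
  have hYinv : ∀ c (X : Module.End K W), Y c * X = 0 → X = 0 := by
    intro c X h
    refine LinearMap.ext fun x => Subtype.ext ?_
    have h1 : ρ (u m c 0) (X x).1 = 0 := congrArg Subtype.val (LinearMap.congr_fun h x)
    have h2 := congrArg (ρ (u m c 0)⁻¹) h1
    rw [← Module.End.mul_apply, ← map_mul, inv_mul_cancel, map_one, Module.End.one_apply, map_zero] at h2
    exact h2
  have hχinj : ∀ i j : S, i ≠ j → ∃ c, ω c (rep i) ≠ ω c (rep j) := by
    intro i j hij
    by_contra! h
    apply hij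
    apply Subtype.ext
    rw [← (hrep i).2, ← (hrep j).2]
    exact funext h
  have hLI : LinearIndependent K (fun f : S => Y (rep f)) := by
    have main : ∀ (T : Finset S) (g : S → K), (∑ i ∈ T, g i • Y (rep i)) = 0 → ∀ i ∈ T, g i = 0 := by
      intro T
      induction T using Finset.induction_on with
      | empty => simp
      | insert j T hj ih =>
        intro g hg
        rw [Finset.sum_insert hj] at hg
        have hT' : ∀ i ∈ T, g i = 0 := by
          intro i hi
          obtain ⟨c, hc⟩ := hχinj i j (fun h => hj (h ▸ hi))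
          have e1 := congrArg (fun X => Y c * X) hg
          have e2 := congrArg (fun X => (ω c (rep j) • (X * Y c))) hg
          simp only [mul_add, mul_smul_comm, Finset.mul_sum, hswap c, mul_zero, smul_smul] at e1
          simp only [add_mul, smul_mul_assoc, Finset.sum_mul, zero_mul, smul_add, smul_smul,
            Finset.smul_sum, smul_zero] at e2
          have e3 : (∑ x ∈ T, (g x * (ω c (rep x) - ω c (rep j))) • (Y (rep x) * Y c)) = 0 := by
            have e4 := e1.trans e2.symm
            rw [mul_comm (g j)] at e4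
            refine LinearMap.ext fun z => ?_
            have e4z := LinearMap.congr_fun e4 z
            simp only [LinearMap.add_apply, LinearMap.sum_apply, LinearMap.smul_apply] at e4z
            simp only [LinearMap.sum_apply, LinearMap.smul_apply, LinearMap.zero_apply, mul_sub, sub_smul,
              Finset.sum_sub_distrib, add_left_cancel e4z, sub_eq_zero]
            exact Finset.sum_congr rfl (fun x _ => by rw [mul_comm (g x)])
          have e5 : (∑ x ∈ T, (g x * (ω c (rep x) - ω c (rep j))) • Y (rep x)) * Y c = 0 := by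
            rw [Finset.sum_mul]
            simpa only [smul_mul_assoc] using e3
          have e6 : (∑ x ∈ T, (g x * (ω c (rep x) - ω c (rep j))) • Y (rep x)) = 0 := by
            have hinvc : Y c * (Y c * (Y c * Y c)) = 1 := by
              refine LinearMap.ext fun x => Subtype.ext ?_
              show ρ (u m c 0) (ρ (u m c 0) (ρ (u m c 0) (ρ (u m c 0) x.1))) = x.1
              rw [← Module.End.mul_apply, ← map_mul, u_sq, ← Module.End.mul_apply, ← map_mul,
                ← Module.End.mul_apply, ← map_mul, mul_assoc, u_sq, u_mul]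
              simp [add_self (F := F) m]
            have e7 := congrArg (fun X => X * (Y c * (Y c * Y c))) e5
            simpa only [mul_assoc, hinvc, mul_one, zero_mul] using e7
          have h := ih _ e6 i hi
          exact (mul_eq_zero.mp h).resolve_right (sub_ne_zero.mpr hc)
        intro i hi
        rcases Finset.mem_insert.mp hi with rfl | hi
        · rw [Finset.sum_eq_zero (fun x hx => by rw [hT' x hx, zero_smul]), add_zero, smul_eq_zero] at hg
          exact hg.resolve_right (hYne _)
        · exact hT' i hi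
    refine (linearIndependent_iff' (R := K) (M := Module.End K W)).mpr ?_
    intro T g hg
    exact main T g hg
  have hd2 := hLI.fintype_card_le_finrank
  rw [Module.finrank_linearMap, Fintype.card_coe, ← hd] at hd2
  have hqm : Fintype.card F = 2 ^ (2 * m + 1) := SzField.card_eq
  have hdm : 2 ^ m ≤ d := by
    by_contra hlt
    push Not at hlt
    have h1 : 2 ^ (2 * m + 1) = 2 * (2 ^ m * 2 ^ m) := by ring
    nlinarith
  calc 2 ^ m * (2 ^ (2 * m + 1) - 1) ≤ d * (2 ^ (2 * m + 1) - 1) := Nat.mul_le_mul_right _ hdm
    _ ≤ k := by rw [← hqm, mul_comm]; exact hcopies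

end Cfsg.Agent.Suzuki
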