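import Cfsg.Agent.Suzuki.Solubilizer
import Cfsg.Agent.Suzuki.MinDegree

/-!
The trace separates the classes of semisimple elements; squares of conjugacy classes of the Suzuki group.
-/

set_option autoImplicit false

open Cfsg MulAction
open scoped Pointwise

namespace Cfsg.Agent.Suzuki

variable {F : Type*} [Field F] [Fintype F] (m : ℕ) [SzField F m]

/-- The trace functional, together with the facts we need. -/
structure IsTrace (L : F →+ ZMod 2) : Prop where
  th_eq : ∀ x, L (th m x) = L x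
  nondeg : ∀ a, a ≠ 0 → ∃ b, L (a * b) ≠ 0
  one : L 1 = 1
  solve : ∀ k, L k = 0 → ∃ r, L r = 0 ∧ r + th m r = k ∧ ∃ z, th m z + z = r

theorem zmod_two_cases (z : ZMod 2) : z = 0 ∨ z = 1 := by
  revert z; decide

theorem exists_trace : ∃ L : F →+ ZMod 2, IsTrace m L := by
  obtain ⟨L, hL, hnd⟩ := exists_linearMap_th (F := F) m
  let f : F →+ F :=
    { toFun := fun z => z + th m z
      map_zero' := by simp
      map_add' := fun y z => by rw [th_add]; ring }
  have hrange : f.range ≤ L.ker := by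
    rintro _ ⟨z, rfl⟩
    show L (z + th m z) = 0
    rw [map_add, hL]
    rcases zmod_two_cases (L z) with h | h <;> rw [h] <;> decide
  have hidx : f.range.index = 2 := by
    have hker : Nat.card f.ker = 2 := by
      rw [Nat.card_eq_two_iff]
      have m1 : (1 : F) ∈ f.ker := by show (1 : F) + th m 1 = 0; rw [th_one]; exact add_self m 1
      refine ⟨0, ⟨1, m1⟩, fun e => zero_ne_one (congrArg Subtype.val e), ?_⟩
      rw [Set.eq_univ_iff_forall]
      rintro ⟨z, hz⟩
      rcases th_eq_self m (eq_of_add_eq_zero m (show z + th m z = 0 from hz)).symm with h | h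
      · exact Or.inl (Subtype.ext h)
      · exact Or.inr (Subtype.ext h)
    have h1 := f.ker.card_mul_index
    rw [AddSubgroup.index_ker] at h1
    have h2 := f.range.card_mul_index
    rw [← h1, hker, mul_comm 2] at h2
    exact Nat.eq_of_mul_eq_mul_left Nat.card_pos h2
  have hone : (1 : F) ∉ f.range := fun ⟨z, hz⟩ =>
    not_mem_range_one m ⟨z, (add_comm _ _).trans hz⟩
  have hker : ∀ k, L k = 0 → k ∈ f.range := by
    intro k hk
    by_contra hkr
    obtain ⟨b, hb⟩ := hnd 1 one_ne_zero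
    rw [one_mul] at hb
    have hbr : b ∉ f.range := fun e => hb (AddMonoidHom.mem_ker.mp (hrange e))
    have hmem := (AddSubgroup.add_mem_iff_of_index_two hidx (a := k) (b := b)).mpr (iff_of_false hkr hbr)
    have := AddMonoidHom.mem_ker.mp (hrange hmem)
    rw [map_add, hk, zero_add] at this
    exact hb this
  have h1 : L 1 = 1 := (zmod_two_cases (L 1)).resolve_left (fun e => hone (hker 1 e))
  refine ⟨L, hL, hnd, h1, fun k hk => ?_⟩
  obtain ⟨r, hr⟩ := hker k hk
  have hr' : r + th m r = k := hr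
  rcases zmod_two_cases (L r) with e | e
  · obtain ⟨z, hz⟩ := hker r e
    exact ⟨r, e, hr', z, (add_comm _ _).trans hz⟩
  · have e1 : L (r + 1) = 0 := by rw [map_add, e, h1]; decide
    obtain ⟨z, hz⟩ := hker (r + 1) e1
    refine ⟨r + 1, e1, ?_, z, (add_comm _ _).trans hz⟩
    rw [th_add, th_one, ← hr']
    linear_combination two_eq_zero (F := F) m

variable {L : F →+ ZMod 2}

theorem IsTrace.exists_quad (hL : IsTrace m L) {c : F} (hc : c ≠ 0) :
    ∃ s : F, s ≠ 0 ∧ L (c * (s * th m s)) + L s = 1 := by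
  by_contra! h
  have h2 : ∀ a b : ZMod 2, a + b ≠ 1 → a = b := by decide
  have hall : ∀ s, L (c * (s * th m s)) = L s := by
    intro s
    by_cases hs : s = 0
    · simp [hs]
    · exact h2 _ _ (h s hs)
  have hbil : ∀ s v, L (c * (s * th m v)) + L (c * (v * th m s)) = 0 := by
    intro s v
    have e := hall (s + v)
    rw [map_add L s v, ← hall s, ← hall v, th_add,
      show c * ((s + v) * (th m s + th m v)) = c * (s * th m s) + c * (v * th m v) +
        (c * (s * th m v) + c * (v * th m s)) by ring, map_add, map_add, map_add] at e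
    linear_combination e
  have hzero : ∀ s, c * s + th m c * s ^ 2 = 0 := by
    intro s
    by_contra hne
    obtain ⟨b, hb⟩ := hL.nondeg _ hne
    obtain ⟨v, hv⟩ := (th_bijective (F := F) m).2 b
    have e := hbil s v
    rw [← hL.th_eq (c * (v * th m s)), th_mul, th_mul, th_th, ← map_add] at e
    refine hb ?_
    rw [← hv]
    refine Eq.trans (congrArg L ?_) e
    ring
  obtain ⟨x, hx0, hx1⟩ := exists_ne_zero_one (F := F) m
  have e1 := hzero 1
  simp only [mul_one, one_pow] at e1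
  have e2 := hzero x
  rw [← eq_of_add_eq_zero m e1] at e2
  have e3 : (c * x) * (x - (-1)) = 0 := by linear_combination e2
  rcases mul_eq_zero.mp e3 with h | h
  · exact mul_ne_zero hc hx0 h
  · rw [sub_eq_zero, neg_eq m] at h
    exact hx1 h

theorem IsTrace.exists_mul_one (hL : IsTrace m L) {A : F} (h0 : A ≠ 0) (h1 : A ≠ 1) :
    ∃ r, L r = 0 ∧ L (A * r) = 1 := by
  by_contra! h
  have hz : ∀ r, L r = 0 → L (A * r) = 0 := fun r hr => (zmod_two_cases _).resolve_right (h r hr)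
  rcases zmod_two_cases (L A) with e | e
  · obtain ⟨b, hb⟩ := hL.nondeg A h0
    refine hb ?_
    rcases zmod_two_cases (L b) with e' | e'
    · exact hz b e'
    · have := hz (b + 1) (by rw [map_add, e', hL.one]; decide)
      rw [mul_add, mul_one, map_add, e, add_zero] at this
      exact this
  · obtain ⟨b, hb⟩ := hL.nondeg (A + 1) (fun e' => h1 (eq_of_add_eq_zero m e'))
    refine hb ?_
    rw [add_mul, one_mul, map_add]
    rcases zmod_two_cases (L b) with e' | e'
    · rw [hz b e', e', add_zero]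
    · have := hz (b + 1) (by rw [map_add, e', hL.one]; decide)
      rw [mul_add, mul_one, map_add, e] at this
      rw [e']
      exact this

/-- The trace of an element. -/
def tra (g : Cfsg.Sz F m) : F := Matrix.trace (g.1 : Matrix (Fin 4) (Fin 4) F)

omit [Fintype F] [SzField F m] in
theorem tra_mul_comm (g h : Cfsg.Sz F m) : tra m (g * h) = tra m (h * g) := by
  show Matrix.trace ((g.1 : Matrix (Fin 4) (Fin 4) F) * (h.1 : Matrix (Fin 4) (Fin 4) F)) =
    Matrix.trace ((h.1 : Matrix (Fin 4) (Fin 4) F) * (g.1 : Matrix (Fin 4) (Fin 4) F))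
  exact Matrix.trace_mul_comm _ _

omit [Fintype F] [SzField F m] in
theorem tra_conj {g h : Cfsg.Sz F m} (e : IsConj g h) : tra m h = tra m g := by
  obtain ⟨c, rfl⟩ := isConj_iff.mp e
  rw [tra_mul_comm, ← mul_assoc, inv_mul_cancel, one_mul]

theorem tra_u (a b : F) : tra m (u m a b) = 0 := by
  show Matrix.trace (uMat m a b) = 0
  simp [Matrix.trace, uMat, Fin.sum_univ_four]
  linear_combination 2 * two_eq_zero (F := F) m

theorem tra_twu (s : Fˣ) (a b : F) :
    tra m (t m s * w m * u m a b) =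
      (s : F)⁻¹ * th m a + ((s : F) * th m (s : F))⁻¹ * ovf m a b := by
  show Matrix.trace (tMat m s * (wSL : Matrix.SpecialLinearGroup (Fin 4) F).1 * uMat m a b) = _
  simp [Matrix.trace, tMat, uMat, coe_wSL, Matrix.mul_apply, Fin.sum_univ_four, Matrix.vecMul,
    dotProduct, Matrix.vecHead, Matrix.vecTail]

theorem tra_u_low (a b : F) :
    tra m (u m a b * (w m * u m 0 1 * w m)) = b + (b + a * th m a) + ovf m a b := by
  show Matrix.trace (uMat m a b * ((wSL : Matrix.SpecialLinearGroup (Fin 4) F).1 * uMat m 0 1 *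
    (wSL : Matrix.SpecialLinearGroup (Fin 4) F).1)) = _
  simp [Matrix.trace, uMat, ovf, coe_wSL, Matrix.mul_apply, Fin.sum_univ_four, Matrix.vecMul,
    dotProduct, Matrix.vecHead, Matrix.vecTail]
  linear_combination (norm := char_two_ring (m)) 0

theorem tra_two_power {g : Cfsg.Sz F m} {i : ℕ} (hg : orderOf g = 2 ^ i) : tra m g = 0 := by
  by_cases h1 : g = 1
  · rw [h1, ← u_zero m, tra_u]
  obtain ⟨c, hc⟩ := exists_conj_mem_U m hg h1
  obtain ⟨a, b, hab⟩ := (mem_U m).mp hc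
  rw [← tra_conj m (isConj_iff.mpr ⟨c, rfl⟩), hab, tra_u]

/-- Semisimple nontrivial elements. -/
def IsSS (g : Cfsg.Sz F m) : Prop := g ≠ 1 ∧ Odd (orderOf g)

theorem dichotomy (g : Cfsg.Sz F m) : (∃ i, orderOf g = 2 ^ i) ∨ IsSS m g := by
  rcases exists_cyclic_part m (g := g) with h | ⟨V, -, hc, hn, hg⟩
  · exact Or.inl h
  · by_cases h1 : g = 1
    · exact Or.inl ⟨0, by rw [h1, orderOf_one, pow_zero]⟩
    · exact Or.inr ⟨h1, (show IsCyclicPart m V from ⟨hc, hn⟩).odd_orderOf hg⟩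

theorem IsSS.conj {g h : Cfsg.Sz F m} (hg : IsSS m g) (e : IsConj g h) : IsSS m h := by
  obtain ⟨c, rfl⟩ := isConj_iff.mp e
  exact ⟨by rw [ne_eq, conj_eq_one_iff]; exact hg.1, by rw [← MulAut.conj_apply, MulEquiv.orderOf_eq]; exact hg.2⟩

theorem isSS_of_tra_ne {g : Cfsg.Sz F m} (h : tra m g ≠ 0) : IsSS m g :=
  (dichotomy m g).resolve_left fun ⟨_, hi⟩ => h (tra_two_power m hi)

theorem exists_tra (c : F) : ∃ g : Cfsg.Sz F m, tra m g = c := by
  obtain ⟨z, hz⟩ := (th_bijective (F := F) m).2 c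
  refine ⟨t m 1 * w m * u m 0 z, ?_⟩
  rw [tra_twu]
  simp [ovf, hz]

theorem mul_card_classes_le {V : Subgroup (Cfsg.Sz F m)} (hV : IsCyclicPart m V) :
    normIndex m (Nat.card V) *
      Nat.card (ConjClasses.mk '' ((V : Set (Cfsg.Sz F m)) \ {1}) : Set (ConjClasses (Cfsg.Sz F m))) ≤
      Nat.card V - 1 := by
  set S : Set (ConjClasses (Cfsg.Sz F m)) := ConjClasses.mk '' ((V : Set (Cfsg.Sz F m)) \ {1})
  obtain ⟨y, hy, hyo⟩ : ∃ y ∈ Subgroup.normalizer (V : Set (Cfsg.Sz F m)),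
      orderOf y = normIndex m (Nat.card V) := by
    unfold normIndex
    split_ifs with h
    · obtain ⟨j, hj, hjV, hjN⟩ := hV.exists_involution
      exact ⟨j, hjN, orderOf_eq_two m hj (fun e => hjV (e ▸ V.one_mem))⟩
    · exact hV.exists_order_four h
  have hc : ∀ C : S, ∃ v, (v ∈ V ∧ v ≠ 1) ∧ ConjClasses.mk v = (C : ConjClasses (Cfsg.Sz F m)) := by
    rintro ⟨C, v, hv, rfl⟩
    exact ⟨v, ⟨hv.1, by simpa using hv.2⟩, rfl⟩
  choose v hv hvC using hc
  have h2 : Nat.card {x : Cfsg.Sz F m // x ∈ V ∧ x ≠ 1} = Nat.card V - 1 := by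
    have h1 : ({x | x ∈ V ∧ x ≠ 1} : Set (Cfsg.Sz F m)) = (V : Set (Cfsg.Sz F m)) \ {1} := by
      ext g; simp
    show Nat.card ({x | x ∈ V ∧ x ≠ 1} : Set (Cfsg.Sz F m)) = _
    rw [h1, Nat.card_coe_set_eq, Set.ncard_sdiff_singleton_of_mem (one_mem V), ← Nat.card_coe_set_eq]
    rfl
  rw [← hyo, ← Nat.card_zpowers, ← Nat.card_prod, ← h2]
  have hmem : ∀ (C : S) (k : Subgroup.zpowers y),
      k.1 * v C * k.1⁻¹ ∈ V ∧ k.1 * v C * k.1⁻¹ ≠ 1 := by
    intro C k
    have hkN : k.1 ∈ Subgroup.normalizer (V : Set (Cfsg.Sz F m)) := (Subgroup.zpowers_le.mpr hy) k.2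
    exact ⟨(Subgroup.mem_normalizer_iff.mp hkN _).mp (hv C).1, by rw [ne_eq, conj_eq_one_iff]; exact (hv C).2⟩
  refine Nat.card_le_card_of_injective (fun p : Subgroup.zpowers y × S =>
    (⟨_, hmem p.2 p.1⟩ : {x : Cfsg.Sz F m // x ∈ V ∧ x ≠ 1})) ?_
  rintro ⟨k, C⟩ ⟨l, D⟩ e
  have e' : k.1 * v C * k.1⁻¹ = l.1 * v D * l.1⁻¹ := congrArg Subtype.val e
  have hCD : C = D := by
    apply Subtype.ext
    rw [← hvC C, ← hvC D, ConjClasses.mk_eq_mk_iff_isConj]
    exact (isConj_iff.mpr ⟨k.1, e'⟩ : IsConj (v C) (l.1 * v D * l.1⁻¹)).trans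
      (isConj_iff.mpr ⟨l.1, rfl⟩ : IsConj (v D) (l.1 * v D * l.1⁻¹)).symm
  subst hCD
  refine Prod.ext (Subtype.ext ?_) rfl
  have hc : l.1⁻¹ * k.1 ∈ Subgroup.centralizer {v C} := by
    rw [Subgroup.mem_centralizer_singleton_iff]
    calc l.1⁻¹ * k.1 * v C = l.1⁻¹ * (k.1 * v C * k.1⁻¹) * k.1 := by group
      _ = _ := by rw [e']; group
  rw [hV.centralizer_eq (hv C).1 (hv C).2] at hc
  have hp : (l.1⁻¹ * k.1) ^ 4 = 1 := by
    have hd : orderOf (l.1⁻¹ * k.1) ∣ normIndex m (Nat.card V) :=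
      hyo ▸ (Nat.card_zpowers y ▸ Subgroup.orderOf_dvd_natCard _ ((Subgroup.zpowers y).mul_mem
        ((Subgroup.zpowers y).inv_mem l.2) k.2))
    refine orderOf_dvd_iff_pow_eq_one.mp (hd.trans ?_)
    unfold normIndex; split_ifs <;> norm_num
  exact (inv_mul_eq_one.mp (hV.eq_one_of_pow_four hc hp)).symm

/-- Semisimple classes are separated by the trace, which does not vanish on them. -/
theorem tra_classes :
    (∀ g : Cfsg.Sz F m, IsSS m g → tra m g ≠ 0) ∧
    ∀ g h : Cfsg.Sz F m, IsSS m g → IsSS m h → tra m g = tra m h → IsConj g h := by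
  classical
  set S : Set (ConjClasses (Cfsg.Sz F m)) := {C | ∃ g, IsSS m g ∧ ConjClasses.mk g = C}
  obtain ⟨V₁, hV₁, h₁⟩ := exists_part_card (F := F) m
    (n := 2 ^ (2 * m + 1) - 1) (by simp)
  obtain ⟨V₂, hV₂, h₂⟩ := exists_part_card (F := F) m (n := aPlus m) (by simp)
  obtain ⟨V₃, hV₃, h₃⟩ := exists_part_card (F := F) m (n := aMinus m) (by simp)
  let im : Subgroup (Cfsg.Sz F m) → Set (ConjClasses (Cfsg.Sz F m)) := fun V =>
    ConjClasses.mk '' ((V : Set (Cfsg.Sz F m)) \ {1})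
  have hsub : S ⊆ im V₁ ∪ im V₂ ∪ im V₃ := by
    rintro _ ⟨g, hg, rfl⟩
    rcases exists_cyclic_part m (g := g) with ⟨i, hi⟩ | ⟨V, -, hc, hn, hgV⟩
    · exfalso
      have := hg.2
      rw [hi] at this
      rcases Nat.eq_zero_or_pos i with e | e
      · exact hg.1 (orderOf_eq_one_iff.mp (by rw [hi, e, pow_zero]))
      · exact absurd ((Nat.even_pow.mpr ⟨even_two, e.ne'⟩)) (Nat.not_even_iff_odd.mpr this)
    · have hV : IsCyclicPart m V := ⟨hc, hn⟩
      have key : ∀ W : Subgroup (Cfsg.Sz F m), IsCyclicPart m W → Nat.card V = Nat.card W →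
          ConjClasses.mk g ∈ im W := by
        intro W hW e
        obtain ⟨k, hk⟩ := hV.exists_conj hW e
        refine ⟨k * g * k⁻¹, ⟨hk ▸ ⟨g, hgV, rfl⟩, ?_⟩, ?_⟩
        · rw [Set.mem_singleton_iff, conj_eq_one_iff]; exact hg.1
        · rw [ConjClasses.mk_eq_mk_iff_isConj]
          exact (isConj_iff.mpr ⟨k, rfl⟩ : IsConj g (k * g * k⁻¹)).symm
      rcases hn with e | e | e
      · exact Or.inl (Or.inl (key V₁ hV₁ (e.trans h₁.symm)))
      · exact Or.inl (Or.inr (key V₂ hV₂ (e.trans h₂.symm)))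
      · exact Or.inr (key V₃ hV₃ (e.trans h₃.symm))
  have hcard : S.ncard ≤ Nat.card F - 1 := by
    have e0 := Set.ncard_le_ncard hsub (Set.toFinite _)
    have e1 := Set.ncard_union_le (im V₁ ∪ im V₂) (im V₃)
    have e2 := Set.ncard_union_le (im V₁) (im V₂)
    have b1 := mul_card_classes_le m hV₁
    have b2 := mul_card_classes_le m hV₂
    have b3 := mul_card_classes_le m hV₃
    obtain ⟨-, -, -, n1, n2, hle⟩ := part_sizes (F := F) (m := m)
    rw [h₁, normIndex, if_pos rfl, Nat.card_coe_set_eq] at b1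
    rw [h₂, normIndex, if_neg n1.symm, Nat.card_coe_set_eq] at b2
    rw [h₃, normIndex, if_neg n2.symm, Nat.card_coe_set_eq] at b3
    have := Nat.one_le_two_pow (n := m + 1)
    rw [card_nat (F := F) m]
    simp only [aPlus, aMinus] at b2 b3
    have e3 : 2 * (2 ^ (m + 1)) = 2 ^ (m + 2) := by ring
    have e4 : 2 * 2 ^ (2 * m) = 2 ^ (2 * m + 1) := by ring
    show S.ncard ≤ _
    simp only [im] at e0 e1 e2
    omega
  let f : ConjClasses (Cfsg.Sz F m) → F := Quotient.lift (tra m) (fun a b e => (tra_conj m e).symm)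
  have hsurj : ({0}ᶜ : Set F) ⊆ f '' S := by
    intro c hc
    obtain ⟨g, hg⟩ := exists_tra m c
    exact ⟨ConjClasses.mk g, ⟨g, isSS_of_tra_ne m (hg ▸ hc), rfl⟩, hg⟩
  have hF : ({0}ᶜ : Set F).ncard = Nat.card F - 1 := by
    rw [Set.ncard_compl, Set.ncard_singleton]
  have hle := Set.ncard_le_ncard hsurj (Set.toFinite _)
  have himg := Set.ncard_image_le (f := f) (s := S) (Set.toFinite _)
  have heq : f '' S = ({0}ᶜ : Set F) :=
    (Set.eq_of_subset_of_ncard_le hsurj (by omega) (Set.toFinite _)).symm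
  have hinj : Set.InjOn f S := Set.injOn_of_ncard_image_eq (by omega) (Set.toFinite _)
  refine ⟨fun g hg e => ?_, fun g h hg hh e => ConjClasses.mk_eq_mk_iff_isConj.mp
    (hinj ⟨g, hg, rfl⟩ ⟨h, hh, rfl⟩ e)⟩
  have hmem : tra m g ∈ f '' S := ⟨ConjClasses.mk g, ⟨g, hg, rfl⟩, rfl⟩
  rw [heq] at hmem
  exact hmem e

theorem isConj_of_tra {g h : Cfsg.Sz F m} (hg : IsSS m g) (e : tra m h = tra m g) : IsConj g h :=
  (tra_classes m).2 g h hg (isSS_of_tra_ne m (e ▸ (tra_classes m).1 g hg)) e.symm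

theorem isConj_inv_of_isSS {g : Cfsg.Sz F m} (hg : IsSS m g) : IsConj g g⁻¹ := by
  obtain ⟨j, -, hj⟩ := exists_involution_inverting m hg.2
  exact isConj_iff.mpr ⟨j, hj⟩

/-- `g` is a product of two conjugates of `x`. -/
def InSq (x g : Cfsg.Sz F m) : Prop := ∃ y z, IsConj x y ∧ IsConj x z ∧ g = y * z

theorem InSq.conj {x g h : Cfsg.Sz F m} (e : IsConj g h) (hg : InSq m x g) : InSq m x h := by
  obtain ⟨c, rfl⟩ := isConj_iff.mp e
  obtain ⟨y, z, hy, hz, rfl⟩ := hg
  exact ⟨c * y * c⁻¹, c * z * c⁻¹, hy.trans (isConj_iff.mpr ⟨c, rfl⟩), hz.trans (isConj_iff.mpr ⟨c, rfl⟩),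
    by group⟩

theorem isConj_inv_inv {G : Type*} [Group G] {a b : G} (h : IsConj a b) : IsConj a⁻¹ b⁻¹ := by
  obtain ⟨c, rfl⟩ := isConj_iff.mp h
  exact isConj_iff.mpr ⟨c, by group⟩

theorem InSq.congr {x x' g : Cfsg.Sz F m} (e : IsConj x x') (h : InSq m x' g) : InSq m x g := by
  obtain ⟨y, z, hy, hz, rfl⟩ := h
  exact ⟨y, z, e.trans hy, e.trans hz, rfl⟩

theorem InSq.inv {x g : Cfsg.Sz F m} (h : InSq m x g) : InSq m x⁻¹ g⁻¹ := by
  obtain ⟨y, z, hy, hz, rfl⟩ := h
  exact ⟨z⁻¹, y⁻¹, isConj_inv_inv hz, isConj_inv_inv hy, mul_inv_rev y z⟩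

theorem isConj_u1 {r : F} (hr : ∃ z, th m z + z = r) : IsConj (u m 1 0) (u m 1 r) := by
  obtain ⟨z, rfl⟩ := hr
  exact isConj_iff.mpr ⟨u m z 0, by rw [u_conj]; simp⟩

theorem isConj_u_smul {α : F} (hα : α ≠ 0) (r : F) :
    IsConj (u m 1 r) (u m α (α * th m α * r)) := by
  obtain ⟨s, hs⟩ := (th_bijective (F := F) m).2 α
  have hs0 : s ≠ 0 := fun e => hα (by rw [← hs, e, th_zero])
  refine isConj_iff.mpr ⟨t m (Units.mk0 s hs0), ?_⟩
  rw [t_u, Units.val_mk0, mul_one, hs, ← th_th m s, hs, mul_comm (th m α)]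

/-- Semisimple `x`, semisimple `g`. -/
theorem inSq_ss_ss {x g : Cfsg.Sz F m} (hx : IsSS m x) (hg : IsSS m g) : InSq m x g := by
  obtain ⟨τ, hτo, hτg⟩ := exists_involution_inverting m hg.2
  have hτ2 : τ * τ = 1 := by rw [← pow_two, ← hτo]; exact pow_orderOf_eq_one τ
  have hτ1 : τ ≠ 1 := fun e => by rw [e, orderOf_one] at hτo; omega
  have hτi : τ⁻¹ = τ := inv_eq_of_mul_eq_one_right hτ2
  set j := g * τ with hj
  have hj2 : j * j = 1 := by
    calc j * j = g * (τ * g * τ⁻¹) := by rw [hj, hτi]; group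
      _ = 1 := by rw [hτg, mul_inv_cancel]
  have hg_j : g = j * τ := by rw [hj, mul_assoc, hτ2, mul_one]
  have hj1 : j ≠ 1 := fun e => by
    rw [e, one_mul] at hg_j
    have := hg.2
    rw [hg_j, hτo] at this
    exact absurd this (by decide)
  obtain ⟨p, hp, -⟩ := exists_unique_fixed m (i := 1) (by rw [hτo, pow_one]) hτ1
  obtain ⟨q, hq, -⟩ := exists_unique_fixed m (i := 1) (by rw [orderOf_eq_two m hj2 hj1, pow_one]) hj1
  have hpq : p ≠ q := by
    rintro rfl
    obtain ⟨c, hc⟩ := exists_smul_eq (Cfsg.Sz F m) p (oInf m : suzukiOvoid F m)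
    have hU : ∀ k : Cfsg.Sz F m, k * k = 1 → k • p = p → c * k * c⁻¹ ∈ U m := fun k hk hkp =>
      mem_U_of_sq m (by rw [show c * k * c⁻¹ * (c * k * c⁻¹) = c * (k * k) * c⁻¹ by group, hk, mul_one,
        mul_inv_cancel]) (by rw [mem_B, mul_smul, mul_smul, ← hc, inv_smul_smul, hkp])
    have h := (U m).mul_mem (hU j hj2 hq) (hU τ hτ2 hp)
    rw [show c * j * c⁻¹ * (c * τ * c⁻¹) = c * (j * τ) * c⁻¹ by group, ← hg_j] at h
    have h2 : orderOf (c * g * c⁻¹) ∣ Nat.card F ^ 2 :=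
      card_U (F := F) m ▸ Subgroup.orderOf_dvd_natCard _ h
    rw [← MulAut.conj_apply, MulEquiv.orderOf_eq, card_nat (F := F) m, ← pow_mul] at h2
    exact hg.1 (orderOf_eq_one_iff.mp (Nat.eq_one_of_dvd_coprimes
      ((Nat.coprime_two_right.mpr hg.2).pow_right _) dvd_rfl h2))
  have h2p := two_pretransitive (F := F) m
  rw [is_two_pretransitive_iff] at h2p
  obtain ⟨c, hc1, hc2⟩ := h2p hpq (oPt_ne_oInf m (0 : F) 0).symm
  have conj_sq : ∀ k : Cfsg.Sz F m, k * k = 1 → c * k * c⁻¹ * (c * k * c⁻¹) = 1 := fun k hk => by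
    rw [show c * k * c⁻¹ * (c * k * c⁻¹) = c * (k * k) * c⁻¹ by group, hk, mul_one, mul_inv_cancel]
  obtain ⟨b, hb⟩ := mem_Z_of_sq (mem_U_of_sq m (conj_sq τ hτ2) (by
    rw [mem_B, mul_smul, mul_smul, ← hc1, inv_smul_smul, hp])) (conj_sq τ hτ2)
  have hb0 : b ≠ 0 := fun e => hτ1 (by rw [e, u_zero, conj_eq_one_iff] at hb; exact hb)
  have hjw : w m * (c * j * c⁻¹) * w m * (w m * (c * j * c⁻¹) * w m) = 1 := by
    rw [show w m * (c * j * c⁻¹) * w m * (w m * (c * j * c⁻¹) * w m) =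
      w m * (c * j * c⁻¹) * (w m * w m) * ((c * j * c⁻¹) * w m) by group, w_mul_w, mul_one,
      mul_assoc, ← mul_assoc (c * j * c⁻¹), conj_sq j hj2, one_mul, w_mul_w]
  obtain ⟨b', hb'⟩ := mem_Z_of_sq (mem_U_of_sq m hjw (by
    rw [mem_B, mul_smul, mul_smul, w_smul_oInf, mul_smul, mul_smul, ← hc2, inv_smul_smul, hq, hc2,
      w_smul_zero])) hjw
  have hb'0 : b' ≠ 0 := fun e => hj1 (by
    rw [e, u_zero] at hb'
    have h := congrArg (fun k => w m * k * w m) hb'
    beta_reduce at h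
    rw [mul_one, w_mul_w, show w m * (w m * (c * j * c⁻¹) * w m) * w m =
      (w m * w m) * (c * j * c⁻¹) * (w m * w m) by group, w_mul_w, one_mul, mul_one, conj_eq_one_iff] at h
    exact h)
  obtain ⟨s, hs⟩ := (sq_mul_th_bijective (F := F) m).2 (b' / b)
  dsimp only at hs
  have hs0 : s ≠ 0 := fun e => by
    rw [e, zero_pow two_ne_zero, zero_mul] at hs
    exact div_ne_zero hb'0 hb0 hs.symm
  have hne : s⁻¹ * th m s⁻¹ ≠ 0 := by simp [hs0]
  obtain ⟨z, hz⟩ := (th_bijective (F := F) m).2 (tra m x * (s⁻¹ * th m s⁻¹))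
  set S := Units.mk0 s hs0
  set y := t m S⁻¹ * w m * u m 0 z with hy
  have htra : tra m y = tra m x := by
    rw [hy, tra_twu, th_zero, mul_zero, zero_add]
    simp only [ovf, th_zero, zero_mul, mul_zero, zero_add, zero_pow (two_ne_zero), Units.val_inv_eq_inv_val,
      S, Units.val_mk0, hz]
    have : th m (1 / s) ≠ 0 := by simp [hs0]
    field_simp
  have hyx : IsConj x y := isConj_of_tra m hx htra
  have hyτ : y * u m 0 b * y⁻¹ = w m * u m 0 b' * w m := by
    have e1 : u m 0 z * u m 0 b * (u m 0 z)⁻¹ = u m 0 b := by rw [u_conj]; simp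
    have e2 : t m S⁻¹ * w m = w m * t m S := by
      rw [← w_t, w_inv, mul_assoc, w_mul_w, mul_one]
    calc y * u m 0 b * y⁻¹ = (t m S⁻¹ * w m) * (u m 0 z * u m 0 b * (u m 0 z)⁻¹) * (t m S⁻¹ * w m)⁻¹ := by
          rw [hy]; group
      _ = w m * (t m S * u m 0 b * (t m S)⁻¹) * (w m)⁻¹ := by rw [e1, e2]; group
      _ = _ := by
          rw [t_u, w_inv, mul_zero, show (S : F) = s from rfl, hs, div_mul_cancel₀ b' hb0]
  have hjc : c * j * c⁻¹ = w m * u m 0 b' * w m := by
    rw [← hb', show w m * (w m * (c * j * c⁻¹) * w m) * w m =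
      (w m * w m) * (c * j * c⁻¹) * (w m * w m) by group, w_mul_w, one_mul, mul_one]
  refine InSq.conj m (g := c * g * c⁻¹) (isConj_iff.mpr ⟨c⁻¹, by group⟩) ?_
  refine ⟨y, u m 0 b * y⁻¹ * (u m 0 b)⁻¹, hyx, ?_, ?_⟩
  · exact ((isConj_inv_of_isSS m hx).trans (isConj_inv_inv hyx)).trans (isConj_iff.mpr ⟨u m 0 b, rfl⟩)
  · calc c * g * c⁻¹ = (c * j * c⁻¹) * (c * τ * c⁻¹) := by rw [hg_j]; group
      _ = (w m * u m 0 b' * w m) * (c * τ * c⁻¹)⁻¹ := by rw [hjc]; congr 1; rw [mul_inv_rev, mul_inv_rev, hτi, inv_inv]; group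
      _ = _ := by rw [← hyτ, hb]; group

theorem inv_mul_cancel_sq {x y g : Cfsg.Sz F m} (hx : IsSS m x) (h1 : tra m y = tra m x)
    (h2 : tra m (y * g) = tra m x) : InSq m x g :=
  ⟨y⁻¹, y * g, (isConj_inv_of_isSS m hx).trans (isConj_inv_inv (isConj_of_tra m hx h1)),
    isConj_of_tra m hx h2, (inv_mul_cancel_left y g).symm⟩

theorem inSq_ss_u01 {x : Cfsg.Sz F m} (hx : IsSS m x) : InSq m x (u m 0 1) := by
  obtain ⟨L, hL⟩ := exists_trace (F := F) m
  obtain ⟨s, hs0, hs⟩ := hL.exists_quad m ((tra_classes m).1 x hx)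
  obtain ⟨b, -, hb, -⟩ := hL.solve (tra m x * (s * th m s) + th m s + 1) (by
    rw [map_add, map_add, hL.th_eq, hL.one, hs]; decide)
  have hss : th m s ≠ 0 := by simpa using hs0
  refine inv_mul_cancel_sq m hx (y := t m (Units.mk0 s hs0) * w m * u m 1 b) ?_ ?_
  · rw [tra_twu]
    simp only [ovf, th_one, one_mul, one_pow, mul_one, Units.val_mk0]
    field_simp
    linear_combination (norm := char_two_ring (m)) hb
  · rw [mul_assoc (t m _ * w m), u_mul, tra_twu]
    simp only [ovf, th_one, th_add, th_zero, one_mul, one_pow, mul_one, mul_zero, add_zero, Units.val_mk0]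
    field_simp
    linear_combination (norm := char_two_ring (m)) hb

theorem inSq_ss_u10 {x : Cfsg.Sz F m} (hx : IsSS m x) : InSq m x (u m 1 0) := by
  obtain ⟨L, hL⟩ := exists_trace (F := F) m
  obtain ⟨s, hs0, hs⟩ := hL.exists_quad m ((tra_classes m).1 x hx)
  obtain ⟨k, hk⟩ := (th_bijective (F := F) m).2 (tra m x * (s * th m s) + s ^ 2 + 1)
  obtain ⟨r, -, hr, hrz⟩ := hL.solve k (by
    rw [← hL.th_eq k, hk, map_add, map_add, ← th_th m s, hL.th_eq, hL.th_eq, hL.one, hs]; decide)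
  have hr' : th m r + r ^ 2 = tra m x * (s * th m s) + s ^ 2 + 1 := by
    rw [← hk, ← hr, th_add, th_th]
  have hss : th m s ≠ 0 := by simpa using hs0
  refine InSq.conj m (isConj_u1 m hrz).symm ?_
  refine inv_mul_cancel_sq m hx (y := t m (Units.mk0 s hs0) * w m * u m 0 (th m s + 1 + r + th m r)) ?_ ?_
  · rw [tra_twu]
    simp only [ovf, th_zero, th_add, th_th, th_one, zero_mul, mul_zero, zero_add, zero_pow two_ne_zero,
      Units.val_mk0]
    field_simp
    linear_combination (norm := char_two_ring (m)) hr'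
  · rw [mul_assoc (t m _ * w m), u_mul, tra_twu]
    simp only [ovf, th_zero, th_add, th_th, th_one, zero_mul, mul_one, one_mul, zero_add, add_zero, one_pow,
      Units.val_mk0]
    field_simp
    linear_combination (norm := char_two_ring (m)) hr'

theorem inSq_u10_ss {g : Cfsg.Sz F m} (hg : IsSS m g) : InSq m (u m 1 0) g := by
  obtain ⟨L, hL⟩ := exists_trace (F := F) m
  obtain ⟨k, hk⟩ := hg.2
  set h := g ^ (k + 1) with hh
  have hhh : h * h = g := by
    rw [hh, ← pow_add, show k + 1 + (k + 1) = orderOf g + 1 by omega, pow_succ, pow_orderOf_eq_one, one_mul]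
  have hhss : IsSS m h := by
    refine ⟨fun e => hg.1 (by rw [← hhh, e, one_mul]), ?_⟩
    exact hg.2.of_dvd_nat (orderOf_pow_dvd (k + 1))
  obtain ⟨c, hch⟩ : ∃ c, tra m h = c := ⟨_, rfl⟩
  have hc : c ≠ 0 := hch ▸ (tra_classes m).1 h hhss
  obtain ⟨d, hd⟩ := (th_bijective (F := F) m).2 c
  have hd0 : d ≠ 0 := fun e => hc (by rw [← hd, e, th_zero])
  obtain ⟨e, he0, he⟩ := hL.exists_quad m hd0
  obtain ⟨r, -, hr, hrz⟩ := hL.solve (c * (th m e * e ^ 2) + e + 1) (by
    rw [map_add, map_add, ← hd, ← th_th m e, ← th_mul, ← th_mul, hL.th_eq, hL.one, he]; decide)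
  have he' : th m e ≠ 0 := by simpa using he0
  set z := u m e⁻¹ (e⁻¹ * th m e⁻¹ * r)
  have hz : IsConj (u m (1 : F) 0) z := (isConj_u1 m hrz).trans (isConj_u_smul m (inv_ne_zero he0) r)
  set τ := w m * u m (0 : F) 1 * w m with hτ
  have htra : tra m (z * τ) = tra m h := by
    rw [hch, hτ, tra_u_low]
    simp only [ovf, th_inv, th_mul, th_th]
    field_simp
    linear_combination (norm := char_two_ring (m)) hr
  obtain ⟨a, ha⟩ := isConj_iff.mp (isConj_of_tra m hhss htra)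
  have hτ2 : τ * τ = 1 := by
    rw [hτ, show w m * u m (0 : F) 1 * w m * (w m * u m 0 1 * w m) =
      w m * u m 0 1 * (w m * w m) * (u m 0 1 * w m) by group, w_mul_w, mul_one, mul_assoc,
      ← mul_assoc (u m 0 1), u_sq]
    simp [w_mul_w]
  have hτi : τ⁻¹ = τ := inv_eq_of_mul_eq_one_right hτ2
  refine InSq.conj m (g := (z * τ) * (z * τ)) ?_ ?_
  · refine isConj_iff.mpr ⟨a⁻¹, ?_⟩
    rw [← hhh, ← ha]; group
  · refine ⟨z, τ * z * τ⁻¹, hz, hz.trans (isConj_iff.mpr ⟨τ, rfl⟩), ?_⟩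
    rw [hτi]; group

theorem inSq_u10_unipotent {a b : F} (h : ¬ (a = 0 ∧ b = 0)) : InSq m (u m 1 0) (u m a b) := by
  obtain ⟨L, hL⟩ := exists_trace (F := F) m
  have main : ∀ r0, L r0 = 0 → ∃ z, th m z + z = r0 := by
    intro r0 hr0
    obtain ⟨s, hs⟩ := hL.solve r0 hr0
    exact ⟨s, (add_comm _ _).trans hs.2.1⟩
  by_cases ha : a = 0
  · subst ha
    have hb : b ≠ 0 := fun e => h ⟨rfl, e⟩
    obtain ⟨α, hα⟩ := (mul_th_bijective (F := F) m).2 b
    dsimp only at hα
    have hα0 : α ≠ 0 := fun e => hb (by rw [← hα, e]; simp)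
    have hc : IsConj (u m 1 0) (u m α 0) := by
      have := isConj_u_smul m hα0 (0 : F)
      rwa [mul_zero] at this
    exact ⟨_, _, hc, hc, by rw [u_sq, mul_comm, hα]⟩
  · set ε := b / (a * th m a) with hε
    refine InSq.conj m (g := u m 1 ε) ?_ ?_
    · have := isConj_u_smul m ha ε
      rwa [hε, mul_div_cancel₀ b (mul_ne_zero ha (by simpa using ha))] at this
    obtain ⟨α, hα0, hα1⟩ := exists_ne_zero_one (F := F) m
    have hA1 : α * th m α ≠ 1 := fun e => hα1 (eq_one_of_th_mul m (by rw [mul_comm]; exact e))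
    have hα' : α + 1 ≠ 0 := fun e => hα1 (eq_of_add_eq_zero m e)
    obtain ⟨r0, hr0, hrA⟩ : ∃ r0, L r0 = 0 ∧ L (α * th m α * r0 + th m α * (α + 1)) = L ε := by
      obtain ⟨r1, hr1, hr1'⟩ := hL.exists_mul_one m (mul_ne_zero hα0 (by simpa using hα0)) hA1
      rcases zmod_two_cases (L (th m α * (α + 1)) + L ε) with e | e
      · refine ⟨0, map_zero L, ?_⟩
        rw [mul_zero, zero_add]
        have : ∀ p q : ZMod 2, p + q = 0 → p = q := by decide
        exact this _ _ e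
      · refine ⟨r1, hr1, ?_⟩
        rw [map_add, hr1']
        have : ∀ p q : ZMod 2, p + q = 1 → 1 + p = q := by decide
        exact this _ _ e
    have hz := main r0 hr0
    set v := α * th m α * r0 + th m α * (α + 1) with hv
    have hzv := main (v + ε) (by
      rw [map_add, hrA]
      have : ∀ p : ZMod 2, p + p = 0 := by decide
      exact this _)
    have hconj : IsConj (u m 1 v) (u m 1 ε) := by
      obtain ⟨z', hz'⟩ := hzv
      refine isConj_iff.mpr ⟨u m z' 0, ?_⟩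
      rw [u_conj, u_inj]
      refine ⟨rfl, ?_⟩
      rw [th_one]
      linear_combination (norm := char_two_ring (m)) hz'
    refine InSq.conj m hconj ⟨u m α (α * th m α * r0), u m (α + 1) 0,
      (isConj_u1 m hz).trans (isConj_u_smul m hα0 r0), ?_, ?_⟩
    · have := isConj_u_smul m hα' (0 : F)
      rwa [mul_zero] at this
    · rw [u_mul, u_inj, hv]
      exact ⟨by linear_combination (norm := char_two_ring (m)) 0, by simp⟩

/-- The square of a class of elements of order greater than two covers all non-identity elements. -/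
theorem class_square {x g : Cfsg.Sz F m} (hx : 2 < orderOf x) (hg : g ≠ 1) : InSq m x g := by
  have hgU : ∀ i, orderOf g = 2 ^ i → ∃ a b : F, ¬ (a = 0 ∧ b = 0) ∧ IsConj (u m a b) g := by
    intro i hi
    obtain ⟨c, hc⟩ := exists_conj_mem_U m hi hg
    obtain ⟨a, b, hab⟩ := (mem_U m).mp hc
    refine ⟨a, b, fun e => hg ?_, isConj_iff.mpr ⟨c⁻¹, by rw [← hab]; group⟩⟩
    rw [e.1, e.2, u_zero, conj_eq_one_iff] at hab
    exact hab
  have h10 : ∀ y : Cfsg.Sz F m, y ≠ 1 → InSq m (u m 1 0) y := by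
    intro y hy
    rcases dichotomy m y with ⟨i, hi⟩ | h
    · obtain ⟨c, hc⟩ := exists_conj_mem_U m hi hy
      obtain ⟨a, b, hab⟩ := (mem_U m).mp hc
      refine InSq.conj m (g := u m a b) (isConj_iff.mpr ⟨c⁻¹, by rw [← hab]; group⟩) ?_
      refine inSq_u10_unipotent m (fun e => hy ?_)
      rw [e.1, e.2, u_zero, conj_eq_one_iff] at hab
      exact hab
    · exact inSq_u10_ss m h
  rcases dichotomy m x with ⟨i, hi⟩ | hxs
  · have hx1 : x ≠ 1 := fun e => by rw [e, orderOf_one] at hx; omega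
    have h4 : orderOf x = 4 := by
      obtain ⟨c, hc⟩ := exists_conj_mem_U m hi hx1
      have h1 : orderOf (⟨_, hc⟩ : (U m : Subgroup (Cfsg.Sz F m))) ∣ 4 := by
        exact (Monoid.order_dvd_exponent _).trans (exponent_U (F := F) m).dvd
      rw [Subgroup.orderOf_mk, ← MulAut.conj_apply, MulEquiv.orderOf_eq] at h1
      have h2 : orderOf x ∈ Nat.divisors 4 := Nat.mem_divisors.mpr ⟨h1, by norm_num⟩
      rw [show Nat.divisors 4 = {1, 2, 4} by decide] at h2
      simp only [Finset.mem_insert, Finset.mem_singleton] at h2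
      omega
    rcases isConj_order_four m h4 with e | e
    · exact InSq.congr m e (h10 g hg)
    · refine InSq.congr m e ?_
      have := (h10 g⁻¹ (inv_ne_one.mpr hg)).inv m
      rwa [inv_inv] at this
  · rcases dichotomy m g with ⟨i, hi⟩ | h
    · obtain ⟨a, b, hne, hab⟩ := hgU i hi
      refine InSq.conj m hab ?_
      by_cases ha : a = 0
      · subst ha
        have hb : b ≠ 0 := fun e => hne ⟨rfl, e⟩
        refine InSq.conj m (g := u m 0 1) (isConj_involutions m ?_ ?_) (inSq_ss_u01 m hxs)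
        · exact orderOf_eq_two m (by rw [u_sq]; simp) (fun e => one_ne_zero ((u_eq_one m).mp e).2)
        · exact orderOf_eq_two m (by rw [u_sq]; simp) (fun e => hb ((u_eq_one m).mp e).2)
      · have h4 : orderOf (u m a b) = 4 := by
          have : Fact (Nat.Prime 2) := ⟨Nat.prime_two⟩
          refine orderOf_eq_prime_pow (p := 2) (n := 1) ?_ ?_
          · rw [pow_one, pow_two, u_sq, u_eq_one]; simp [ha]
          · show u m a b ^ (2 * 2) = 1
            rw [pow_mul, pow_two, pow_two, u_sq, u_sq]; simp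
        rcases isConj_order_four m h4 with e | e
        · exact InSq.conj m e.symm (inSq_ss_u10 m hxs)
        · exact InSq.conj m e.symm (InSq.congr m (isConj_inv_of_isSS m hxs) ((inSq_ss_u10 m hxs).inv m))
    · exact inSq_ss_ss m hxs h

end Cfsg.Agent.Suzuki
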