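import Cfsg.Agent.Suzuki.CharDegreeSet
import Cfsg.Agent.Suzuki.Lie

/-!
The character degree graph of the Suzuki group.
-/

set_option autoImplicit false

open Cfsg
open scoped ComplexConjugate Classical
open Cfsg.Agent.CharBasic Cfsg.Agent.CharInduce

namespace Cfsg.Agent.Suzuki

theorem charDegree_eq {G : Type*} [Group G] {χ : G → ℂ} {n : ℕ} (h : χ 1 = n) : charDegree χ = n := by
  simp [charDegree, h]

theorem charDegrees_subset {G : Type*} [Group G] [Finite G] {H : Type*} [Group H] (f : G →* H)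
    (hf : Function.Surjective f) : charDegrees H ⊆ charDegrees G := by
  rintro d ⟨χ, rfl⟩
  exact ⟨⟨_, IsIrr.comp χ.2 f hf⟩, by simp [charDegree]⟩

theorem charDegrees_eq_of_equiv {G : Type*} [Group G] [Finite G] {H : Type*} [Group H] [Finite H] (f : G ≃* H) :
    charDegrees G = charDegrees H :=
  Set.Subset.antisymm (charDegrees_subset f.symm.toMonoidHom f.symm.surjective)
    (charDegrees_subset f.toMonoidHom f.surjective)

variable {F : Type*} [Field F] [Fintype F] (m : ℕ) [SzField F m]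

theorem charDegrees_Sz : charDegrees (Cfsg.Sz F m) = {1, (Fintype.card F) ^ 2, (Fintype.card F) ^ 2 + 1,
    (Fintype.card F - 1) * 2 ^ m, (Fintype.card F - 1) * aMinus m, (Fintype.card F - 1) * aPlus m} := by
  let _ : Fintype (Cfsg.Sz F m) := Fintype.ofFinite _
  obtain ⟨e⟩ := CommGroup.monoidHom_mulEquiv_of_hasEnoughRootsOfUnity Fˣ ℂ
  have : Finite (Fˣ →* ℂˣ) := Finite.of_equiv _ e.toEquiv.symm
  let _ : Fintype (Fˣ →* ℂˣ) := Fintype.ofFinite _
  set q := Fintype.card F with hqd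
  have hq : q = 2 ^ (2 * m + 1) := SzField.card_eq
  have h1 : 1 ≤ q := Fintype.card_pos
  have hle : 2 ^ (m + 1) ≤ q := hq ▸ Nat.pow_le_pow_right (by norm_num) (by omega)
  have c1 : (((q - 1) * 2 ^ m : ℕ) : ℂ) = ((q : ℂ) - 1) * (2 : ℂ) ^ m := by
    push_cast [h1]; ring
  have hm2 : (2 : ℂ) ^ (m + 1) = 2 * (2 : ℂ) ^ m := by rw [pow_succ, mul_comm]
  have c2 : (((q - 1) * aMinus m : ℕ) : ℂ) = ((q : ℂ) - 1) * ((q : ℂ) - 2 * (2 : ℂ) ^ m + 1) := by
    rw [aMinus, ← hq]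
    push_cast [h1, hle]
    rw [hm2]
  have c3 : (((q - 1) * aPlus m : ℕ) : ℂ) = ((q : ℂ) - 1) * ((q : ℂ) + 2 * (2 : ℂ) ^ m + 1) := by
    rw [aPlus, ← hq]
    push_cast [h1]
    rw [hm2]
  have hmem : ∀ (χ : IrrCharacter (Cfsg.Sz F m)) (d : ℕ), χ.1 1 = d → d ∈ charDegrees (Cfsg.Sz F m) :=
    fun χ d h => ⟨χ, charDegree_eq h⟩
  ext d
  constructor
  · rintro ⟨χ, rfl⟩
    obtain ⟨h, -⟩ := degrees χ
    simp only [Set.mem_insert_iff, Set.mem_singleton_iff] at h ⊢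
    rcases h with h | h | h | h | h | h
    · exact Or.inl (charDegree_eq (n := 1) (by rw [h]; norm_num))
    · exact Or.inr (Or.inl (charDegree_eq (by rw [h]; push_cast; rfl)))
    · exact Or.inr (Or.inr (Or.inl (charDegree_eq (by rw [h]; push_cast; rfl))))
    · exact Or.inr (Or.inr (Or.inr (Or.inl (charDegree_eq (h.trans c1.symm)))))
    · exact Or.inr (Or.inr (Or.inr (Or.inr (Or.inl (charDegree_eq (h.trans c2.symm))))))
    · exact Or.inr (Or.inr (Or.inr (Or.inr (Or.inr (charDegree_eq (h.trans c3.symm))))))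
  · obtain ⟨-, ⟨χ1, h1'⟩, ⟨χ2, h2'⟩, χ3, h3'⟩ := degrees (oneC (F := F) m)
    simp only [Set.mem_insert_iff, Set.mem_singleton_iff]
    rintro (rfl | rfl | rfl | rfl | rfl | rfl)
    · exact hmem (oneC m) 1 (by simp [oneC])
    · exact hmem (stC m) _ ((st_one m).trans (by push_cast; rfl))
    · obtain ⟨χ, hχ⟩ : (priSet (F := F) m).Nonempty := by
        rw [← Finset.card_pos]
        have := card_priSet (F := F) m
        have := eight_le_card (F := F) m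
        omega
      obtain ⟨l, -, e⟩ := (mem_priSet m).mp hχ
      exact hmem χ _ (by rw [e, pri_one]; push_cast; rfl)
    · exact hmem χ1 _ (h1'.trans c1.symm)
    · exact hmem χ2 _ (h2'.trans c2.symm)
    · exact hmem χ3 _ (h3'.trans c3.symm)

theorem aMinus_mul_aPlus : aMinus m * aPlus m = (2 ^ (2 * m + 1)) ^ 2 + 1 := by
  have h : 2 ^ (m + 1) ≤ 2 ^ (2 * m + 1) := Nat.pow_le_pow_right (by norm_num) (by omega)
  zify [aMinus, aPlus, h]
  ring

theorem degree_graph {S : Type*} [Group S] [Finite S] (f : S ≃* Cfsg.Sz F m) (q : ℕ) (hq : q = Fintype.card F) :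
    degreePrimes S = {r : ℕ | r.Prime ∧ (r = 2 ∨ r ∣ (q - 1) * (q ^ 2 + 1))} ∧
    ∀ r s : ℕ, (degreeGraph S).Adj r s ↔ (r ≠ s ∧ r.Prime ∧ s.Prime ∧
      ((r ∣ (q - 1) * (q ^ 2 + 1) ∧ s ∣ (q - 1) * (q ^ 2 + 1)) ∨ (r = 2 ∧ s ∣ q - 1) ∨ (s = 2 ∧ r ∣ q - 1))) := by
  have hdeg : charDegrees S = _ := (charDegrees_eq_of_equiv f).trans (charDegrees_Sz m)
  rw [← hq] at hdeg
  have hm : 1 ≤ m := SzField.pos F
  have hq2 : q = 2 ^ (2 * m + 1) := hq.trans SzField.card_eq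
  have hqe : 2 ∣ q := hq2 ▸ dvd_pow_self 2 (by omega)
  have hq8 : 8 ≤ q := hq ▸ eight_le_card (F := F) m
  have hprod : aMinus m * aPlus m = q ^ 2 + 1 := by rw [aMinus_mul_aPlus, hq2]
  have hN : ¬ 2 ∣ (q - 1) * (q ^ 2 + 1) := by
    have := odd_compl (F := F) m
    rwa [Nat.card_eq_fintype_card, ← hq] at this
  have ha : ∀ p : ℕ, p ∣ aMinus m → p ∣ q ^ 2 + 1 := fun p hp => hprod ▸ hp.mul_right _
  have hb : ∀ p : ℕ, p ∣ aPlus m → p ∣ q ^ 2 + 1 := fun p hp => hprod ▸ hp.mul_left _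
  -- prime divisors of the degrees
  have hdiv : ∀ d ∈ charDegrees S, ∀ p : ℕ, p.Prime → p ∣ d →
      (p = 2 ∨ p ∣ (q - 1) * (q ^ 2 + 1)) ∧
        (2 ∣ d → p = 2 ∨ p ∣ q - 1) := by
    intro d hd p hp hpd
    rw [hdeg] at hd
    simp only [Set.mem_insert_iff, Set.mem_singleton_iff] at hd
    rcases hd with rfl | rfl | rfl | rfl | rfl | rfl
    · exact absurd (Nat.dvd_one.mp hpd) hp.ne_one
    · have : p = 2 := by
        rw [hq2, ← pow_mul] at hpd
        exact (Nat.prime_dvd_prime_iff_eq hp Nat.prime_two).mp (hp.dvd_of_dvd_pow hpd)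
      exact ⟨Or.inl this, fun _ => Or.inl this⟩
    · exact ⟨Or.inr (hpd.mul_left _), fun h => absurd (h.mul_left _) hN⟩
    · rcases hp.dvd_mul.mp hpd with h | h
      · exact ⟨Or.inr (h.mul_right _), fun _ => Or.inr h⟩
      · have : p = 2 := (Nat.prime_dvd_prime_iff_eq hp Nat.prime_two).mp (hp.dvd_of_dvd_pow h)
        exact ⟨Or.inl this, fun _ => Or.inl this⟩
    · refine ⟨?_, fun h => ?_⟩
      · exact Or.inr (hpd.trans (Nat.mul_dvd_mul_left _ (hprod ▸ dvd_mul_right _ _)))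
      · exact absurd (h.trans (Nat.mul_dvd_mul_left _ (hprod ▸ dvd_mul_right _ _))) hN
    · refine ⟨?_, fun h => ?_⟩
      · exact Or.inr (hpd.trans (Nat.mul_dvd_mul_left _ (hprod ▸ dvd_mul_left _ _)))
      · exact absurd (h.trans (Nat.mul_dvd_mul_left _ (hprod ▸ dvd_mul_left _ _))) hN
  have mem : ∀ d, d ∈ ({1, q ^ 2, q ^ 2 + 1, (q - 1) * 2 ^ m, (q - 1) * aMinus m, (q - 1) * aPlus m} : Set ℕ) →
      d ∈ charDegrees S := fun d h => hdeg ▸ h
  constructor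
  · ext r
    constructor
    · rintro ⟨hr, d, hd, hrd⟩
      exact ⟨hr, (hdiv d hd r hr hrd).1⟩
    · rintro ⟨hr, h⟩
      refine ⟨hr, ?_⟩
      rcases h with rfl | h
      · exact ⟨q ^ 2, mem _ (by simp), hqe.trans (dvd_pow_self q two_ne_zero)⟩
      · rcases hr.dvd_mul.mp h with h | h
        · exact ⟨(q - 1) * 2 ^ m, mem _ (by simp), h.mul_right _⟩
        · exact ⟨q ^ 2 + 1, mem _ (by simp), h⟩
  · intro r s
    constructor
    · rintro ⟨hne, hr, hs, d, hd, hrs⟩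
      refine ⟨hne, hr, hs, ?_⟩
      obtain ⟨r1, r2⟩ := hdiv d hd r hr ((dvd_mul_right r s).trans hrs)
      obtain ⟨s1, s2⟩ := hdiv d hd s hs ((dvd_mul_left s r).trans hrs)
      rcases r1 with rfl | r1
      · exact Or.inr (Or.inl ⟨rfl, (s2 ((dvd_mul_right 2 s).trans hrs)).resolve_left (Ne.symm hne)⟩)
      · rcases s1 with rfl | s1
        · exact Or.inr (Or.inr ⟨rfl, (r2 ((dvd_mul_left 2 r).trans hrs)).resolve_left hne⟩)
        · exact Or.inl ⟨r1, s1⟩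
    · rintro ⟨hne, hr, hs, h⟩
      refine ⟨hne, hr, hs, ?_⟩
      have hcop : Nat.Coprime r s := (Nat.coprime_primes hr hs).mpr hne
      have h2 : 2 ∣ 2 ^ m := dvd_pow_self 2 (by omega)
      rcases h with ⟨h1, h1'⟩ | ⟨rfl, h1⟩ | ⟨rfl, h1⟩
      · have cuspm : ∀ {x y : ℕ}, x.Prime → y.Prime → x ≠ y → x ∣ q - 1 → y ∣ q ^ 2 + 1 →
            ∃ d ∈ charDegrees S, x * y ∣ d := by
          intro x y hx hy hxy hx1 hy1
          rw [← hprod] at hy1
          rcases hy.dvd_mul.mp hy1 with h | h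
          · exact ⟨_, mem ((q - 1) * aMinus m) (by simp), Nat.mul_dvd_mul hx1 h⟩
          · exact ⟨_, mem ((q - 1) * aPlus m) (by simp), Nat.mul_dvd_mul hx1 h⟩
        rcases hr.dvd_mul.mp h1 with h | h <;> rcases hs.dvd_mul.mp h1' with h' | h'
        · exact ⟨_, mem ((q - 1) * 2 ^ m) (by simp), (hcop.mul_dvd_of_dvd_of_dvd h h').mul_right _⟩
        · exact cuspm hr hs hne h h'
        · obtain ⟨d, hd, hd'⟩ := cuspm hs hr (Ne.symm hne) h' h
          exact ⟨d, hd, by rwa [mul_comm]⟩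
        · exact ⟨_, mem (q ^ 2 + 1) (by simp), hcop.mul_dvd_of_dvd_of_dvd h h'⟩
      · exact ⟨_, mem ((q - 1) * 2 ^ m) (by simp), by rw [mul_comm]; exact Nat.mul_dvd_mul h1 h2⟩
      · exact ⟨_, mem ((q - 1) * 2 ^ m) (by simp), Nat.mul_dvd_mul h1 h2⟩

end Cfsg.Agent.Suzuki
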