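import Cfsg.Agent.Suzuki.SubgroupsEven

/-!
The subgroups of the Suzuki group.
-/

set_option autoImplicit false

open Cfsg MulAction
open scoped Pointwise

namespace Cfsg.Agent.Suzuki

variable {F : Type*} [Field F] [Fintype F] (m : ℕ) [SzField F m]

/-- The three possibilities for a subgroup. -/
def SubgroupType (M : Subgroup (Cfsg.Sz F m)) : Prop :=
  (∃ p : suzukiOvoid F m, ∀ g ∈ M, g • p = p) ∨
    (∃ V : Subgroup (Cfsg.Sz F m), IsCyclic V ∧
      (Nat.card V = 2 ^ (2 * m + 1) - 1 ∨ Nat.card V = aPlus m ∨ Nat.card V = aMinus m) ∧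
      M ≤ Subgroup.normalizer (V : Set (Cfsg.Sz F m))) ∨
    (∃ k, 1 ≤ k ∧ 2 * k + 1 ∣ 2 * m + 1 ∧ ∃ c : Cfsg.Sz F m, M.map (MulAut.conj c).toMonoidHom = sub m k)

variable {m}

theorem map_conj_conj {G : Type*} [Group G] (H : Subgroup G) (c d : G) :
    (H.map (MulAut.conj c).toMonoidHom).map (MulAut.conj d).toMonoidHom =
      H.map (MulAut.conj (d * c)).toMonoidHom := by
  ext x
  simp only [mem_map_conj_iff, mul_inv_rev, mul_assoc]

theorem SubgroupType.of_conj {M : Subgroup (Cfsg.Sz F m)} (c : Cfsg.Sz F m)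
    (h : SubgroupType m (M.map (MulAut.conj c).toMonoidHom)) : SubgroupType m M := by
  rcases h with ⟨p, hp⟩ | ⟨V, hc, hn, hle⟩ | ⟨k, hk, hd, d, hd'⟩
  · refine Or.inl ⟨c⁻¹ • p, fun g hg => ?_⟩
    have h := hp (c * g * c⁻¹) ⟨g, hg, rfl⟩
    rw [mul_smul, mul_smul] at h
    exact eq_inv_smul_iff.mpr h
  · refine Or.inr (Or.inl ⟨V.map (MulAut.conj c⁻¹).toMonoidHom, ?_, ?_, ?_⟩)
    · exact isCyclic_of_surjective (V.equivMapOfInjective _ (MulAut.conj c⁻¹).injective).toMonoidHom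
        (V.equivMapOfInjective _ (MulAut.conj c⁻¹).injective).surjective
    · rwa [← Nat.card_congr (V.equivMapOfInjective _ (MulAut.conj c⁻¹).injective).toEquiv]
    · intro g hg
      have h := Subgroup.mem_normalizer_iff.mp (hle ⟨g, hg, rfl⟩)
      rw [Subgroup.mem_normalizer_iff]
      intro x
      simp only [mem_map_conj_iff, inv_inv]
      have := h (c * x * c⁻¹)
      simp only [MulEquiv.coe_toMonoidHom, MulAut.conj_apply] at this
      rw [this]
      constructor <;> intro hh <;> simpa [mul_assoc] using hh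
  · exact Or.inr (Or.inr ⟨k, hk, hd, d * c, by rw [← map_conj_conj]; exact hd'⟩)

variable (m)

theorem one_lt_card_of_mem {G : Type*} [Group G] [Finite G] {H : Subgroup G} {g : G} (hg : g ∈ H)
    (hg1 : g ≠ 1) : 1 < Nat.card H :=
  Finite.one_lt_card_iff_nontrivial.mpr ⟨⟨⟨g, hg⟩, 1, fun h => hg1 (congrArg Subtype.val h)⟩⟩

/-- An element is of 2-power order or lies in a cyclic part. -/
theorem exists_cyclic_part {g : Cfsg.Sz F m} :
    (∃ i, orderOf g = 2 ^ i) ∨
    ∃ V : Subgroup (Cfsg.Sz F m), IsPart m V ∧ IsCyclic V ∧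
      (Nat.card V = 2 ^ (2 * m + 1) - 1 ∨ Nat.card V = aPlus m ∨ Nat.card V = aMinus m) ∧ g ∈ V := by
  obtain ⟨V, hV, hgV⟩ := exists_part m (g := g)
  rcases hV with ⟨P, rfl⟩ | h
  · obtain ⟨i, hi⟩ := IsPGroup.iff_orderOf.mp P.2 ⟨g, hgV⟩
    exact Or.inl ⟨i, by rwa [Subgroup.orderOf_mk] at hi⟩
  · exact Or.inr ⟨V, Or.inr h, h.1, h.2, hgV⟩

theorem three_le_card_inf {M V : Subgroup (Cfsg.Sz F m)}
    (hn : Nat.card V = 2 ^ (2 * m + 1) - 1 ∨ Nat.card V = aPlus m ∨ Nat.card V = aMinus m)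
    {g : Cfsg.Sz F m} (hg : g ∈ M) (hgV : g ∈ V) (hg1 : g ≠ 1) :
    3 ≤ Nat.card (M ⊓ V : Subgroup (Cfsg.Sz F m)) := by
  have h1 := one_lt_card_of_mem (show g ∈ M ⊓ V from ⟨hg, hgV⟩) hg1
  rcases Nat.lt_or_ge 2 (Nat.card (M ⊓ V : Subgroup (Cfsg.Sz F m))) with h | h
  · omega
  exfalso
  have h2 : Nat.card (M ⊓ V : Subgroup (Cfsg.Sz F m)) = 2 := by omega
  have hdvd : orderOf g ∣ 2 := h2 ▸ Subgroup.orderOf_dvd_natCard _ (show g ∈ M ⊓ V from ⟨hg, hgV⟩)
  have hc := cyclic_part_orderOf m hn hgV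
  rcases (Nat.dvd_prime Nat.prime_two).mp hdvd with h3 | h3
  · exact hg1 (orderOf_eq_one_iff.mp h3)
  · exact odd_compl (F := F) m (h3 ▸ hc)

theorem classSet_bound {M V : Subgroup (Cfsg.Sz F m)} (hV : IsPart m V) (hc : IsCyclic V)
    (hn : Nat.card V = 2 ^ (2 * m + 1) - 1 ∨ Nat.card V = aPlus m ∨ Nat.card V = aMinus m)
    {g : Cfsg.Sz F m} (hg : g ∈ M) (hgV : g ∈ V) (hg1 : g ≠ 1) :
    ∃ n, n ∣ 4 ∧ n ∣ Nat.card M ∧
      Nat.card (M ⊓ Subgroup.normalizer (V : Set (Cfsg.Sz F m)) : Subgroup (Cfsg.Sz F m)) =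
        n * Nat.card (M ⊓ V : Subgroup (Cfsg.Sz F m)) ∧
      2 * Nat.card M ≤ 3 * n * Nat.card (classSet m M V) ∧
      Nat.card (classSet m M V) * (n * Nat.card (M ⊓ V : Subgroup (Cfsg.Sz F m))) +
        Nat.card M = Nat.card M * Nat.card (M ⊓ V : Subgroup (Cfsg.Sz F m)) := by
  obtain ⟨n, h4, hN⟩ := card_inf_normalizer_dvd m (M := M) hc hn
  have h3 := three_le_card_inf m hn hg hgV hg1
  have hW := card_classSet m (M := M) hV
  rw [hN] at hW
  have hdvd := Subgroup.card_dvd_of_le (inf_le_left (a := M)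
    (b := Subgroup.normalizer (V : Set (Cfsg.Sz F m))))
  rw [hN] at hdvd
  refine ⟨n, h4, (dvd_mul_right _ _).trans hdvd, hN, ?_, ?_⟩
  · set y := Nat.card (M ⊓ V : Subgroup (Cfsg.Sz F m))
    refine Nat.le_of_mul_le_mul_right ?_ (show 0 < y by omega)
    calc 2 * Nat.card M * y ≤ 3 * (Nat.card M * (y - 1)) := by
          rw [mul_comm 2, mul_assoc, mul_left_comm 3]
          exact Nat.mul_le_mul_left _ (by omega)
      _ = 3 * n * Nat.card (classSet m M V) * y := by rw [← hW]; ring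
  · set y := Nat.card (M ⊓ V : Subgroup (Cfsg.Sz F m))
    rw [hW]
    conv_lhs => enter [2]; rw [← mul_one (Nat.card M)]
    rw [← Nat.mul_add, Nat.sub_add_cancel (by omega)]

theorem classSet_union_card {M : Subgroup (Cfsg.Sz F m)} {S : Set (Cfsg.Sz F m)}
    (h : S ⊆ {g | g ∈ M ∧ g ≠ 1}) : Nat.card S + 1 ≤ Nat.card M := by
  classical
  have h1 : ({g | g ∈ M ∧ g ≠ 1} : Set (Cfsg.Sz F m)) = (M : Set (Cfsg.Sz F m)) \ {1} := by
    ext g; simp
  have h2 := Set.ncard_le_ncard h (Set.toFinite _)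
  rw [h1, Set.ncard_sdiff_singleton_of_mem (one_mem M)] at h2
  have h3 : (M : Set (Cfsg.Sz F m)).ncard = Nat.card M := (Nat.card_coe_set_eq _).symm
  rw [Nat.card_coe_set_eq]
  have : 0 < Nat.card M := Nat.card_pos
  omega

theorem classSet_union_card_eq {M : Subgroup (Cfsg.Sz F m)} {S : Set (Cfsg.Sz F m)}
    (h : S = {g | g ∈ M ∧ g ≠ 1}) : Nat.card S + 1 = Nat.card M := by
  have h1 : ({g | g ∈ M ∧ g ≠ 1} : Set (Cfsg.Sz F m)) = (M : Set (Cfsg.Sz F m)) \ {1} := by
    ext g; simp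
  have h3 : (M : Set (Cfsg.Sz F m)).ncard = Nat.card M := (Nat.card_coe_set_eq _).symm
  rw [Nat.card_coe_set_eq, h, h1, Set.ncard_sdiff_singleton_of_mem (one_mem M), h3]
  have : 0 < Nat.card M := Nat.card_pos
  omega

theorem odd_case {M : Subgroup (Cfsg.Sz F m)} (hodd : ¬ 2 ∣ Nat.card M) (hne : M ≠ ⊥) :
    ∃ V : Subgroup (Cfsg.Sz F m), IsCyclic V ∧
      (Nat.card V = 2 ^ (2 * m + 1) - 1 ∨ Nat.card V = aPlus m ∨ Nat.card V = aMinus m) ∧ M ≤ V := by
  have hpart : ∀ g ∈ M, g ≠ 1 → ∃ V : Subgroup (Cfsg.Sz F m), IsPart m V ∧ IsCyclic V ∧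
      (Nat.card V = 2 ^ (2 * m + 1) - 1 ∨ Nat.card V = aPlus m ∨ Nat.card V = aMinus m) ∧ g ∈ V := by
    intro g hg hg1
    rcases exists_cyclic_part m (g := g) with ⟨i, hi⟩ | h
    · refine absurd ?_ hodd
      have h0 : i ≠ 0 := fun h => hg1 (orderOf_eq_one_iff.mp (by rw [hi, h, pow_zero]))
      exact (dvd_pow_self 2 h0).trans (hi ▸ Subgroup.orderOf_dvd_natCard _ hg)
    · exact h
  have hn1 : ∀ n, n ∣ 4 → n ∣ Nat.card M → n = 1 := by
    intro n h4 hn
    obtain ⟨i, -, rfl⟩ := (Nat.dvd_prime_pow Nat.prime_two).mp (show n ∣ 2 ^ 2 from h4)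
    rcases Nat.eq_zero_or_pos i with h | h
    · rw [h, pow_zero]
    · exact absurd ((dvd_pow_self 2 h.ne').trans hn) hodd
  obtain ⟨g, hg, hg1⟩ : ∃ g ∈ M, g ≠ 1 := by
    by_contra! h
    exact hne ((Subgroup.eq_bot_iff_forall _).mpr h)
  obtain ⟨V, hV, hc, hn, hgV⟩ := hpart g hg hg1
  obtain ⟨n, h4, hnM, hN, hb, he⟩ := classSet_bound m hV hc hn hg hgV hg1
  obtain rfl := hn1 n h4 hnM
  have hall : classSet m M V = {g | g ∈ M ∧ g ≠ 1} := by
    refine Set.Subset.antisymm classSet_subset (fun x hx => ?_)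
    by_contra hxV
    obtain ⟨V', hV', hc', hn', hxV'⟩ := hpart x hx.1 hx.2
    obtain ⟨n', h4', hnM', hN', hb', he'⟩ := classSet_bound m hV' hc' hn' hx.1 hxV' hx.2
    obtain rfl := hn1 n' h4' hnM'
    have hdis : Disjoint (classSet m M V) (classSet m M V') := by
      refine disjoint_classSet m hV hV' (fun y hy hyV' hy1 hyC => hxV ?_)
      obtain ⟨a, ha, z, hz, hz1, rfl⟩ := hyC
      have heq : V.map (MulAut.conj a).toMonoidHom = V' :=
        part_unique m (isPart_conj m a hV) hV' (mem_map_conj_iff.mpr (by simpa [mul_assoc] using hz.2))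
          hyV' hy1
      rw [← heq, mem_map_conj_iff] at hxV'
      refine ⟨a, ha, a⁻¹ * x * a, ⟨M.mul_mem (M.mul_mem (M.inv_mem ha) hx.1) ha, hxV'⟩, fun h => hx.2 ?_,
        by group⟩
      calc x = a * (a⁻¹ * x * a) * a⁻¹ := by group
        _ = 1 := by rw [h]; group
    have hu := classSet_union_card m (Set.union_subset (classSet_subset (M := M) (V := V))
      (classSet_subset (M := M) (V := V')))
    rw [Nat.card_coe_set_eq, Set.ncard_union_eq hdis, ← Nat.card_coe_set_eq, ← Nat.card_coe_set_eq] at hu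
    omega
  have hM := classSet_union_card_eq m hall
  refine ⟨V, hc, hn, ?_⟩
  have heq : M ⊓ V = M := by
    refine Subgroup.eq_of_le_of_card_ge inf_le_left (le_of_eq ?_)
    rw [one_mul] at he
    rw [← hM, Nat.add_mul, one_mul] at he
    omega
  exact inf_eq_left.mp heq

theorem even_case {M : Subgroup (Cfsg.Sz F m)} (hu1 : u m 0 1 ∈ M) {g₀ : Cfsg.Sz F m} (hg₀ : g₀ ∈ M)
    (hg₀B : g₀ ∉ B m) (hBU : M ⊓ B m ≤ U m) :
    ∃ V : Subgroup (Cfsg.Sz F m), IsCyclic V ∧
      (Nat.card V = 2 ^ (2 * m + 1) - 1 ∨ Nat.card V = aPlus m ∨ Nat.card V = aMinus m) ∧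
      M ≤ Subgroup.normalizer (V : Set (Cfsg.Sz F m)) := by
  have : Fact (Nat.Prime 2) := ⟨Nat.prime_two⟩
  have h11 : u m (0 : F) 1 * u m 0 1 = 1 := by rw [u_sq]; simp
  have h12 : u m (0 : F) 1 ≠ 1 := fun h => one_ne_zero ((u_eq_one m).mp h).2
  have hU : IsPart m (U m : Subgroup (Cfsg.Sz F m)) := Or.inl ⟨sylowU m, rfl⟩
  set P : Subgroup (Cfsg.Sz F m) := M ⊓ U m with hP
  have hPB : M ⊓ B m = P := le_antisymm (le_inf inf_le_left hBU) (inf_le_inf_left M (U_le_B m))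
  set p := Nat.card P with hp
  have hp2 : 2 ≤ p := one_lt_card_of_mem (show u m 0 1 ∈ P from ⟨hu1, u_mem_U m 0 1⟩) h12
  have hWU : Nat.card (classSet m M (U m)) * p + Nat.card M = Nat.card M * p := by
    have h := card_classSet m (M := M) hU
    rw [normalizer_U, hPB, ← hP, ← hp] at h
    rw [h]
    conv_lhs => enter [2]; rw [← mul_one (Nat.card M)]
    rw [← Nat.mul_add, Nat.sub_add_cancel (by omega)]
  have h2part : ∀ g ∈ M, g ≠ 1 → g ∉ classSet m M (U m) →
      ∃ V : Subgroup (Cfsg.Sz F m), IsPart m V ∧ IsCyclic V ∧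
      (Nat.card V = 2 ^ (2 * m + 1) - 1 ∨ Nat.card V = aPlus m ∨ Nat.card V = aMinus m) ∧ g ∈ V := by
    intro g hg hg1 hgU
    rcases exists_cyclic_part m (g := g) with ⟨i, hi⟩ | h
    · exfalso
      obtain ⟨q, hq, hq'⟩ := exists_unique_fixed m hi hg1
      have key : ∀ x ∈ M, x • oInf m = q → False := by
        intro x hx hxq
        have hB : x⁻¹ * g * x ∈ B m := by
          rw [mem_B, mul_smul, mul_smul, hxq, hq, inv_smul_eq_iff, hxq]
        refine hgU ⟨x, hx, x⁻¹ * g * x, ⟨M.mul_mem (M.mul_mem (M.inv_mem hx) hg) hx,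
          hBU ⟨M.mul_mem (M.mul_mem (M.inv_mem hx) hg) hx, hB⟩⟩, fun h => hg1 ?_, by group⟩
        calc g = x * (x⁻¹ * g * x) * x⁻¹ := by group
          _ = 1 := by rw [h]; group
      by_cases hq0 : q = oInf m
      · exact key 1 (one_mem M) (by rw [one_smul, hq0])
      have hi0 : 0 < i := Nat.pos_of_ne_zero fun h => hg1 (orderOf_eq_one_iff.mp (by rw [hi, h, pow_zero]))
      set j := g ^ 2 ^ (i - 1) with hj
      have hj2 : j * j = 1 := by
        rw [hj, ← pow_add, ← two_mul, ← pow_succ', Nat.sub_add_cancel hi0, ← hi, pow_orderOf_eq_one]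
      have hj1 : j ≠ 1 := pow_ne_one_of_lt_orderOf (by positivity)
        (by rw [hi]; exact Nat.pow_lt_pow_right (by norm_num) (by omega))
      have hjq : j • q = q := by
        have hst : g ∈ MulAction.stabilizer (Cfsg.Sz F m) q := hq
        exact pow_mem hst _
      obtain ⟨x, hx, hxe⟩ := involutions_conj m hu1 (pow_mem hg _) h11 hj2 h12 hj1 (fun r hr hjr => by
        rw [U_fixed m (u_mem_U m 0 1) h12 hr] at hjr
        exact hq0 (fixed_unique m hj2 hj1 hjq hjr))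
      refine key x hx (fixed_unique m hj2 hj1 ?_ hjq)
      rw [hj, ← hxe, mul_smul, mul_smul, inv_smul_smul, u_smul_oInf]
    · exact h
  -- the Sylow 2-subgroup
  have h4p : 4 ∣ Nat.card M → 4 ∣ p := by
    intro h4
    have hP2 : IsPGroup 2 P := (sylowU (F := F) m).2.to_le (by
      rw [coe_sylowU]; exact inf_le_right)
    obtain ⟨Q, hQ⟩ := (hP2.comap_subtype (K := M)).exists_le_sylow
    have hu1Q : (⟨u m 0 1, hu1⟩ : M) ∈ (Q : Subgroup M) := hQ ⟨hu1, u_mem_U m 0 1⟩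
    have : Nontrivial (Q : Subgroup M) :=
      ⟨⟨⟨_, hu1Q⟩, 1, fun h => h12 (congrArg (fun x : (Q : Subgroup M) => (x.1 : Cfsg.Sz F m)) h)⟩⟩
    have hcn : Nontrivial (Subgroup.center (Q : Subgroup M)) := Q.2.center_nontrivial
    obtain ⟨z, hz⟩ := exists_ne (1 : Subgroup.center (Q : Subgroup M))
    set z' : Cfsg.Sz F m := z.1.1.1 with hz'
    have hz1 : z' ≠ 1 := fun h => hz (Subtype.ext (Subtype.ext (Subtype.ext h)))
    have hcomm : ∀ x : (Q : Subgroup M), (x.1 : Cfsg.Sz F m) ∈ Subgroup.centralizer {z'} := by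
      intro x
      rw [Subgroup.mem_centralizer_singleton_iff]
      exact congrArg (fun y : (Q : Subgroup M) => (y.1 : Cfsg.Sz F m)) (Subgroup.mem_center_iff.mp z.2 x)
    have hzU : z' ∈ U m := by
      refine centralizer_U_le m (u_mem_U m 0 1) h12 ?_
      rw [Subgroup.mem_centralizer_singleton_iff]
      exact (Subgroup.mem_centralizer_singleton_iff.mp (hcomm ⟨_, hu1Q⟩)).symm
    have hle : (Q : Subgroup M).map M.subtype ≤ P := by
      rintro _ ⟨x, hx, rfl⟩
      exact ⟨x.2, centralizer_U_le m hzU hz1 (hcomm ⟨x, hx⟩)⟩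
    have h := Subgroup.card_dvd_of_le hle
    rw [← Nat.card_congr ((Q : Subgroup M).equivMapOfInjective _ M.subtype_injective).toEquiv] at h
    exact (Q.pow_dvd_card_of_pow_dvd_card (n := 2) h4).trans h
  have hdisU : ∀ V : Subgroup (Cfsg.Sz F m), IsPart m V →
      (Nat.card V = 2 ^ (2 * m + 1) - 1 ∨ Nat.card V = aPlus m ∨ Nat.card V = aMinus m) →
      Disjoint (classSet m M (U m)) (classSet m M V) := by
    intro V hV hn
    refine disjoint_classSet m hU hV (fun y _ hyV hy1 hyC => hy1 ?_)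
    obtain ⟨a, _, z, hz, -, rfl⟩ := hyC
    have h1 : orderOf (a * z * a⁻¹) ∣ Nat.card F ^ 2 := by
      rw [← MulAut.conj_apply, MulEquiv.orderOf_eq, ← card_U (F := F) m]
      exact Subgroup.orderOf_dvd_natCard _ hz.2
    rw [card_nat (F := F) m, ← pow_mul] at h1
    obtain ⟨i, -, hi⟩ := (Nat.dvd_prime_pow Nat.prime_two).mp h1
    rw [← orderOf_eq_one_iff]
    exact Nat.eq_one_of_dvd_coprimes
      (((Nat.prime_two.coprime_iff_not_dvd).mpr (odd_compl (F := F) m)).pow_left i) (dvd_of_eq hi)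
      (cyclic_part_orderOf m hn hyV)
  -- there is an element outside the class of U
  obtain ⟨g, hg, hg1, hgU⟩ : ∃ g, g ∈ M ∧ g ≠ 1 ∧ g ∉ classSet m M (U m) := by
    by_contra! h
    have he := classSet_union_card_eq m (show classSet m M (U m) = {g | g ∈ M ∧ g ≠ 1} from
      Set.Subset.antisymm classSet_subset (fun g hg => h g hg.1 hg.2))
    have h1 : Nat.card M = p := by
      rw [← he, Nat.add_mul, one_mul] at hWU
      omega
    have : P = M := Subgroup.eq_of_le_of_card_ge inf_le_left h1.le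
    exact hg₀B (U_le_B m (this ▸ hg₀ : g₀ ∈ P).2)
  have hbound : ∀ n, n ∣ 4 → n ∣ Nat.card M → 2 * p < 3 * n → n = p := by
    intro n h4 hn h
    obtain ⟨i, hi, rfl⟩ := (Nat.dvd_prime_pow Nat.prime_two).mp (show n ∣ 2 ^ 2 from h4)
    interval_cases i
    · omega
    · omega
    · obtain ⟨c, hc⟩ := h4p hn
      omega
  obtain ⟨V, hV, hc, hn, hgV⟩ := h2part g hg hg1 hgU
  obtain ⟨n, h4, hnM, hN, hb, he⟩ := classSet_bound m hV hc hn hg hgV hg1
  have hsub1 := Set.union_subset (classSet_subset (M := M) (V := U m)) (classSet_subset (M := M) (V := V))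
  have hu := classSet_union_card m hsub1
  rw [Nat.card_coe_set_eq, Set.ncard_union_eq (hdisU V hV hn), ← Nat.card_coe_set_eq,
    ← Nat.card_coe_set_eq] at hu
  have hnp : n = p := by
    refine hbound n h4 hnM ?_
    by_contra hlt
    push Not at hlt
    nlinarith [hWU, hb, hu, Nat.mul_le_mul_right (Nat.card (classSet m M V)) hlt,
      Nat.card_pos (α := M)]
  have hall : classSet m M (U m) ∪ classSet m M V = {g | g ∈ M ∧ g ≠ 1} := by
    refine Set.Subset.antisymm hsub1 (fun x hx => ?_)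
    by_contra hxV
    rw [Set.mem_union, not_or] at hxV
    obtain ⟨V', hV', hc', hn', hxV'⟩ := h2part x hx.1 hx.2 hxV.1
    obtain ⟨n', h4', hnM', hN', hb', he'⟩ := classSet_bound m hV' hc' hn' hx.1 hxV' hx.2
    have hdis : Disjoint (classSet m M V) (classSet m M V') := by
      refine disjoint_classSet m hV hV' (fun y hy hyV' hy1 hyC => hxV.2 ?_)
      obtain ⟨a, ha, z, hz, hz1, rfl⟩ := hyC
      have heq : V.map (MulAut.conj a).toMonoidHom = V' :=
        part_unique m (isPart_conj m a hV) hV' (mem_map_conj_iff.mpr (by simpa [mul_assoc] using hz.2))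
          hyV' hy1
      rw [← heq, mem_map_conj_iff] at hxV'
      refine ⟨a, ha, a⁻¹ * x * a, ⟨M.mul_mem (M.mul_mem (M.inv_mem ha) hx.1) ha, hxV'⟩, fun h => hx.2 ?_,
        by group⟩
      calc x = a * (a⁻¹ * x * a) * a⁻¹ := by group
        _ = 1 := by rw [h]; group
    have hu' := classSet_union_card m (Set.union_subset hsub1 (classSet_subset (M := M) (V := V')))
    rw [Nat.card_coe_set_eq, Set.ncard_union_eq (Disjoint.union_left (hdisU V' hV' hn') hdis),
      Set.ncard_union_eq (hdisU V hV hn), ← Nat.card_coe_set_eq, ← Nat.card_coe_set_eq,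
      ← Nat.card_coe_set_eq] at hu'
    have hn'p : n' = p := by
      refine hbound n' h4' hnM' ?_
      by_contra hlt
      push Not at hlt
      nlinarith [hWU, hb', hu', Nat.mul_le_mul_right (Nat.card (classSet m M V')) hlt,
        Nat.card_pos (α := M)]
    subst hnp
    rw [hn'p] at hb'
    nlinarith [hWU, hb, hb', hu']
  have hM := classSet_union_card_eq m hall
  rw [Nat.card_coe_set_eq, Set.ncard_union_eq (hdisU V hV hn), ← Nat.card_coe_set_eq,
    ← Nat.card_coe_set_eq] at hM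
  refine ⟨V, hc, hn, ?_⟩
  have heq : M ⊓ Subgroup.normalizer (V : Set (Cfsg.Sz F m)) = M := by
    refine Subgroup.eq_of_le_of_card_ge inf_le_left (le_of_eq ?_)
    rw [hN, hnp]
    rw [hnp] at he
    nlinarith [hWU, he, hM]
  exact inf_eq_left.mp heq

theorem subgroup_type (M : Subgroup (Cfsg.Sz F m)) : SubgroupType m M := by
  have : Fact (Nat.Prime 2) := ⟨Nat.prime_two⟩
  by_cases hbot : M = ⊥
  · refine Or.inl ⟨oInf m, fun g hg => ?_⟩
    rw [hbot, Subgroup.mem_bot] at hg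
    rw [hg, one_smul]
  by_cases h2 : 2 ∣ Nat.card M
  · obtain ⟨i, hi⟩ := exists_prime_orderOf_dvd_card' 2 h2
    have hi2 : (i : Cfsg.Sz F m) * i = 1 := by
      rw [← pow_two, ← hi, ← Subgroup.orderOf_coe]; exact pow_orderOf_eq_one _
    have hi1 : (i : Cfsg.Sz F m) ≠ 1 := fun h => by
      rw [← Subgroup.orderOf_coe, h, orderOf_one] at hi; exact absurd hi (by decide)
    obtain ⟨p, hp, -⟩ := exists_unique_fixed m (i := 1) (by rw [Subgroup.orderOf_coe, hi, pow_one]) hi1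
    obtain ⟨c, hc⟩ := exists_smul_eq (Cfsg.Sz F m) p (oInf m : suzukiOvoid F m)
    have hj : c * i * c⁻¹ ∈ U m := by
      refine mem_U_of_sq m ?_ ?_
      · rw [show c * (i : Cfsg.Sz F m) * c⁻¹ * (c * i * c⁻¹) = c * (i * i) * c⁻¹ by group, hi2, mul_one,
          mul_inv_cancel]
      · rw [mem_B, mul_smul, mul_smul, ← hc, inv_smul_smul, hp]
    obtain ⟨b, hb⟩ := mem_Z_of_sq hj (by
      rw [show c * (i : Cfsg.Sz F m) * c⁻¹ * (c * i * c⁻¹) = c * (i * i) * c⁻¹ by group, hi2, mul_one,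
        mul_inv_cancel])
    have hb0 : b ≠ 0 := fun h => hi1 (by
      rw [h, u_zero, conj_eq_one_iff] at hb; exact hb)
    obtain ⟨s, hs⟩ := (sq_mul_th_bijective (F := F) m).2 b⁻¹
    dsimp only at hs
    have hs0 : s ≠ 0 := fun h => by
      rw [h] at hs; simp at hs; exact hb0 hs.symm
    refine SubgroupType.of_conj (t m (Units.mk0 s hs0) * c) ?_
    set M' := M.map (MulAut.conj (t m (Units.mk0 s hs0) * c)).toMonoidHom with hM'
    have hu1 : u m 0 1 ∈ M' := by
      refine ⟨i, i.2, ?_⟩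
      simp only [MulEquiv.coe_toMonoidHom, MulAut.conj_apply]
      rw [show t m (Units.mk0 s hs0) * c * (i : Cfsg.Sz F m) * (t m (Units.mk0 s hs0) * c)⁻¹ =
        t m (Units.mk0 s hs0) * (c * i * c⁻¹) * (t m (Units.mk0 s hs0))⁻¹ by group, hb, t_u,
        Units.val_mk0, hs, inv_mul_cancel₀ hb0, mul_zero]
    by_cases hfix : ∀ g ∈ M', g • oInf m = (oInf m : suzukiOvoid F m)
    · exact Or.inl ⟨oInf m, hfix⟩
    push Not at hfix
    obtain ⟨g₀, hg₀, hg₀B⟩ := hfix
    by_cases hBU : M' ⊓ B m ≤ U m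
    · exact Or.inr (Or.inl (even_case m hu1 hg₀ hg₀B hBU))
    obtain ⟨g, hg, hgU⟩ := SetLike.not_le_iff_exists.mp hBU
    obtain ⟨q, hq, hgq⟩ := exists_second_fixed m hg.2 hgU
    rcases ovoid_cases q with h | ⟨x, y, rfl⟩
    · exact absurd h hq
    refine SubgroupType.of_conj (u m x y)⁻¹ ?_
    set M'' := M'.map (MulAut.conj (u m x y)⁻¹).toMonoidHom
    have hu1' : u m 0 1 ∈ M'' := by
      rw [mem_map_conj_iff, inv_inv]
      have hc : u m x y * u m 0 1 * (u m x y)⁻¹ = u m 0 1 := by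
        rw [u_conj]; simp
      rwa [hc]
    obtain ⟨s₀, hs₀⟩ := exists_t_of_fixed m (g := (u m x y)⁻¹ * g * u m x y)
      (by rw [mul_smul, mul_smul, u_smul_oInf, hg.2, inv_smul_eq_iff, u_smul_oInf])
      (by
        have e : u m x y • oPt m (0 : F) 0 = oPt m x y := by simp [u_smul_oPt]
        rw [mul_smul, mul_smul, e, hgq, inv_smul_eq_iff, e])
    have hs₀1 : s₀ ≠ 1 := by
      rintro rfl
      rw [map_one] at hs₀
      have hg1 : g = 1 := by
        calc g = u m x y * ((u m x y)⁻¹ * g * u m x y) * (u m x y)⁻¹ := by group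
          _ = 1 := by rw [hs₀]; group
      exact hgU (hg1 ▸ one_mem _)
    have ht₀ : t m s₀ ∈ M'' := by
      rw [← hs₀]
      exact ⟨g, hg.1, by simp⟩
    have hg₁ : (u m x y)⁻¹ * g₀ * u m x y ∈ M'' := ⟨g₀, hg₀, by simp⟩
    have hg₁B : (u m x y)⁻¹ * g₀ * u m x y ∉ B m := by
      intro h
      rw [mem_B, mul_smul, mul_smul, u_smul_oInf, inv_smul_eq_iff, u_smul_oInf] at h
      exact hg₀B h
    obtain ⟨k, hk, hd, he⟩ := exists_eq_sub m hg₁ hg₁B hu1' hs₀1 ht₀
    exact Or.inr (Or.inr ⟨k, hk, hd, 1, by rw [← he, map_one]; exact Subgroup.map_id _⟩)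
  · obtain ⟨V, hc, hn, hle⟩ := odd_case m h2 hbot
    exact Or.inr (Or.inl ⟨V, hc, hn, hle.trans Subgroup.le_normalizer⟩)

/-- A subgroup fixing a point lies in a Sylow 2-normaliser. -/
theorem le_normalizer_sylow {M : Subgroup (Cfsg.Sz F m)} {p : suzukiOvoid F m}
    (h : ∀ g ∈ M, g • p = p) :
    ∃ P : Sylow 2 (Cfsg.Sz F m),
      M ≤ Subgroup.normalizer ((P : Subgroup (Cfsg.Sz F m)) : Set (Cfsg.Sz F m)) := by
  obtain ⟨k, hk⟩ := exists_smul_eq (Cfsg.Sz F m) (oInf m : suzukiOvoid F m) p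
  refine ⟨(sylowU m).mapSurjective (f := (MulAut.conj k).toMonoidHom) (MulAut.conj k).surjective, ?_⟩
  intro g hg
  have hB : k⁻¹ * g * k ∈ B m := by
    rw [mem_B, mul_smul, mul_smul, hk, h g hg, inv_smul_eq_iff, hk]
  rw [← normalizer_U] at hB
  rw [Subgroup.mem_normalizer_iff]
  intro x
  show x ∈ (U m : Subgroup (Cfsg.Sz F m)).map (MulAut.conj k).toMonoidHom ↔
    g * x * g⁻¹ ∈ (U m : Subgroup (Cfsg.Sz F m)).map (MulAut.conj k).toMonoidHom
  rw [mem_map_conj_iff, mem_map_conj_iff]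
  convert Subgroup.mem_normalizer_iff.mp hB (k⁻¹ * x * k) using 2
  group

end Cfsg.Agent.Suzuki

namespace Cfsg.Agent.Suzuki

variable {F : Type*} [Field F] [Fintype F] (m : ℕ) [SzField F m]

theorem card_sub_lt {i j : ℕ} (hi : 1 ≤ i) (hid : 2 * i + 1 ∣ 2 * m + 1)
    (hj : 1 ≤ j) (hjd : 2 * j + 1 ∣ 2 * m + 1) (h : i < j) :
    Nat.card (sub (F := F) m i) < Nat.card (sub (F := F) m j) := by
  rw [card_sub m hi hid, card_sub m hj hjd]
  have h1 : 2 ^ (2 * i + 1) < 2 ^ (2 * j + 1) := Nat.pow_lt_pow_right (by norm_num) (by omega)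
  have h2 : 2 ^ (2 * i + 1) - 1 < 2 ^ (2 * j + 1) - 1 := by
    have := Nat.one_le_two_pow (n := 2 * i + 1)
    omega
  have h4 : (2 ^ (2 * i + 1)) ^ 2 < (2 ^ (2 * j + 1)) ^ 2 := Nat.pow_lt_pow_left h1 (by norm_num)
  exact Nat.mul_lt_mul'' (Nat.mul_lt_mul'' h4 h2) (by omega)

/-- A subgroup isomorphic to a smaller Suzuki group is a subfield subgroup. -/
theorem exists_conj_sub {K : Type*} [Field K] [Fintype K] (k : ℕ) [SzField K k]
    (hdiv : 2 * k + 1 ∣ 2 * m + 1) {S : Subgroup (Cfsg.Sz F m)} (e : S ≃* Cfsg.Sz K k) :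
    ∃ c : Cfsg.Sz F m, S.map (MulAut.conj c).toMonoidHom = sub m k := by
  have hk : 1 ≤ k := SzField.pos K
  have hcard : Nat.card S = Nat.card (sub (F := F) m k) := by
    rw [Nat.card_congr e.toEquiv, card_Sz, card_nat (F := K) k, card_sub m hk hdiv]
  rcases subgroup_type m S with ⟨p, hp⟩ | ⟨V, hc, hn, hle⟩ | ⟨k', hk', hd', c, hc⟩
  · exfalso
    obtain ⟨g, hg⟩ := exists_smul_eq (Cfsg.Sz F m) p (oInf m : suzukiOvoid F m)
    let f : S →* (B m : Subgroup (Cfsg.Sz F m)) :=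
      ((MulAut.conj g).toMonoidHom.comp S.subtype).codRestrict _ (fun x => by
        show (g * x * g⁻¹) • oInf m = (oInf m : suzukiOvoid F m)
        rw [mul_smul, mul_smul, ← hg, inv_smul_smul, hp x x.2])
    have hf : Function.Injective f := fun x y h =>
      Subtype.ext ((MulAut.conj g).injective (congrArg Subtype.val h))
    have := isSolvable_B (F := F) m
    have hsol : Group.IsSolvable (Cfsg.Sz K k) :=
      Group.isSolvable_of_isSolvable_injective (f := f.comp e.symm.toMonoidHom) (hf.comp e.symm.injective)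
    have := nontrivial_Sz (F := K) k
    exact (Group.IsSolvable.commutator_lt_top_of_nontrivial (G := Cfsg.Sz K k)).ne (commutator_eq_top k)
  · exfalso
    have h1 := (Subgroup.card_dvd_of_le hle).trans (card_normalizer_dvd m hc hn)
    rw [hcard, card_sub m hk hdiv] at h1
    have hpow : (2 : ℕ) ^ 6 ∣ 4 * Nat.card V := by
      refine Dvd.dvd.trans ?_ h1
      refine Dvd.dvd.mul_right (Dvd.dvd.mul_right ?_ _) _
      rw [← pow_mul]
      exact pow_dvd_pow 2 (by omega)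
    obtain ⟨c, hc2⟩ := IsCyclic.exists_ofOrder_eq_natCard (α := V)
    have hodd := cyclic_part_orderOf m hn c.2
    rw [Subgroup.orderOf_coe, hc2] at hodd
    refine odd_compl (F := F) m (Dvd.dvd.trans ?_ hodd)
    omega
  · refine ⟨c, ?_⟩
    have h1 : Nat.card S = Nat.card (sub (F := F) m k') := by
      rw [← hc]
      exact Nat.card_congr (S.equivMapOfInjective _ (MulAut.conj c).injective).toEquiv
    rcases lt_trichotomy k' k with h | h | h
    · exact absurd (h1.symm.trans hcard) (card_sub_lt m hk' hd' hk hdiv h).ne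
    · rw [← h]; exact hc
    · exact absurd (hcard.symm.trans h1) (card_sub_lt m hk hdiv hk' hd' h).ne

theorem sub_eq_top {i : ℕ} (hi : i = m) : sub (F := F) m i = ⊤ := by
  subst hi
  refine Subgroup.eq_top_of_card_eq _ ?_
  rw [card_sub i (SzField.pos F) dvd_rfl, card_Sz, card_nat (F := F) i]

end Cfsg.Agent.Suzuki
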