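import Cfsg.Agent.Suzuki.Structure
import Cfsg.Agent.Suzuki.Lie
import Cfsg.Prelude.Def_Solvable
import Cfsg.Prelude.Def_Transfer

/-!
Automorphisms of a Sylow 2-subgroup of the Suzuki group: semilinearity of the induced map on `U/Z`,
the order of `Aut U`, and its 2-core.
-/

set_option autoImplicit false

open Cfsg

namespace Cfsg.Agent.Suzuki

/-- A homomorphism with kernel an elementary abelian 2-group and image of odd order computes the 2-core. -/
theorem pCore_two_of_odd_range {G H : Type*} [Group G] [Finite G] [Group H] (ρ : G →* H)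
    (hcomm : ∀ x ∈ ρ.ker, ∀ y ∈ ρ.ker, x * y = y * x) (hsq : ∀ x ∈ ρ.ker, x ^ 2 = 1)
    (hodd : Odd (Nat.card ρ.range)) :
    IsElementaryAbelian 2 (pCore 2 G) ∧ pCore 2 G = ρ.ker := by
  have hp : IsPGroup 2 ρ.ker := fun x => ⟨1, Subtype.ext (by simpa using hsq x x.2)⟩
  have he : pCore 2 G = ρ.ker := by
    refine le_antisymm (sSup_le ?_) (le_sSup ⟨inferInstance, hp⟩)
    rintro N ⟨-, hN⟩ x hx
    obtain ⟨k, hk⟩ := hN ⟨x, hx⟩
    have hk' : x ^ (2 ^ k) = 1 := by simpa using congrArg Subtype.val hk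
    set y : ρ.range := ⟨ρ x, x, rfl⟩ with hy
    have h1 : orderOf y ∣ 2 ^ k := orderOf_dvd_of_pow_eq_one (Subtype.ext (by
      show ρ x ^ (2 ^ k) = 1
      rw [← map_pow, hk', map_one]))
    have h2 : orderOf y ∣ Nat.card ρ.range := orderOf_dvd_natCard _
    have h3 : orderOf y = 1 := by
      refine Nat.eq_one_of_dvd_coprimes ?_ h1 h2
      exact Nat.Coprime.pow_left _ (Nat.coprime_two_left.mpr hodd)
    have h4 := orderOf_eq_one_iff.mp h3
    exact congrArg Subtype.val h4
  refine ⟨?_, he⟩
  rw [he]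
  exact ⟨⟨⟨fun x y => Subtype.ext (hcomm x x.2 y y.2)⟩⟩, hsq⟩

variable {F : Type*} [Field F] [Fintype F] (m : ℕ) [SzField F m]

/-- The powers of the Frobenius map, indexed modulo the degree of the field. -/
def fr (i : ZMod (2 * m + 1)) (a : F) : F := a ^ (2 ^ i.val)

theorem pow_two_pow_mod (a : F) (k : ℕ) : a ^ (2 ^ k) = a ^ (2 ^ (k % (2 * m + 1))) := by
  conv_lhs => rw [← Nat.div_add_mod k (2 * m + 1), pow_add, pow_mul, pow_mul]
  rw [← SzField.card_eq (F := F) (m := m), FiniteField.pow_card_pow]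

theorem fr_fr (i j : ZMod (2 * m + 1)) (a : F) : fr m i (fr m j a) = fr m (i + j) a := by
  rw [fr, fr, fr, ← pow_mul, ← pow_add, pow_two_pow_mod m a (j.val + i.val), ZMod.val_add, add_comm j.val]

theorem fr_mul (i : ZMod (2 * m + 1)) (a b : F) : fr m i (a * b) = fr m i a * fr m i b := mul_pow a b _

theorem fr_add (i : ZMod (2 * m + 1)) (a b : F) : fr m i (a + b) = fr m i a + fr m i b := by
  have := charTwo (F := F) m
  have : Fact (Nat.Prime 2) := ⟨Nat.prime_two⟩
  exact add_pow_char_pow a b 2 i.val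

omit [Fintype F] [SzField F m] in
theorem fr_zero_index (a : F) : fr m 0 a = a := by simp [fr]

theorem fr_bijective (i : ZMod (2 * m + 1)) : Function.Bijective (fr m i : F → F) := by
  refine Function.bijective_iff_has_inverse.mpr ⟨fr m (-i), fun a => ?_, fun a => ?_⟩
  · rw [fr_fr, neg_add_cancel, fr_zero_index]
  · rw [fr_fr, add_neg_cancel, fr_zero_index]

/-- The index of `th`. -/
def hh : ZMod (2 * m + 1) := ((m + 1 : ℕ) : ZMod (2 * m + 1))

theorem hh_add : hh m + hh m = 1 := by
  rw [hh, ← Nat.cast_add, show m + 1 + (m + 1) = 2 * m + 1 + 1 by ring, Nat.cast_add, ZMod.natCast_self,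
    zero_add, Nat.cast_one]

include F in
theorem two_ne_zero_zmod : (2 : ZMod (2 * m + 1)) ≠ 0 := by
  intro h
  have h1 : ((2 : ℕ) : ZMod (2 * m + 1)) = 0 := by simpa using h
  have := SzField.pos (F := F) (m := m)
  have h2 := congrArg ZMod.val h1
  rw [ZMod.val_natCast, ZMod.val_zero, Nat.mod_eq_of_lt (by omega)] at h2
  omega

theorem th_eq_fr (a : F) : th m a = fr m (hh m) a := by
  have := SzField.pos (F := F) (m := m)
  rw [th, fr, hh, ZMod.val_natCast, Nat.mod_eq_of_lt (by omega)]

theorem th_fr (i : ZMod (2 * m + 1)) (a : F) : th m (fr m i a) = fr m (i + hh m) a := by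
  rw [th_eq_fr, fr_fr, add_comm]

theorem fr_th (i : ZMod (2 * m + 1)) (a : F) : fr m i (th m a) = th m (fr m i a) := by
  rw [th_fr, th_eq_fr, fr_fr]

theorem fr_index_injective {i j : ZMod (2 * m + 1)} (h : ∀ a : F, fr m i a = fr m j a) : i = j := by
  obtain ⟨g, hg⟩ := IsCyclic.exists_generator (α := Fˣ)
  have hord : orderOf g = 2 ^ (2 * m + 1) - 1 := by
    rw [orderOf_eq_card_of_forall_mem_zpowers hg, Nat.card_units, card_nat m]
  have hlt : ∀ k : ZMod (2 * m + 1), 2 ^ k.val < orderOf g := by
    intro k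
    have h1 : 2 ^ k.val ≤ 2 ^ (2 * m) := Nat.pow_le_pow_right (by norm_num) (by have := k.val_lt; omega)
    have h2 : 2 ≤ 2 ^ (2 * m) := by
      calc 2 = 2 ^ 1 := rfl
        _ ≤ _ := Nat.pow_le_pow_right (by norm_num) (by have := SzField.pos (F := F) (m := m); omega)
    rw [hord, pow_succ]
    omega
  have he : g ^ (2 ^ i.val) = g ^ (2 ^ j.val) := Units.ext (by simpa [fr] using h g)
  exact ZMod.val_injective _ (Nat.pow_right_injective le_rfl
    (pow_injOn_Iio_orderOf (hlt i) (hlt j) he))

/-- The Frobenius powers as monoid homomorphisms. -/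
def frHom (i : ZMod (2 * m + 1)) : F →* F := powMonoidHom (2 ^ i.val)

theorem coef_zero {c : ZMod (2 * m + 1) → F} (h : ∀ a, ∑ i, c i * fr m i a = 0) (i : ZMod (2 * m + 1)) :
    c i = 0 := by
  have hli := (linearIndependent_monoidHom F F).comp (frHom (F := F) m)
    (fun i j e => fr_index_injective m fun a => DFunLike.congr_fun e a)
  refine Fintype.linearIndependent_iff.mp hli c ?_ i
  ext a
  simpa [frHom, fr] using h a

theorem quad_zero {c : ZMod (2 * m + 1) → ZMod (2 * m + 1) → F}
    (h : ∀ a, ∑ i, ∑ j, c i j * (fr m i a * fr m j a) = 0) :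
    (∀ i, c i i = 0) ∧ ∀ i j, c i j + c j i = 0 := by
  have hsym : ∀ i j, c i j + c j i = 0 := by
    have hp : ∀ a b, ∑ i, (∑ j, (c i j + c j i) * fr m j b) * fr m i a = 0 := by
      intro a b
      have h1 := h (a + b)
      simp only [fr_add, mul_add, add_mul, Finset.sum_add_distrib] at h1
      rw [h a, h b] at h1
      simp only [add_mul, Finset.sum_add_distrib, Finset.sum_mul]
      rw [zero_add, add_zero] at h1
      rw [← h1, add_comm]
      congr 1
      · rw [Finset.sum_comm]
        exact Finset.sum_congr rfl fun i _ => Finset.sum_congr rfl fun j _ => by ring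
      · exact Finset.sum_congr rfl fun i _ => Finset.sum_congr rfl fun j _ => by ring
    intro i j
    have h1 : ∀ b, ∑ j, (c i j + c j i) * fr m j b = 0 := fun b =>
      coef_zero m (c := fun i => ∑ j, (c i j + c j i) * fr m j b) (fun a => hp a b) i
    exact coef_zero m h1 j
  refine ⟨fun i => ?_, hsym⟩
  have hd : ∀ a, ∑ i, c i i * fr m (i + 1) a = 0 := by
    intro a
    have h1 := h a
    rw [← Fintype.sum_prod_type'] at h1
    rw [← Finset.sum_filter_add_sum_filter_not Finset.univ (fun p => p.1 = p.2)] at h1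
    have h2 : ∑ p ∈ Finset.univ.filter (fun p : ZMod (2 * m + 1) × ZMod (2 * m + 1) => ¬ p.1 = p.2),
        c p.1 p.2 * (fr m p.1 a * fr m p.2 a) = 0 := by
      refine Finset.sum_involution (fun p _ => p.swap) ?_ ?_ ?_ ?_
      · rintro ⟨i, j⟩ -
        show c i j * (fr m i a * fr m j a) + c j i * (fr m j a * fr m i a) = 0
        linear_combination (fr m i a * fr m j a) * hsym i j
      · rintro ⟨i, j⟩ hij - e
        simp only [Finset.mem_filter] at hij
        exact hij.2 (Prod.ext_iff.mp e).2
      · rintro ⟨i, j⟩ hij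
        simp only [Finset.mem_filter] at hij ⊢
        exact ⟨Finset.mem_univ _, fun e => hij.2 e.symm⟩
      · rintro ⟨i, j⟩ -
        rfl
    rw [h2, add_zero] at h1
    rw [← h1]
    refine Finset.sum_bij (fun i _ => (i, i)) (fun i _ => by simp) (fun i _ j _ e => (Prod.ext_iff.mp e).1)
      (fun p hp => ⟨p.1, Finset.mem_univ _, Prod.ext rfl (by simpa using hp)⟩) (fun i _ => ?_)
    show c i i * fr m (i + 1) a = c i i * (fr m i a * fr m i a)
    rw [← hh_add m, ← add_assoc, ← th_fr, ← th_fr, th_th, sq]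
  have h1 : ∀ a, ∑ j, c (j - 1) (j - 1) * fr m j a = 0 := fun a => by
    rw [← Equiv.sum_comp (Equiv.addRight (1 : ZMod (2 * m + 1)))]
    simpa using hd a
  simpa using coef_zero m h1 (i + 1)

theorem card_addHom : Nat.card (F →+ F) = Nat.card F ^ (2 * m + 1) := by
  have := charTwo (F := F) m
  let _ : Algebra (ZMod 2) F := ZMod.algebra F 2
  let b := Module.finBasis (ZMod 2) F
  have hr : Module.finrank (ZMod 2) F = 2 * m + 1 := by
    have h1 := Module.card_eq_pow_finrank (K := ZMod 2) (V := F)
    rw [ZMod.card, SzField.card_eq (m := m)] at h1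
    exact (Nat.pow_right_injective le_rfl h1).symm
  rw [Nat.card_congr ((AddMonoidHom.toZModLinearMapEquiv 2 : (F →+ F) ≃+ (F →ₗ[ZMod 2] F)).toEquiv.trans
    (b.constr ℕ).symm.toEquiv), Nat.card_fun, Nat.card_fin, hr]

/-- Every additive map is a linearised polynomial. -/
theorem exists_coef (A : F →+ F) : ∃ α : ZMod (2 * m + 1) → F, ∀ a, A a = ∑ i, α i * fr m i a := by
  let L : (ZMod (2 * m + 1) → F) → (F →+ F) := fun α => AddMonoidHom.mk' (fun a => ∑ i, α i * fr m i a)
    (fun a b => by simp only [fr_add, mul_add, Finset.sum_add_distrib])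
  have hinj : Function.Injective L := by
    intro α β e
    funext i
    have h1 : ∀ a, ∑ i, (α i + β i) * fr m i a = 0 := fun a => by
      have h2 : ∑ i, α i * fr m i a = ∑ i, β i * fr m i a := DFunLike.congr_fun e a
      simp only [add_mul, Finset.sum_add_distrib, h2]
      exact add_self m _
    exact eq_of_add_eq_zero m (coef_zero m h1 i)
  have : Finite (F →+ F) := DFunLike.finite _
  have : Fintype (F →+ F) := Fintype.ofFinite _
  have hb : Function.Bijective L := (Fintype.bijective_iff_injective_and_card L).mpr ⟨hinj, by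
    rw [← Nat.card_eq_fintype_card, ← Nat.card_eq_fintype_card, card_addHom m, Nat.card_fun, Nat.card_zmod]⟩
  obtain ⟨α, hα⟩ := hb.2 A
  exact ⟨α, fun a => by rw [← hα]; rfl⟩

/-- The map induced on `U/Z` by an automorphism is semilinear. -/
theorem semilinear (A C : F →+ F) (hA : Function.Injective A)
    (hC : ∀ a, C (th m a * a) = th m (A a) * A a) :
    ∃ (c : Fˣ) (k : ZMod (2 * m + 1)), ∀ a, A a = (c : F) * fr m k a := by
  obtain ⟨α, hα⟩ := exists_coef m A
  obtain ⟨γ, hγ⟩ := exists_coef m C
  set β : ZMod (2 * m + 1) → F := fun i => th m (α (i - hh m)) with hβdef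
  have hth : ∀ a, th m (A a) = ∑ i, β i * fr m i a := by
    intro a
    rw [hα, ← thHom_apply (m := m), map_sum]
    conv_rhs => rw [← Equiv.sum_comp (Equiv.addRight (hh m))]
    refine Finset.sum_congr rfl fun i _ => ?_
    simp only [hβdef, thHom_apply, th_mul, th_fr, Equiv.coe_addRight, add_sub_cancel_right]
  have hq := quad_zero m (c := fun i j => β i * α j + if i = j + hh m then γ j else 0) (fun a => by
    have h1 : ∑ i, ∑ j, β i * α j * (fr m i a * fr m j a) = th m (A a) * A a := by
      rw [hth, hα, Finset.sum_mul_sum]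
      exact Finset.sum_congr rfl fun i _ => Finset.sum_congr rfl fun j _ => by ring
    have h2 : ∑ i, ∑ j, (if i = j + hh m then γ j else 0) * (fr m i a * fr m j a) = C (th m a * a) := by
      rw [hγ, Finset.sum_comm]
      refine Finset.sum_congr rfl fun j _ => ?_
      rw [Finset.sum_eq_single (j + hh m) (fun i _ hi => by rw [if_neg hi, zero_mul])
        (fun h => absurd (Finset.mem_univ _) h), if_pos rfl, fr_mul, fr_th, th_fr]
    simp only [add_mul, Finset.sum_add_distrib]
    rw [h1, h2, hC]
    exact add_self m _)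
  have hhne : hh m ≠ 0 := fun h => by
    have := hh_add m
    rw [h, add_zero] at this
    exact two_ne_zero_zmod (F := F) m (by linear_combination (-2) * this)
  have hdiag : ∀ i, β i * α i = 0 := fun i => by
    have h1 := hq.1 i
    rwa [if_neg (show i ≠ i + hh m from fun e => hhne (by simpa using e.symm)), add_zero] at h1
  have hone : ∀ x y, α x ≠ 0 → α y ≠ 0 → x ≠ y → y = x + 1 := by
    intro x y hx hy hxy
    by_contra hne
    have hbx : β (x + hh m) ≠ 0 := by simpa [hβdef] using hx
    have hyx : y ≠ x + hh m := fun e => mul_ne_zero (e ▸ hbx) hy (hdiag y)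
    have h1 : x + hh m ≠ y + hh m := fun e => hxy (add_right_cancel e)
    have h2 : y ≠ x + hh m + hh m := by rwa [add_assoc, hh_add]
    have h3 := hq.2 (x + hh m) y
    simp only [if_neg h1, if_neg h2, add_zero] at h3
    have h4 : α (x + hh m) ≠ 0 := by
      intro h0
      rw [h0, mul_zero, add_zero] at h3
      exact mul_ne_zero hbx hy h3
    exact mul_ne_zero hbx h4 (hdiag (x + hh m))
  obtain ⟨k, hk⟩ : ∃ k, α k ≠ 0 := by
    by_contra! h
    exact one_ne_zero (α := F) (hA (by simp [hα, h]))
  refine ⟨Units.mk0 (α k) hk, k, fun a => ?_⟩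
  rw [hα, Finset.sum_eq_single k (fun j _ hj => ?_) (fun h => absurd (Finset.mem_univ _) h)]
  · rfl
  · by_cases h : α j = 0
    · rw [h, zero_mul]
    · have e1 := hone k j hk h (Ne.symm hj)
      have e2 := hone j k h hk hj
      exact absurd (show (2 : ZMod (2 * m + 1)) = 0 by linear_combination -e1 - e2)
        (two_ne_zero_zmod (F := F) m)

/-- The element `u(a,b)` as an element of `U`. -/
def uE (a b : F) : (U m : Subgroup (Cfsg.Sz F m)) := ⟨u m a b, u_mem_U m a b⟩

/-- The coordinates on `U`. -/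
noncomputable def coE : F × F ≃ (U m : Subgroup (Cfsg.Sz F m)) :=
  Equiv.ofBijective (fun p => uE m p.1 p.2) ⟨fun p q e => u_injective m (congrArg Subtype.val e),
    fun g => by
      obtain ⟨a, b, h⟩ := (mem_U m).mp g.2
      exact ⟨(a, b), Subtype.ext h.symm⟩⟩

theorem coE_symm_uE (a b : F) : (coE m).symm (uE m a b) = (a, b) := (coE m).symm_apply_apply (a, b)

theorem exists_uE (g : (U m : Subgroup (Cfsg.Sz F m))) : ∃ a b, g = uE m a b :=
  ⟨_, _, ((coE m).apply_symm_apply g).symm⟩

theorem uE_inj {a b c d : F} : uE m a b = uE m c d ↔ a = c ∧ b = d := by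
  rw [uE, uE, Subtype.mk_eq_mk, u_inj]

theorem uE_mul (a b c d : F) : uE m a b * uE m c d = uE m (a + c) (b + d + th m a * c) :=
  Subtype.ext (u_mul m a b c d)

variable (f : MulAut (U m : Subgroup (Cfsg.Sz F m)))

/-- The induced map on `U/Z`. -/
noncomputable def autA (a : F) : F := ((coE m).symm (f (uE m a 0))).1

/-- The central component of the image of `u(a,0)`. -/
noncomputable def autB (a : F) : F := ((coE m).symm (f (uE m a 0))).2

/-- The restriction to the centre, in coordinates. -/
noncomputable def autC (b : F) : F := ((coE m).symm (f (uE m 0 b))).2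

theorem aut_uE_centre (b : F) : f (uE m 0 b) = uE m 0 (autC m f b) := by
  have hc : (uE m (0 : F) b) ∈ Subgroup.center (U m : Subgroup (Cfsg.Sz F m)) := (mem_center_U m).mpr ⟨b, rfl⟩
  have hc' : f (uE m 0 b) ∈ Subgroup.center (U m : Subgroup (Cfsg.Sz F m)) := by
    rw [Subgroup.mem_center_iff] at hc ⊢
    intro g
    obtain ⟨g, rfl⟩ := f.surjective g
    rw [← map_mul, ← map_mul, hc g]
  obtain ⟨d, hd⟩ := (mem_center_U m).mp hc'
  have hd' : f (uE m 0 b) = uE m 0 d := Subtype.ext hd
  rw [hd', autC, hd', coE_symm_uE]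

theorem aut_uE_left (a : F) : f (uE m a 0) = uE m (autA m f a) (autB m f a) :=
  ((coE m).apply_symm_apply _).symm

theorem aut_uE (a b : F) :
    f (uE m a b) = uE m (autA m f a) (autB m f a + autC m f b) := by
  have e : uE m a b = uE m a 0 * uE m 0 b := by simp [uE_mul]
  rw [e, map_mul, aut_uE_centre, aut_uE_left m f a, uE_mul]
  simp [coE_symm_uE]

theorem autA_add (a c : F) : autA m f (a + c) = autA m f a + autA m f c := by
  have h := congrArg f (uE_mul m a 0 c 0)
  rw [map_mul, aut_uE, aut_uE, uE_mul, aut_uE, uE_inj] at h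
  exact h.1.symm

theorem autC_add (b d : F) : autC m f (b + d) = autC m f b + autC m f d := by
  have h := congrArg f (uE_mul m 0 b 0 d)
  rw [map_mul, aut_uE_centre, aut_uE_centre, uE_mul] at h
  simp only [th_zero, zero_mul, add_zero] at h
  rw [aut_uE_centre, uE_inj] at h
  exact h.2.symm

theorem autC_sq (a : F) : autC m f (th m a * a) = th m (autA m f a) * autA m f a := by
  have h := congrArg f (uE_mul m a 0 a 0)
  simp only [add_self m, zero_add] at h
  rw [map_mul, aut_uE_left m f a, uE_mul, aut_uE_centre, uE_inj] at h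
  simp only [add_self m, zero_add] at h
  exact h.2.symm

theorem autA_mul (g : MulAut (U m : Subgroup (Cfsg.Sz F m))) (a : F) :
    autA m (f * g) a = autA m f (autA m g a) := by
  rw [autA, MulAut.mul_apply, aut_uE_left m g a, aut_uE, coE_symm_uE]

theorem autA_one (a : F) : autA m (1 : MulAut (U m : Subgroup (Cfsg.Sz F m))) a = a := by
  rw [autA, MulAut.one_apply, coE_symm_uE]

/-- The action of `Aut U` on `U/Z`. -/
noncomputable def autHom : MulAut (U m : Subgroup (Cfsg.Sz F m)) →* Equiv.Perm F where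
  toFun f :=
    { toFun := autA m f
      invFun := autA m f⁻¹
      left_inv := fun a => by rw [← autA_mul, inv_mul_cancel, autA_one]
      right_inv := fun a => by rw [← autA_mul, mul_inv_cancel, autA_one] }
  map_one' := Equiv.ext (autA_one m)
  map_mul' f g := Equiv.ext (autA_mul m f g)

theorem mem_ker_autHom : f ∈ (autHom m).ker ↔ ∀ a, autA m f a = a :=
  ⟨fun h a => Equiv.congr_fun h a, fun h => Equiv.ext h⟩

theorem ker_apply {f : MulAut (U m : Subgroup (Cfsg.Sz F m))} (h : f ∈ (autHom m).ker) (a b : F) :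
    f (uE m a b) = uE m a (autB m f a + b) := by
  have hA := (mem_ker_autHom m f).mp h
  have hC : autC m f b = b := by
    obtain ⟨c, hc⟩ := (mul_th_bijective (F := F) m).2 b
    dsimp only at hc
    rw [← hc]
    first
      | rw [autC_sq, hA]
      | rw [mul_comm, autC_sq, hA]
  rw [aut_uE, hA, hC]

/-- The central automorphism attached to an additive map. -/
noncomputable def centralAut (φ : F →+ F) : MulAut (U m : Subgroup (Cfsg.Sz F m)) :=
  MulEquiv.mk'
    (Function.Involutive.toPerm
      (fun g => uE m ((coE m).symm g).1 (((coE m).symm g).2 + φ ((coE m).symm g).1)) (fun g => by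
        obtain ⟨a, b, rfl⟩ := exists_uE m g
        simp only [coE_symm_uE, add_assoc, add_self m, add_zero]))
    (fun g k => by
      obtain ⟨a, b, rfl⟩ := exists_uE m g
      obtain ⟨c, d, rfl⟩ := exists_uE m k
      show uE m _ _ = uE m _ _ * uE m _ _
      simp only [uE_mul, coE_symm_uE, map_add]
      rw [uE_inj]
      exact ⟨rfl, by ring⟩)

theorem centralAut_apply (φ : F →+ F) (a b : F) : centralAut m φ (uE m a b) = uE m a (b + φ a) := by
  show uE m _ _ = _
  simp only [coE_symm_uE]

theorem card_ker_autHom :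
    Nat.card ((autHom (F := F) m).ker) = 2 ^ ((2 * m + 1) ^ 2) := by
  have hmem : ∀ φ : F →+ F, centralAut m φ ∈ (autHom (F := F) m).ker := fun φ =>
    (mem_ker_autHom m _).mpr fun a => by rw [autA, centralAut_apply, coE_symm_uE]
  rw [← Nat.card_congr (Equiv.ofBijective (fun φ : F →+ F => (⟨centralAut m φ, hmem φ⟩ :
    (autHom (F := F) m).ker)) ⟨?_, ?_⟩), card_addHom m, card_nat m, ← pow_mul, sq]
  · intro φ ψ e
    ext a
    have h1 := DFunLike.congr_fun (congrArg Subtype.val e) (uE m a 0)
    simp only at h1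
    rw [centralAut_apply, centralAut_apply, uE_inj] at h1
    simpa using h1.2
  · rintro ⟨f, hf⟩
    have hA := (mem_ker_autHom m f).mp hf
    refine ⟨AddMonoidHom.mk' (autB m f) (fun a c => ?_), Subtype.ext ?_⟩
    · have h := congrArg f (uE_mul m a 0 c 0)
      rw [map_mul, ker_apply m hf, ker_apply m hf, uE_mul, ker_apply m hf, uE_inj] at h
      linear_combination -h.2
    · refine MulEquiv.ext fun g => ?_
      obtain ⟨a, b, rfl⟩ := exists_uE m g
      show centralAut m _ (uE m a b) = _
      rw [centralAut_apply, ker_apply m hf, add_comm]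
      rfl

theorem ker_comm {f g : MulAut (U m : Subgroup (Cfsg.Sz F m))} (hf : f ∈ (autHom m).ker)
    (hg : g ∈ (autHom m).ker) : f * g = g * f ∧ f ^ 2 = 1 := by
  constructor
  · refine MulEquiv.ext fun x => ?_
    obtain ⟨a, b, rfl⟩ := exists_uE m x
    rw [MulAut.mul_apply, MulAut.mul_apply, ker_apply m hg a b, ker_apply m hf a b, ker_apply m hf,
      ker_apply m hg]
    rw [uE_inj]
    exact ⟨rfl, add_left_comm _ _ _⟩
  · refine MulEquiv.ext fun x => ?_
    obtain ⟨a, b, rfl⟩ := exists_uE m x
    rw [sq, MulAut.mul_apply, ker_apply m hf a b, ker_apply m hf, MulAut.one_apply, uE_inj]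
    exact ⟨rfl, by rw [← add_assoc, add_self m, zero_add]⟩

/-- The semilinear automorphisms. -/
noncomputable def semiAut (p : Fˣ × ZMod (2 * m + 1)) : MulAut (U m : Subgroup (Cfsg.Sz F m)) :=
  MulEquiv.mk'
    (((coE m).symm.trans ((Equiv.ofBijective
      (fun x : F => (p.1 : F) * fr m p.2 x) ((mulLeft_bijective₀ _ p.1.ne_zero).comp (fr_bijective m p.2))).prodCongr
      (Equiv.ofBijective (fun x : F => th m (p.1 : F) * (p.1 : F) * fr m p.2 x)
        ((mulLeft_bijective₀ _ (mul_ne_zero (by simp) p.1.ne_zero)).comp (fr_bijective m p.2))))).trans (coE m))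
    (fun g k => by
      obtain ⟨a, b, rfl⟩ := exists_uE m g
      obtain ⟨c, d, rfl⟩ := exists_uE m k
      show uE m _ _ = uE m _ _ * uE m _ _
      simp only [uE_mul, Equiv.trans_apply, Equiv.prodCongr_apply, Prod.map_fst, Prod.map_snd, Equiv.ofBijective_apply,
        coE_symm_uE, fr_add, fr_mul, fr_th, th_mul, uE_inj]
      exact ⟨by ring, by ring⟩)

theorem semiAut_autA (p : Fˣ × ZMod (2 * m + 1)) (a : F) :
    autA m (semiAut m p) a = (p.1 : F) * fr m p.2 a := by
  show ((coE m).symm ((coE m) _)).1 = _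
  simp [coE_symm_uE]

theorem card_range_autHom :
    Nat.card (autHom (F := F) m).range = (2 * m + 1) * (2 ^ (2 * m + 1) - 1) := by
  rw [← Nat.card_congr (Equiv.ofBijective (fun p : Fˣ × ZMod (2 * m + 1) =>
    (⟨autHom m (semiAut m p), _, rfl⟩ : (autHom (F := F) m).range)) ⟨?_, ?_⟩), Nat.card_prod,
    Nat.card_units, Nat.card_zmod, card_nat m, mul_comm]
  · rintro ⟨c, k⟩ ⟨d, l⟩ e
    have h : ∀ a, (c : F) * fr m k a = (d : F) * fr m l a := fun a => by
      have h1 := Equiv.congr_fun (congrArg Subtype.val e) a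
      rw [← semiAut_autA m (c, k), ← semiAut_autA m (d, l)]
      exact h1
    have hcd : (c : F) = d := by simpa [fr] using h 1
    refine Prod.ext (Units.ext hcd) (fr_index_injective (F := F) m fun a => ?_)
    have h1 := h a
    rw [hcd] at h1
    exact mul_left_cancel₀ d.ne_zero h1
  · rintro ⟨σ, f, rfl⟩
    have hinj : Function.Injective (autA m f) := (autHom m f).injective
    obtain ⟨c, k, hk⟩ := semilinear m (AddMonoidHom.mk' (autA m f) (autA_add m f))
      (AddMonoidHom.mk' (autC m f) (autC_add m f)) hinj (autC_sq m f)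
    refine ⟨(c, k), Subtype.ext (Equiv.ext fun a => ?_)⟩
    show autA m (semiAut m (c, k)) a = autA m f a
    rw [semiAut_autA]
    exact (hk a).symm

/-- The automorphism group of a Sylow 2-subgroup of the Suzuki group. -/
theorem aut_sylow {S : Type*} [Group S] [Finite S] (e : S ≃* (U m : Subgroup (Cfsg.Sz F m))) :
    IsElementaryAbelian 2 (pCore 2 (MulAut S)) ∧ Nat.card (pCore 2 (MulAut S)) = 2 ^ ((2 * m + 1) ^ 2) ∧
      Nat.card (MulAut S) = 2 ^ ((2 * m + 1) ^ 2) * ((2 * m + 1) * (2 ^ (2 * m + 1) - 1)) := by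
  set E := MulAut.congr e with hE
  set ρ := (autHom (F := F) m).comp E.toMonoidHom with hρ
  have : Finite (MulAut S) := Finite.of_injective _ DFunLike.coe_injective
  have hr : Nat.card ρ.range = (2 * m + 1) * (2 ^ (2 * m + 1) - 1) := by
    rw [← card_range_autHom (F := F) m, hρ, MonoidHom.range_comp, MonoidHom.range_eq_top.mpr E.surjective,
      ← MonoidHom.range_eq_map]
  have hk : Nat.card ρ.ker = 2 ^ ((2 * m + 1) ^ 2) := by
    rw [← card_ker_autHom (F := F) m]
    exact Nat.card_congr (E.toEquiv.subtypeEquiv fun f => Iff.rfl)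
  have hodd : Odd (Nat.card ρ.range) := by
    rw [hr]
    exact Odd.mul ⟨m, rfl⟩ (Nat.Even.sub_odd Nat.one_le_two_pow ((Nat.even_pow).mpr ⟨even_two, by omega⟩) odd_one)
  obtain ⟨h1, h2⟩ := pCore_two_of_odd_range ρ
    (fun x hx y hy => E.injective (by rw [map_mul, map_mul]; exact (ker_comm m hx hy).1))
    (fun x hx => E.injective (by rw [map_pow, map_one]; exact (ker_comm m hx hx).2)) hodd
  refine ⟨h1, by rw [h2, hk], ?_⟩
  rw [← Subgroup.card_mul_index ρ.ker, Subgroup.index_ker, hk, hr]

end Cfsg.Agent.Suzuki
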