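import Cfsg.Agent.Suzuki.Subgroups

/-!
Transitive actions of the Suzuki group of fixity two.
-/

set_option autoImplicit false

open Cfsg MulAction
open scoped Pointwise

namespace Cfsg.Agent.Suzuki

variable {F : Type*} [Field F] [Fintype F] (m : ℕ) [SzField F m]
variable {Ω : Type*} [MulAction (Cfsg.Sz F m) Ω] [Finite Ω]

theorem relIndex_le_two (hfix : ∀ g : Cfsg.Sz F m, g ≠ 1 → Nat.card (fixedBy Ω g) ≤ 2) {α : Ω}
    {h : Cfsg.Sz F m} (h1 : h ≠ 1) {L : Subgroup (Cfsg.Sz F m)}
    (hL : ∀ l ∈ L, l⁻¹ * h * l ∈ stabilizer (Cfsg.Sz F m) α) :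
    (stabilizer (Cfsg.Sz F m) α).relIndex L ≤ 2 := by
  show ((stabilizer (Cfsg.Sz F m) α).subgroupOf L).index ≤ 2
  refine le_trans ?_ (hfix h h1)
  have heq : (stabilizer (Cfsg.Sz F m) α).subgroupOf L = stabilizer L α := by
    ext l; rfl
  rw [heq, index_stabilizer, ← Nat.card_coe_set_eq]
  refine Nat.card_mono (Set.toFinite _) ?_
  rintro _ ⟨l, rfl⟩
  have h2 := hL l l.2
  rw [mem_stabilizer_iff, mul_smul, mul_smul, inv_smul_eq_iff] at h2
  exact h2

omit [Finite Ω] in
theorem sq_mem_of_relIndex {G : Type*} [Group G] [Finite G] {H L : Subgroup G} (h : H.relIndex L ≤ 2)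
    {x : G} (hx : x ∈ L) : x * x ∈ H := by
  have h0 : (H.subgroupOf L).index ≠ 0 := Subgroup.index_ne_zero_of_finite
  rcases Nat.lt_or_ge 1 (H.subgroupOf L).index with h1 | h1
  · exact Subgroup.mul_self_mem_of_index_two (le_antisymm h h1) ⟨x, hx⟩
  · have : H.subgroupOf L = ⊤ := Subgroup.index_eq_one.mp (by omega)
    have hm : (⟨x, hx⟩ : L) ∈ H.subgroupOf L := this ▸ trivial
    exact mul_mem hm hm

omit [Finite Ω] in
theorem eq_of_cyclic {G : Type*} [Group G] [Finite G] {V A B : Subgroup G} (hV : IsCyclic V)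
    (hA : A ≤ V) (hB : B ≤ V) (h : Nat.card A = Nat.card B) : A = B := by
  classical
  have : Fintype V := Fintype.ofFinite V
  have hpos : 0 < Nat.card A := Nat.card_pos
  have key : ∀ C : Subgroup G, C ≤ V → Nat.card C = Nat.card A →
      Finset.univ.filter (fun x : V => x ^ Nat.card A = 1) = Finset.univ.filter (fun x : V => (x : G) ∈ C) := by
    intro C hC hc
    refine (Finset.eq_of_subset_of_card_le (fun x hx => ?_) ?_).symm
    · simp only [Finset.mem_filter, Finset.mem_univ, true_and] at hx ⊢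
      refine Subtype.ext ?_
      have h1 : (⟨(x : G), hx⟩ : C) ^ Nat.card C = 1 := pow_card_eq_one'
      rw [← hc]
      have h3 := congrArg Subtype.val h1
      rw [SubgroupClass.coe_pow, OneMemClass.coe_one] at h3 ⊢
      exact h3
    · refine le_trans (IsCyclic.card_pow_eq_one_le hpos) (le_of_eq ?_)
      rw [← hc, Nat.card_congr (Subgroup.subgroupOfEquivOfLe hC).symm.toEquiv, ← Fintype.card_subtype,
        ← Nat.card_eq_fintype_card]
      rfl
  have heq := (key A hA rfl).symm.trans (key B hB h.symm)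
  ext x
  constructor
  · intro hx
    have := Finset.ext_iff.mp heq ⟨x, hA hx⟩
    simp at this
    exact this.mp hx
  · intro hx
    have := Finset.ext_iff.mp heq ⟨x, hB hx⟩
    simp at this
    exact this.mpr hx

theorem stabilizer_even (hfix : ∀ g : Cfsg.Sz F m, g ≠ 1 → Nat.card (fixedBy Ω g) ≤ 2)
    (hnt : ∀ α : Ω, stabilizer (Cfsg.Sz F m) α ≠ ⊤) {α : Ω} {b : F} (hb : b ≠ 0)
    (h : u m 0 b ∈ stabilizer (Cfsg.Sz F m) α) : stabilizer (Cfsg.Sz F m) α = B m := by
  set H := stabilizer (Cfsg.Sz F m) α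
  have hb1 : u m 0 b ≠ 1 := fun e => hb ((u_eq_one m).mp e).2
  have hcen : ∀ l ∈ U m, l⁻¹ * u m 0 b * l = u m 0 b := by
    intro l hl
    obtain ⟨c, d, rfl⟩ := (mem_U m).mp hl
    rw [mul_assoc, inv_mul_eq_iff_eq_mul, u_mul, u_mul, u_inj]
    refine ⟨by ring, ?_⟩
    simp only [th_zero, zero_mul, mul_zero, add_zero]
    ring
  have hU2 : H.relIndex (U m) ≤ 2 :=
    relIndex_le_two m hfix hb1 (fun l hl => by rw [hcen l hl]; exact h)
  have hZ : ∀ z : F, u m 0 z ∈ H := by
    intro z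
    obtain ⟨a, ha⟩ := (mul_th_bijective (F := F) m).2 z
    dsimp only at ha
    have := sq_mem_of_relIndex hU2 (u_mem_U m a 0)
    rw [u_sq] at this
    rwa [← ha, mul_comm]
  have hB2 : H.relIndex (B m) ≤ 2 := by
    refine relIndex_le_two m hfix hb1 (fun l hl => ?_)
    obtain ⟨c, d, s, hs⟩ := exists_u_t_of_fix_oInf m ((B m).inv_mem hl)
    have e : l = (u m c d * t m s)⁻¹ := by rw [← hs, inv_inv]
    rw [hs, e, show u m c d * t m s * u m 0 b * (u m c d * t m s)⁻¹ =
      u m c d * (t m s * u m 0 b * (t m s)⁻¹) * (u m c d)⁻¹ by group, t_u, u_conj]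
    simpa [H] using hZ _
  have ht : ∀ s : Fˣ, t m s ∈ H := by
    intro s
    obtain ⟨k, hk⟩ := odd_card_units (F := F) m
    have hsq : s = (s * s) ^ (k + 1) := by
      rw [← pow_two, ← pow_mul, show 2 * (k + 1) = Nat.card Fˣ + 1 by omega, pow_succ,
        pow_card_eq_one', one_mul]
    rw [hsq, map_pow, map_mul]
    exact pow_mem (sq_mem_of_relIndex hB2 (T_le_B m (t_mem_T m s))) _
  obtain ⟨x, hx0, hx1⟩ := exists_ne_zero_one (F := F) m
  set s := Units.mk0 x hx0
  have hne : th m x + 1 ≠ 0 := fun e => hx1 ((th_eq_one m).mp (eq_of_add_eq_zero m e))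
  have hA : ∀ a : F, ∃ d, u m a d ∈ H := by
    intro a
    set v := u m (a / (th m x + 1)) 0 with hv
    have hvU : v ∈ U m := u_mem_U m _ _
    have hconj : t m s * v * (t m s)⁻¹ ∈ U m := by rw [hv, t_u]; exact u_mem_U m _ _
    have hmem : v⁻¹ * (t m s * v * (t m s)⁻¹) ∈ H := by
      by_cases hvH : v ∈ H
      · exact H.mul_mem (H.inv_mem hvH) (H.mul_mem (H.mul_mem (ht s) hvH) (H.inv_mem (ht s)))
      · have hidx : (H.subgroupOf (U m)).index = 2 := by
          have h0 : (H.subgroupOf (U m)).index ≠ 0 := Subgroup.index_ne_zero_of_finite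
          have h1 : (H.subgroupOf (U m)).index ≠ 1 := fun e => hvH (by
            have : (⟨v, hvU⟩ : U (F := F) m) ∈ H.subgroupOf (U m) := (Subgroup.index_eq_one.mp e) ▸ trivial
            exact this)
          have h2 : (H.subgroupOf (U m)).index ≤ 2 := hU2
          omega
        have hn' : t m s * v * (t m s)⁻¹ ∉ H := fun e => hvH (by
          have := H.mul_mem (H.mul_mem (H.inv_mem (ht s)) e) (ht s)
          rwa [show (t m s)⁻¹ * (t m s * v * (t m s)⁻¹) * t m s = v by group] at this)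
        have := (Subgroup.mul_mem_iff_of_index_two hidx (a := (⟨v, hvU⟩ : U (F := F) m)⁻¹)
          (b := ⟨_, hconj⟩)).mpr (iff_of_false (fun e => hvH ((Subgroup.inv_mem_iff _).mp e))
            (fun e => hn' e))
        exact this
    rw [hv, t_u, u_inv, u_mul] at hmem
    have e : a / (th m x + 1) + th m (s : F) * (a / (th m x + 1)) = a := by
      rw [show (s : F) = x from rfl, ← one_add_mul, add_comm 1 (th m x)]
      exact mul_div_cancel₀ a hne
    rw [e] at hmem
    exact ⟨_, hmem⟩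
  have hle : (B m : Subgroup (Cfsg.Sz F m)) ≤ H := by
    intro g hg
    obtain ⟨a, c, r, rfl⟩ := exists_u_t_of_fix_oInf m hg
    obtain ⟨d, hd⟩ := hA a
    refine mul_mem ?_ (ht r)
    have := mul_mem (hZ (c + d)) hd
    rw [u_mul] at this
    convert this using 2
    · simp
    · simp only [th_zero, zero_mul, add_zero]
      linear_combination (norm := char_two_ring (m)) 0
  exact ((eq_or_lt_of_le hle).resolve_right fun e => hnt α ((isCoatom_B m).2 _ e)).symm

theorem card_stabilizer_odd (hfix : ∀ g : Cfsg.Sz F m, g ≠ 1 → Nat.card (fixedBy Ω g) ≤ 2)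
    {α : Ω} (hodd : ¬ 2 ∣ Nat.card (stabilizer (Cfsg.Sz F m) α))
    (hne : stabilizer (Cfsg.Sz F m) α ≠ ⊥) :
    Nat.card (stabilizer (Cfsg.Sz F m) α) = Nat.card F - 1 := by
  set H := stabilizer (Cfsg.Sz F m) α
  obtain ⟨V, hc, hn, hle⟩ := odd_case m hodd hne
  obtain ⟨h, hh, hh1⟩ : ∃ g ∈ H, g ≠ 1 := by
    by_contra! e
    exact hne ((Subgroup.eq_bot_iff_forall _).mpr e)
  set N := Subgroup.normalizer (V : Set (Cfsg.Sz F m)) with hN
  have hnorm : ∀ l ∈ N, l⁻¹ * h * l ∈ H := by
    intro l hl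
    have heq : H.map (MulAut.conj l⁻¹).toMonoidHom = H := by
      refine eq_of_cyclic hc ?_ hle
        (Nat.card_congr (H.equivMapOfInjective _ (MulAut.conj l⁻¹).injective).toEquiv).symm
      intro g hg
      rw [mem_map_conj_iff] at hg
      have := (Subgroup.mem_normalizer_iff.mp ((Subgroup.normalizer (V : Set (Cfsg.Sz F m))).inv_mem hl) _).mp (hle hg)
      simpa [mul_assoc] using this
    rw [← heq, mem_map_conj_iff]
    simpa [mul_assoc] using hh
  have hi : H.relIndex N ≤ 2 := relIndex_le_two m hfix hh1 hnorm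
  have hHN : H ≤ N := hle.trans Subgroup.le_normalizer
  have hcard : Nat.card N = Nat.card H * H.relIndex N := by
    rw [← (H.subgroupOf N).card_mul_index, Nat.card_congr (Subgroup.subgroupOfEquivOfLe hHN).toEquiv]
    rfl
  have hHV : Nat.card H ≤ Nat.card V := Nat.le_of_dvd Nat.card_pos (Subgroup.card_dvd_of_le hle)
  have hle2 : Nat.card N ≤ 2 * Nat.card H := by rw [hcard, mul_comm 2]; exact Nat.mul_le_mul_left _ hi
  rcases hn with hn | hn
  · rw [card_nat (F := F) m, ← hn]
    obtain ⟨x, hx⟩ := IsCyclic.exists_ofOrder_eq_natCard (α := V)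
    have hVodd : Odd (Nat.card V) := by
      rw [Nat.odd_iff, hn]
      have : 2 ∣ 2 ^ (2 * m + 1) := dvd_pow_self 2 (by omega)
      have := Nat.one_le_two_pow (n := 2 * m + 1)
      omega
    obtain ⟨j, hj, hjx⟩ := exists_involution_inverting m (g := (x : Cfsg.Sz F m))
      (by rwa [Subgroup.orderOf_coe, hx])
    have hjN : j ∈ N := by
      refine normalizer_of_conj_mem m (Or.inr ⟨hc, Or.inl hn⟩) x.2 (fun e => ?_)
        (by rw [hjx]; exact V.inv_mem x.2)
      rw [← Subgroup.orderOf_coe, e, orderOf_one] at hx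
      have h2 := one_lt_card_of_mem (hle hh) hh1
      omega
    have hjV : j ∉ V := fun e => by
      have := Subgroup.orderOf_dvd_natCard _ e
      rw [hj] at this
      exact (Nat.odd_iff.mp hVodd ▸ (by omega : Nat.card V % 2 ≠ 1)) rfl
    have hVN : 2 * Nat.card V ≤ Nat.card N := by
      have h1 := (V.subgroupOf N).card_mul_index
      rw [Nat.card_congr (Subgroup.subgroupOfEquivOfLe Subgroup.le_normalizer).toEquiv] at h1
      have h2 : (V.subgroupOf N).index ≠ 1 := fun e => hjV (by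
        have : (⟨j, hjN⟩ : N) ∈ V.subgroupOf N := (Subgroup.index_eq_one.mp e) ▸ trivial
        exact this)
      have h3 : (V.subgroupOf N).index ≠ 0 := Subgroup.index_ne_zero_of_finite
      rw [← h1, mul_comm 2]
      exact Nat.mul_le_mul_left _ (by omega)
    omega
  · exfalso
    obtain ⟨g, hg, rfl⟩ := isCyclic_card_eq m hc hn
    have : Nat.card N = 4 * Nat.card (Subgroup.centralizer {g}) := card_normalizer_fixFree m hg
    have : 0 < Nat.card (Subgroup.centralizer {g}) := Nat.card_pos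
    omega

/-- A transitive action of fixity two is the action on the ovoid or on the cosets of a torus. -/
theorem fixity_two [IsPretransitive (Cfsg.Sz F m) Ω]
    (hfix : ∀ g : Cfsg.Sz F m, g ≠ 1 → Nat.card (fixedBy Ω g) ≤ 2)
    (hex : ∃ g : Cfsg.Sz F m, g ≠ 1 ∧ Nat.card (fixedBy Ω g) = 2) :
    (Nat.card Ω = Nat.card F ^ 2 + 1 ∧ IsMultiplyPretransitive (Cfsg.Sz F m) Ω 2) ∨
    (Nat.card Ω = Nat.card F ^ 2 * (Nat.card F ^ 2 + 1) ∧
      ∀ α : Ω, Nat.card (stabilizer (Cfsg.Sz F m) α) = Nat.card F - 1) := by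
  have : Fact (Nat.Prime 2) := ⟨Nat.prime_two⟩
  obtain ⟨g, hg1, hg⟩ := hex
  have hΩ : 2 ≤ Nat.card Ω := hg ▸ Finite.card_subtype_le (fun x => x ∈ fixedBy Ω g)
  have hnt : ∀ α : Ω, stabilizer (Cfsg.Sz F m) α ≠ ⊤ := by
    intro α e
    have h := index_stabilizer_of_transitive (Cfsg.Sz F m) α
    rw [e, Subgroup.index_top] at h
    omega
  obtain ⟨⟨β, hβ⟩⟩ : Nonempty (fixedBy Ω g) := (Nat.card_pos_iff.mp (by omega)).1
  have hcard : ∀ α : Ω, Nat.card (stabilizer (Cfsg.Sz F m) α) * Nat.card Ω = Nat.card (Cfsg.Sz F m) :=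
    fun α => by
      rw [← index_stabilizer_of_transitive (Cfsg.Sz F m) α, Subgroup.card_mul_index]
  by_cases h2 : 2 ∣ Nat.card (stabilizer (Cfsg.Sz F m) β)
  · left
    obtain ⟨i, hi⟩ := exists_prime_orderOf_dvd_card' 2 h2
    have hi2 : (i : Cfsg.Sz F m) * i = 1 := by
      rw [← pow_two, ← hi, ← Subgroup.orderOf_coe]; exact pow_orderOf_eq_one _
    have hi1 : (i : Cfsg.Sz F m) ≠ 1 := fun h => by
      rw [← Subgroup.orderOf_coe, h, orderOf_one] at hi; exact absurd hi (by decide)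
    obtain ⟨p, hp, -⟩ := exists_unique_fixed m (i := 1) (by rw [Subgroup.orderOf_coe, hi, pow_one]) hi1
    obtain ⟨c, hc⟩ := exists_smul_eq (Cfsg.Sz F m) p (oInf m : suzukiOvoid F m)
    have hsq : c * (i : Cfsg.Sz F m) * c⁻¹ * (c * i * c⁻¹) = 1 := by
      rw [show c * (i : Cfsg.Sz F m) * c⁻¹ * (c * i * c⁻¹) = c * (i * i) * c⁻¹ by group, hi2, mul_one,
        mul_inv_cancel]
    obtain ⟨b, hb⟩ := mem_Z_of_sq (mem_U_of_sq m hsq (by
      rw [mem_B, mul_smul, mul_smul, ← hc, inv_smul_smul, hp])) hsq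
    have hb0 : b ≠ 0 := fun h => hi1 (by
      rw [h, u_zero, conj_eq_one_iff] at hb; exact hb)
    have hst : u m 0 b ∈ stabilizer (Cfsg.Sz F m) (c • β) := by
      rw [← hb, mem_stabilizer_iff, mul_smul, mul_smul, inv_smul_smul, i.2]
    have hB := stabilizer_even m hfix hnt hb0 hst
    refine ⟨?_, ?_⟩
    · rw [← index_stabilizer_of_transitive (Cfsg.Sz F m) (c • β), hB, index_B]
    · rw [is_two_pretransitive_iff]
      intro a a' d d' ha hd
      have key : ∀ a a' : Ω, a ≠ a' → ∃ g k : Cfsg.Sz F m, g • (c • β) = a ∧ k • (c • β) = a' ∧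
          g • (oInf m : suzukiOvoid F m) ≠ k • oInf m := by
        intro a a' hne
        obtain ⟨g, hg⟩ := exists_smul_eq (Cfsg.Sz F m) (c • β) a
        obtain ⟨k, hk⟩ := exists_smul_eq (Cfsg.Sz F m) (c • β) a'
        refine ⟨g, k, hg, hk, fun e => hne ?_⟩
        have : g⁻¹ * k ∈ stabilizer (Cfsg.Sz F m) (c • β) := by
          rw [hB, mem_B, mul_smul, inv_smul_eq_iff, e]
        rw [mem_stabilizer_iff, mul_smul, inv_smul_eq_iff, hk, hg] at this
        exact this.symm
      have htr : ∀ a : Ω, ∀ g x : Cfsg.Sz F m, g • (c • β) = a →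
          x • g • (oInf m : suzukiOvoid F m) = oInf m → x • a = c • β := by
        intro a g x hg hx
        have : x * g ∈ stabilizer (Cfsg.Sz F m) (c • β) := by rw [hB, mem_B, mul_smul, hx]
        rw [mem_stabilizer_iff, mul_smul, hg] at this
        exact this
      obtain ⟨g, k, hg', hk', hne⟩ := key a a' ha
      obtain ⟨g', k', hg'', hk'', hne'⟩ := key d d' hd
      have h2p := two_pretransitive (F := F) m
      rw [is_two_pretransitive_iff] at h2p
      obtain ⟨x, hx1, hx2⟩ := h2p hne hne'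
      refine ⟨x, ?_, ?_⟩
      · have h1 := htr a g (g'⁻¹ * x) hg' (by rw [mul_smul, hx1, inv_smul_smul])
        rw [mul_smul, inv_smul_eq_iff, hg''] at h1
        exact h1
      · have h1 := htr a' k (k'⁻¹ * x) hk' (by rw [mul_smul, hx2, inv_smul_smul])
        rw [mul_smul, inv_smul_eq_iff, hk''] at h1
        exact h1
  · right
    have hne : stabilizer (Cfsg.Sz F m) β ≠ ⊥ := fun e => hg1 (by
      have : g ∈ stabilizer (Cfsg.Sz F m) β := hβ
      rwa [e, Subgroup.mem_bot] at this)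
    have hH := card_stabilizer_odd m hfix h2 hne
    have hΩpos : 0 < Nat.card Ω := by omega
    have hF : 0 < Nat.card F - 1 := by
      have := eight_le_card (F := F) m
      rw [Nat.card_eq_fintype_card]; omega
    constructor
    · have h := hcard β
      rw [hH, card_Sz] at h
      refine Nat.eq_of_mul_eq_mul_left hF ?_
      rw [h]; ring
    · intro α
      have h := (hcard α).trans (hcard β).symm
      rw [Nat.eq_of_mul_eq_mul_right hΩpos h, hH]

end Cfsg.Agent.Suzuki
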