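import Cfsg.Agent.Suzuki.Cover
import Cfsg.Agent.Suzuki.Lie

/-!
A Suzuki group has no minimal cover by nilpotent subgroups.
-/

set_option autoImplicit false

open Cfsg MulAction
open scoped Pointwise

namespace Cfsg.Agent.Suzuki

/-- A finite cover by proper subgroups. -/
def IsCoverBy {G : Type*} [Group G] (A : Finset (Subgroup G)) : Prop :=
  (∀ H ∈ A, H ≠ ⊤) ∧ ∀ g : G, ∃ H ∈ A, g ∈ H

variable {F : Type*} [Field F] [Fintype F] (m : ℕ) [SzField F m]

theorem nilpotent_le_part {A : Subgroup (Cfsg.Sz F m)} (hA : Group.IsNilpotent A) {g : Cfsg.Sz F m}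
    (hg : g ∈ A) (hg1 : g ≠ 1) : ∃ V, IsPart m V ∧ A ≤ V := by
  have : Nontrivial A := ⟨⟨⟨g, hg⟩, 1, fun h => hg1 (congrArg Subtype.val h)⟩⟩
  have : Nontrivial (Subgroup.center A) :=
    (Subgroup.nontrivial_iff_ne_bot _).mpr (Group.IsNilpotent.center_ne_bot (G := A))
  obtain ⟨⟨z, hz⟩, hz1⟩ := exists_ne (1 : Subgroup.center A)
  have hz1' : (z : Cfsg.Sz F m) ≠ 1 := fun h => hz1 (Subtype.ext (Subtype.ext h))
  have hAz : A ≤ Subgroup.centralizer {(z : Cfsg.Sz F m)} := by
    intro x hx
    rw [Subgroup.mem_centralizer_singleton_iff]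
    exact congrArg Subtype.val (Subgroup.mem_center_iff.mp hz ⟨x, hx⟩)
  obtain ⟨V, hV, hzV⟩ := exists_part m (g := (z : Cfsg.Sz F m))
  rcases hV with ⟨P, rfl⟩ | ⟨hc, hn⟩
  · refine ⟨_, Or.inl ⟨P, rfl⟩, hAz.trans ?_⟩
    obtain ⟨k, hk⟩ := exists_conj_U m P
    rw [hk] at hzV ⊢
    obtain ⟨v, hv, hvz⟩ := hzV
    rw [← hvz, MulEquiv.coe_toMonoidHom, MulAut.conj_apply, ← map_conj_centralizer]
    refine Subgroup.map_mono (centralizer_U_le m hv (fun h => hz1' ?_))
    rw [← hvz, h, map_one]
  · exact ⟨V, Or.inr ⟨hc, hn⟩, hAz.trans (cyclic_part_eq_centralizer m hc hn hzV hz1').ge⟩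

theorem part_ne_bot {V : Subgroup (Cfsg.Sz F m)} (hV : IsPart m V) : ∃ g ∈ V, g ≠ 1 := by
  have h8 := eight_le_card (F := F) m
  rw [← Nat.card_eq_fintype_card] at h8
  have hcard : 1 < Nat.card V := by
    rcases hV with ⟨P, rfl⟩ | ⟨-, hn⟩
    · obtain ⟨e⟩ := exists_sylow_iso m P
      rw [← Nat.card_congr e.toEquiv, card_U]
      nlinarith
    · obtain ⟨-, ⟨g₁, hg₁, hc₁⟩, ⟨g₂, hg₂, hc₂⟩⟩ := torus_classes (F := F) m
      have h1 := centralizer_card_gt m hg₁
      have h2 := centralizer_card_gt m hg₂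
      rw [hc₁] at h1
      rw [hc₂] at h2
      rw [card_nat (F := F) m] at h8
      rcases hn with h | h | h <;> omega
  have := (Subgroup.one_lt_card_iff_ne_bot V).mp hcard
  obtain ⟨x, hx⟩ := Subgroup.ne_bot_iff_exists_ne_one.mp this
  exact ⟨x, x.2, fun h => hx (Subtype.ext h)⟩

theorem no_nilpotent_minimal_cover (A : Finset (Subgroup (Cfsg.Sz F m))) (hA : IsCoverBy A)
    (hmin : ∀ B : Finset (Subgroup (Cfsg.Sz F m)), IsCoverBy B → A.card ≤ B.card)
    (hnil : ∀ H ∈ A, Group.IsNilpotent H) : False := by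
  classical
  have : Fintype (Subgroup (Cfsg.Sz F m)) := Fintype.ofFinite _
  set P := Finset.univ.filter (fun V : Subgroup (Cfsg.Sz F m) => IsPart m V) with hP
  set P' := P.erase (T m) with hP'
  -- each part needs its own member of a nilpotent cover
  have hle : P.card ≤ A.card := by
    have key : ∀ V ∈ P, ∃ H ∈ A, ∃ g, g ≠ 1 ∧ g ∈ H ∧ g ∈ V ∧ ∀ x ∈ H, x ∈ V := by
      intro V hV
      have hVp : IsPart m V := (Finset.mem_filter.mp hV).2
      obtain ⟨g, hgV, hg1⟩ := part_ne_bot m hVp
      obtain ⟨H, hH, hgH⟩ := hA.2 g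
      obtain ⟨W, hW, hHW⟩ := nilpotent_le_part m (hnil H hH) hgH hg1
      have := part_unique m hW hVp (hHW hgH) hgV hg1
      exact ⟨H, hH, g, hg1, hgH, hgV, fun x hx => this ▸ hHW hx⟩
    choose! f hf g hg1 hgf hgV hsub using key
    refine Finset.card_le_card_of_injOn f hf (fun V hV W hW h => ?_)
    exact part_unique m (Finset.mem_filter.mp hV).2 (Finset.mem_filter.mp hW).2
      (hgV V hV) (hsub W hW _ (h ▸ hgf V hV)) (hg1 V hV)
  -- the smaller cover
  set c : Subgroup (Cfsg.Sz F m) → Subgroup (Cfsg.Sz F m) := fun V =>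
    if IsPGroup 2 V then Subgroup.normalizer (V : Set (Cfsg.Sz F m)) else V with hc
  have hB : IsCoverBy (P'.image c) := by
    have hBtop : (B m : Subgroup (Cfsg.Sz F m)) ≠ ⊤ := fun h => by
      have h' := index_B (F := F) m
      rw [h, Subgroup.index_top] at h'
      have : 0 < Nat.card F := Nat.card_pos
      nlinarith
    constructor
    · intro H hH
      obtain ⟨V, hV, rfl⟩ := Finset.mem_image.mp hH
      have hVp : IsPart m V := (Finset.mem_filter.mp (Finset.mem_of_mem_erase hV)).2
      simp only [hc]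
      split_ifs with h2
      · intro htop
        rw [Subgroup.normalizer_eq_top_iff] at htop
        have := isSimpleGroup (F := F) m
        rcases htop.eq_bot_or_eq_top with h | h
        · obtain ⟨g, hg, hg1⟩ := part_ne_bot m hVp
          rw [h, Subgroup.mem_bot] at hg
          exact hg1 hg
        · subst h
          obtain ⟨n, hn⟩ := h2.exists_card_eq
          rw [Subgroup.card_top] at hn
          have hd : aPlus m ∣ 2 ^ n := by
            rw [← hn, card_Sz]
            exact (aPlus_dvd_Q (F := F) m).trans (dvd_mul_left _ _)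
          obtain ⟨i, -, hi⟩ := (Nat.dvd_prime_pow Nat.prime_two).mp hd
          have h5 : 5 ≤ aPlus m := by
            obtain ⟨g₁, hg₁, hc₁⟩ := (torus_classes (F := F) m).2.1
            exact hc₁ ▸ centralizer_card_gt m hg₁
          have : 2 ∣ aPlus m := by
            rw [hi]
            refine dvd_pow_self 2 ?_
            rintro rfl
            omega
          exact odd_Q (F := F) m (this.trans (aPlus_dvd_Q (F := F) m))
      · intro htop
        subst htop
        rcases hVp with ⟨Q, hQ⟩ | ⟨hcy, -⟩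
        · exact h2 (hQ ▸ Q.2)
        · obtain ⟨g, -⟩ := hcy.exists_generator
          let _ := IsCyclic.commGroup (α := (⊤ : Subgroup (Cfsg.Sz F m)))
          have hne : u m (1 : F) 0 * w m ≠ w m * u m 1 0 := by
            intro h
            have h' := congrArg (fun g => g • (oInf m : suzukiOvoid F m)) h
            simp only [mul_smul, w_smul_oInf, u_smul_oInf, u_smul_oPt, oPt_inj] at h'
            simpa using h'.1
          exact hne (congrArg Subtype.val
            (mul_comm (⟨u m (1 : F) 0, trivial⟩ : (⊤ : Subgroup (Cfsg.Sz F m))) ⟨w m, trivial⟩))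
    · intro g
      have hmem : ∀ V, IsPart m V → V ≠ T m → ∀ x ∈ c V, ∃ H ∈ P'.image c, x ∈ H :=
        fun V hV hne x hx => ⟨c V, Finset.mem_image_of_mem c
          (Finset.mem_erase.mpr ⟨hne, Finset.mem_filter.mpr ⟨Finset.mem_univ _, hV⟩⟩), hx⟩
      by_cases hf : FixFree m g
      · refine hmem (Subgroup.centralizer {g})
          (Or.inr ⟨centralizer_cyclic m hf, Or.inr (card_centralizer_fixFree m hf)⟩) (fun h => ?_) g ?_
        · have hg : g ∈ T m := h ▸ Subgroup.mem_centralizer_singleton_iff.mpr rfl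
          exact not_fixFree_of_mem_B m (T_le_B m hg) hf
        · simp only [hc]
          split_ifs
          · exact Subgroup.le_normalizer (Subgroup.mem_centralizer_singleton_iff.mpr rfl)
          · exact Subgroup.mem_centralizer_singleton_iff.mpr rfl
      · simp only [FixFree, ne_eq, not_forall, not_not] at hf
        obtain ⟨p, hp⟩ := hf
        obtain ⟨k, hk⟩ := exists_smul_eq (Cfsg.Sz F m) p (oInf m : suzukiOvoid F m)
        refine hmem ((U m).map (MulAut.conj k⁻¹).toMonoidHom) (isPart_conj m k⁻¹ (Or.inl ⟨sylowU m, rfl⟩))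
          (fun h => ?_) g ?_
        · have hu : (MulAut.conj k⁻¹) (u m 1 0) ∈ T m := h ▸ Subgroup.mem_map_of_mem _ (u_mem_U m 1 0)
          have h1 := Subgroup.orderOf_dvd_natCard _ hu
          rw [MulEquiv.orderOf_eq, card_T] at h1
          have h2 := Subgroup.orderOf_dvd_natCard _ (u_mem_U m (1 : F) 0)
          rw [card_U] at h2
          have h3 := Nat.eq_one_of_dvd_coprimes ((coprime_parts (F := F) m).1.pow_left 2) h2 h1
          rw [orderOf_eq_one_iff, u_eq_one] at h3
          exact one_ne_zero h3.1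
        · simp only [hc]
          rw [if_pos ((isPGroup_U m).map _), normalizer_map_U, Subgroup.mem_map_equiv,
            MulAut.conj_symm_apply, inv_inv, mem_B, mul_smul, mul_smul, ← hk, inv_smul_smul, hp]
  have h1 := hmin _ hB
  have h2 := Finset.card_image_le (s := P') (f := c)
  have h3 : P'.card < P.card :=
    Finset.card_erase_lt_of_mem (Finset.mem_filter.mpr ⟨Finset.mem_univ _, isPart_T m⟩)
  omega

theorem isCoverBy_map {G H : Type*} [Group G] [Group H] (f : G ≃* H) {A : Finset (Subgroup G)}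
    (hA : IsCoverBy A) : IsCoverBy (A.map f.mapSubgroup.toEquiv.toEmbedding) := by
  constructor
  · intro K hK htop
    obtain ⟨K', hK', rfl⟩ := Finset.mem_map.mp hK
    refine hA.1 K' hK' (f.mapSubgroup.injective (htop.trans ?_))
    exact (map_top f.mapSubgroup).symm
  · intro h
    obtain ⟨K, hK, hgK⟩ := hA.2 (f.symm h)
    exact ⟨_, Finset.mem_map_of_mem _ hK, Subgroup.mem_map_equiv.mpr hgK⟩

theorem no_nilpotent_minimal_cover_of_equiv {L : Type*} [Group L] (e : Cfsg.Sz F m ≃* L) :
    ¬ ∃ A : Finset (Subgroup L), IsCoverBy A ∧ (∀ B : Finset (Subgroup L), IsCoverBy B → A.card ≤ B.card) ∧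
      ∀ H ∈ A, Group.IsNilpotent H := by
  classical
  rintro ⟨A, hA, hmin, hnil⟩
  refine no_nilpotent_minimal_cover m (A.map e.symm.mapSubgroup.toEquiv.toEmbedding)
    (isCoverBy_map e.symm hA) (fun B hB => ?_) ?_
  · have := hmin _ (isCoverBy_map e hB)
    simpa using this
  · intro K hK
    obtain ⟨H, hH, rfl⟩ := Finset.mem_map.mp hK
    have := hnil H hH
    exact Group.nilpotent_of_surjective
      (H.equivMapOfInjective e.symm.toMonoidHom e.symm.injective).toMonoidHom
      (H.equivMapOfInjective e.symm.toMonoidHom e.symm.injective).surjective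

end Cfsg.Agent.Suzuki
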