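import Cfsg.Agent.Suzuki.CharDegrees

/-!
The set of character degrees of the Suzuki group.
-/

set_option autoImplicit false
set_option maxHeartbeats 1000000

open Cfsg
open scoped ComplexConjugate Classical
open Cfsg.Agent.CharBasic Cfsg.Agent.CharInduce

namespace Cfsg.Agent.Suzuki

/-- The equation of a column, away from the smallest case. -/
theorem column_large {n n' k d w e : ℤ} (hn : 6 ≤ n) (hn' : 6 ≤ n') (he : e = 1 ∨ e = -1)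
    (h : n * k ^ 2 - 2 * e * k + n' * d ^ 2 + 2 * w ^ 2 = 2) : k = 0 ∧ d = 0 ∧ (w = 1 ∨ w = -1) := by
  have hd : 0 ≤ n' * d ^ 2 := mul_nonneg (by omega) (sq_nonneg d)
  have hw : 0 ≤ 2 * w ^ 2 := by positivity
  have hk : k = 0 := by
    by_contra hk
    have h1 : 1 ≤ k ^ 2 := by
      have := lt_of_le_of_ne (sq_nonneg k) (Ne.symm (pow_ne_zero 2 hk))
      omega
    have h2 : n * k ^ 2 ≥ 6 * k ^ 2 := mul_le_mul_of_nonneg_right hn (sq_nonneg k)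
    have h3 : 2 * e * k ≤ 2 * k ^ 2 := by
      have hee : e ^ 2 = 1 := by rcases he with r | r <;> subst r <;> norm_num
      nlinarith [sq_nonneg (e - k)]
    omega
  subst hk
  simp only [mul_zero, sub_zero, zero_add, ne_eq, OfNat.ofNat_ne_zero, not_false_eq_true, zero_pow] at h
  have hd0 : d = 0 := by
    by_contra hd0
    have h1 : 1 ≤ d ^ 2 := by
      have := lt_of_le_of_ne (sq_nonneg d) (Ne.symm (pow_ne_zero 2 hd0))
      omega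
    nlinarith
  subst hd0
  exact ⟨rfl, rfl, sq_eq_one_iff.mp (by linarith)⟩

/-- The linear conditions determine the integers. -/
theorem solve_final {r n₁ n₂ A₁ A₂ AW b₁ b₂ bW s₁ s₂ w₁ w₂ : ℤ} (hr : 2 ≤ r)
    (hn₁ : 2 * n₁ = r ^ 2 + r) (hn₂ : 2 * n₂ = r ^ 2 - r) (hn₂' : 1 ≤ n₂)
    (hA₁ : 0 ≤ A₁) (hA₂ : 0 ≤ A₂) (hbW : 0 ≤ bW)
    (hs₁ : s₁ = 1 ∨ s₁ = -1) (hs₂ : s₂ = 1 ∨ s₂ = -1) (hw₁ : w₁ = 1 ∨ w₁ = -1) (hw₂ : w₂ = 1 ∨ w₂ = -1)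
    (e₁ : A₁ * s₁ + 2 * AW * w₁ = 1) (e₂ : A₂ * s₂ + 2 * AW * w₂ = 1)
    (f₁ : b₁ * s₁ + 2 * bW * w₁ = 2 * r) (f₂ : b₂ * s₂ + 2 * bW * w₂ = 2 * r)
    (hAA : n₁ * A₁ ^ 2 + n₂ * A₂ ^ 2 + 2 * AW ^ 2 = r ^ 2)
    (hAb : n₁ * (A₁ * b₁) + n₂ * (A₂ * b₂) + 2 * (AW * bW) = 2 * r * (r ^ 2 - 1)) :
    A₁ = 1 ∧ A₂ = 1 ∧ AW = 0 ∧ bW = 1 ∧ b₁ = 2 * r - 2 ∧ b₂ = 2 * r + 2 := by
  have a1 : 1 ≤ A₁ := by
    by_contra h
    have h0 : A₁ = 0 := by omega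
    rw [h0] at e₁
    rcases hw₁ with h | h <;> rw [h] at e₁ <;> omega
  have a2 : 1 ≤ A₂ := by
    by_contra h
    have h0 : A₂ = 0 := by omega
    rw [h0] at e₂
    rcases hw₂ with h | h <;> rw [h] at e₂ <;> omega
  have hn₁' : 1 ≤ n₁ := by nlinarith
  have q1 : 0 ≤ n₁ * (A₁ ^ 2 - 1) := mul_nonneg (by omega) (by nlinarith)
  have q2 : 0 ≤ n₂ * (A₂ ^ 2 - 1) := mul_nonneg (by omega) (by nlinarith)
  have hsum : n₁ * (A₁ ^ 2 - 1) + n₂ * (A₂ ^ 2 - 1) + 2 * AW ^ 2 = 0 := by linarith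
  have z1 : n₁ * (A₁ ^ 2 - 1) = 0 := by nlinarith
  have z2 : n₂ * (A₂ ^ 2 - 1) = 0 := by nlinarith
  have hAW : AW = 0 := by
    by_contra h
    have := lt_of_le_of_ne (sq_nonneg AW) (Ne.symm (pow_ne_zero 2 h))
    nlinarith
  have hA1 : A₁ = 1 := by
    rcases sq_eq_one_iff.mp (sub_eq_zero.mp ((mul_eq_zero.mp z1).resolve_left (by omega))) with h | h
    · exact h
    · omega
  have hA2 : A₂ = 1 := by
    rcases sq_eq_one_iff.mp (sub_eq_zero.mp ((mul_eq_zero.mp z2).resolve_left (by omega))) with h | h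
    · exact h
    · omega
  subst hAW hA1 hA2
  have g1 : s₁ = 1 := by linarith
  have g2 : s₂ = 1 := by linarith
  subst g1 g2
  have hb1 : b₁ = 2 * r - 2 * bW * w₁ := by linarith
  have hb2 : b₂ = 2 * r - 2 * bW * w₂ := by linarith
  subst hb1 hb2
  have key : bW * (w₁ * (r ^ 2 + r) + w₂ * (r ^ 2 - r)) = 2 * r := by
    linear_combination (-1 : ℤ) * hAb + (r - bW * w₁) * hn₁ + (r - bW * w₂) * hn₂
  rcases hw₁ with rfl | rfl <;> rcases hw₂ with rfl | rfl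
  · exfalso
    have h1 : (bW * r - 1) * r = 0 := by linarith
    have h2 := (mul_eq_zero.mp h1).resolve_right (by omega)
    rcases (show bW = 0 ∨ 1 ≤ bW by omega) with h | h
    · rw [h] at h2; norm_num at h2
    · nlinarith
  · have hb : bW = 1 := by
      have h1 : (bW - 1) * r = 0 := by linarith
      have := (mul_eq_zero.mp h1).resolve_right (by omega)
      omega
    subst hb
    refine ⟨rfl, rfl, rfl, rfl, ?_, ?_⟩ <;> ring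
  · exfalso
    have h1 : 0 ≤ bW * r := mul_nonneg hbW (by omega)
    linarith
  · exfalso
    have h1 : 0 ≤ bW * r ^ 2 := mul_nonneg hbW (sq_nonneg r)
    linarith

/-- The first column in the smallest case. -/
theorem column_small_one {A₁ A₂ AW b₁ b₂ bW k d w e : ℤ} (he : e = 1 ∨ e = -1)
    (hA₁ : 0 ≤ A₁) (hA₂ : 0 ≤ A₂) (hAA : 3 * A₁ ^ 2 + A₂ ^ 2 + 2 * AW ^ 2 = 4)
    (hAb : 3 * (A₁ * b₁) + A₂ * b₂ + 2 * (AW * bW) = 12)
    (E : A₁ * (-e + 3 * k) + A₂ * d + 2 * AW * w = 1) (G : b₁ * (-e + 3 * k) + b₂ * d + 2 * bW * w = 4)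
    (Q : 3 * k ^ 2 - 2 * e * k + d ^ 2 + 2 * w ^ 2 = 2) : k = 0 ∧ d = 0 ∧ (w = 1 ∨ w = -1) := by
  obtain ⟨v, hv⟩ : ∃ v, v = -e + 3 * k := ⟨_, rfl⟩
  rw [← hv] at E G
  have hee : e ^ 2 = 1 := by rcases he with r | r <;> subst r <;> norm_num
  have hQ : v ^ 2 + 3 * d ^ 2 + 6 * w ^ 2 = 7 := by subst hv; linear_combination 3 * Q + hee
  have v1 : v ≤ 2 := by nlinarith [sq_nonneg d, sq_nonneg w]
  have v2 : -2 ≤ v := by nlinarith [sq_nonneg d, sq_nonneg w]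
  have d1 : d ≤ 1 := by nlinarith [sq_nonneg v, sq_nonneg w]
  have d2 : -1 ≤ d := by nlinarith [sq_nonneg v, sq_nonneg w]
  have w1 : w ≤ 1 := by nlinarith [sq_nonneg v, sq_nonneg d]
  have w2 : -1 ≤ w := by nlinarith [sq_nonneg v, sq_nonneg d]
  by_cases hw : w = 0
  · exfalso
    subst hw
    have ha1 : A₁ ≤ 1 := by nlinarith [sq_nonneg A₂, sq_nonneg AW]
    have ha2 : A₂ ≤ 2 := by nlinarith [sq_nonneg A₁, sq_nonneg AW]
    simp only [mul_zero, add_zero] at E G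
    have hv' : v = 2 ∨ v = -2 := by interval_cases v <;> interval_cases d <;> omega
    have hd' : d = 1 ∨ d = -1 := by rcases hv' with r | r <;> subst r <;> interval_cases d <;> omega
    have a1 : AW ≤ 1 := by nlinarith [sq_nonneg A₁, sq_nonneg A₂]
    have a2 : -1 ≤ AW := by nlinarith [sq_nonneg A₁, sq_nonneg A₂]
    interval_cases AW <;> interval_cases A₁ <;> interval_cases A₂ <;> norm_num at hAA <;>
      rcases hv' with r | r <;> subst r <;> rcases hd' with r | r <;> subst r <;> omega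
  · have hw' : w = 1 ∨ w = -1 := by omega
    have hw2 : w ^ 2 = 1 := by rcases hw' with r | r <;> subst r <;> norm_num
    rw [hw2] at hQ
    have hd : d = 0 := by
      by_contra hd
      have := lt_of_le_of_ne (sq_nonneg d) (Ne.symm (pow_ne_zero 2 hd))
      nlinarith
    subst hd
    have hv2 : v = 1 ∨ v = -1 := sq_eq_one_iff.mp (by linarith)
    exact ⟨by omega, rfl, hw'⟩

/-- The second column in the smallest case. -/
theorem column_small_two {A₁ A₂ AW v d w : ℤ} (E : A₂ * v + 3 * (A₁ * d) + 2 * AW * w = 1)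
    (Q : v ^ 2 + 3 * d ^ 2 + 2 * w ^ 2 = 3) : d = 0 ∧ (v = 1 ∨ v = -1) ∧ (w = 1 ∨ w = -1) := by
  have v1 : v ≤ 1 := by nlinarith [sq_nonneg d, sq_nonneg w]
  have v2 : -1 ≤ v := by nlinarith [sq_nonneg d, sq_nonneg w]
  have d1 : d ≤ 1 := by nlinarith [sq_nonneg v, sq_nonneg w]
  have d2 : -1 ≤ d := by nlinarith [sq_nonneg v, sq_nonneg w]
  have w1 : w ≤ 1 := by nlinarith [sq_nonneg v, sq_nonneg d]
  have w2 : -1 ≤ w := by nlinarith [sq_nonneg v, sq_nonneg d]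
  interval_cases v <;> interval_cases d <;> interval_cases w <;> norm_num at Q <;> omega

/-- The integers from the two columns. -/
theorem solve_sides {r n₁ n₂ A₁ A₂ AW b₁ b₂ bW k₁ d₁ w₁ e₁ k₂ d₂ w₂ e₂ : ℤ}
    (hr : r = 2 ∨ 4 ≤ r) (hn₁ : 2 * n₁ = r ^ 2 + r) (hn₂ : 2 * n₂ = r ^ 2 - r)
    (hA₁ : 0 ≤ A₁) (hA₂ : 0 ≤ A₂) (hbW : 0 ≤ bW)
    (he₁ : e₁ = 1 ∨ e₁ = -1) (he₂ : (e₂ = 1 ∨ e₂ = -1) ∨ n₂ = 1)
    (E1 : A₁ * (-e₁ + n₁ * k₁) + n₂ * (A₂ * d₁) + 2 * AW * w₁ = 1)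
    (F1 : b₁ * (-e₁ + n₁ * k₁) + n₂ * (b₂ * d₁) + 2 * bW * w₁ = 2 * r)
    (Q1 : -4 - 2 * e₁ * k₁ + n₁ * k₁ ^ 2 + n₂ * d₁ ^ 2 + 2 * w₁ ^ 2 = -2)
    (E2 : A₂ * (-e₂ + n₂ * k₂) + n₁ * (A₁ * d₂) + 2 * AW * w₂ = 1)
    (F2 : b₂ * (-e₂ + n₂ * k₂) + n₁ * (b₁ * d₂) + 2 * bW * w₂ = 2 * r)
    (Q2 : -4 - 2 * e₂ * k₂ + n₂ * k₂ ^ 2 + (e₂ ^ 2 - 1) + n₁ * d₂ ^ 2 + 2 * w₂ ^ 2 = -2)
    (hAA : n₁ * A₁ ^ 2 + n₂ * A₂ ^ 2 + 2 * AW ^ 2 = r ^ 2)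
    (hAb : n₁ * (A₁ * b₁) + n₂ * (A₂ * b₂) + 2 * (AW * bW) = 2 * r * (r ^ 2 - 1)) :
    A₁ = 1 ∧ A₂ = 1 ∧ AW = 0 ∧ bW = 1 ∧ b₁ = 2 * r - 2 ∧ b₂ = 2 * r + 2 := by
  rcases hr with hr | hr
  · subst hr
    obtain rfl : n₁ = 3 := by linarith
    obtain rfl : n₂ = 1 := by linarith
    obtain ⟨rfl, rfl, hw₁⟩ := column_small_one (A₁ := A₁) (A₂ := A₂) (AW := AW) (b₁ := b₁) (b₂ := b₂) (bW := bW) (k := k₁) (d := d₁) (w := w₁) he₁ hA₁ hA₂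
      (by linarith) (by linarith) (by linarith) (by linarith) (by linarith)
    obtain ⟨rfl, hv, hw₂⟩ := column_small_two (A₁ := A₁) (A₂ := A₂) (AW := AW) (v := -e₂ + k₂) (d := d₂) (w := w₂)
      (by linarith) (by linear_combination Q2)
    exact solve_final (s₁ := -e₁) (s₂ := -e₂ + k₂) (w₁ := w₁) (w₂ := w₂) le_rfl (by norm_num) (by norm_num)
      le_rfl hA₁ hA₂ hbW (by omega) hv hw₁ hw₂ (by linarith) (by linarith) (by linarith) (by linarith) hAA hAb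
  · have hsq : 4 * r ≤ r ^ 2 := by rw [sq]; exact mul_le_mul_of_nonneg_right hr (by omega)
    have l1 : 6 ≤ n₁ := by linarith
    have l2 : 6 ≤ n₂ := by linarith
    have he₂' : e₂ = 1 ∨ e₂ = -1 := he₂.resolve_right (by omega)
    obtain ⟨rfl, rfl, hw₁⟩ := column_large (k := k₁) (d := d₁) (w := w₁) l1 l2 he₁ (by linear_combination Q1)
    have he2 : e₂ ^ 2 = 1 := by rcases he₂' with r | r <;> subst r <;> norm_num
    obtain ⟨rfl, rfl, hw₂⟩ := column_large (k := k₂) (d := d₂) (w := w₂) l2 l1 he₂'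
      (by linear_combination Q2 - he2)
    exact solve_final (s₁ := -e₁) (s₂ := -e₂) (w₁ := w₁) (w₂ := w₂) (by omega) hn₁ hn₂ (by omega) hA₁ hA₂ hbW
      (by omega) (by omega) hw₁ hw₂ (by linear_combination E1) (by linear_combination E2)
      (by linear_combination F1) (by linear_combination F2) hAA hAb

variable {F : Type*} [Field F] [Fintype F] {m : ℕ} [SzField F m] [Fintype (Cfsg.Sz F m)]
  [Fintype (Fˣ →* ℂˣ)]
variable {A b : IrrCharacter (Cfsg.Sz F m) → ℕ} {c : IrrCharacter (Cfsg.Sz F m) → ℤ}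

/-- The complex pair. -/
theorem exists_pair_W (hv : IsVals m A b c) : ∃ χ χ' : IrrCharacter (Cfsg.Sz F m), χ ∈ cusp m ∧ χ' ∈ cusp m ∧
    χ ≠ χ' ∧ c χ ≠ 0 ∧ c χ' ≠ 0 ∧ A χ = A χ' ∧ b χ = b χ' ∧
    (∀ g, IsConj g g⁻¹ → χ'.1 g = χ.1 g) ∧ ∀ ψ ∈ cusp m, ψ ≠ χ → ψ ≠ χ' → c ψ = 0 := by
  have hc := (global_sums hv).2.2
  obtain ⟨χ, hχ, hne⟩ : ∃ χ ∈ cusp m, c χ ≠ 0 := by
    by_contra! h
    rw [Finset.sum_eq_zero fun ψ hψ => by rw [h ψ hψ]; ring] at hc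
    norm_num at hc
  let χ' : IrrCharacter (Cfsg.Sz F m) := ⟨fun g => conj (χ.1 g), IsIrr.conj χ.2⟩
  have hχ' : χ' ∈ cusp m := by
    rw [mem_cusp]
    show ∑ a : F, ∑ b : F, conj (χ.1 (u m a b)) = 0
    simp only [← map_sum, (mem_cusp m).mp hχ, map_zero]
  have hinv : ∀ g, conj (χ.1 g) = χ.1 g⁻¹ := fun g =>
    (IsChar.inv_apply (CharBasic.IsIrr.isCharacter χ.2) g).symm
  have hreal : ∀ g, IsConj g g⁻¹ → χ'.1 g = χ.1 g := fun g hg =>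
    apply_inv_of_real m (CharBasic.IsIrr.isCharacter χ.2) hg
  have h1 : χ'.1 (u m 1 0) = χ.1 (u m 1 0)⁻¹ := hinv _
  have h2 : χ'.1 (u m 1 0)⁻¹ = χ.1 (u m 1 0) := (hinv _).trans (by rw [inv_inv])
  obtain ⟨hA, hb, hcc⟩ := vals_congr hv hχ' hχ (hreal 1 (by rw [inv_one])) (hreal _ (real_u01 m))
    (by rw [h1, h2, add_comm]) (by rw [h1, h2, mul_comm])
  have hne' : c χ' ≠ 0 := fun h => hne (by rw [h] at hcc; simpa using hcc.symm)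
  have hdiff : χ ≠ χ' := by
    intro e
    have h3 : χ.1 (u m 1 0) = χ.1 (u m 1 0)⁻¹ := (congrFun (congrArg Subtype.val e) _).trans h1
    have hs := hv.sq χ hχ
    have hr := hv.re χ hχ
    rw [← h3] at hs hr
    have hz : ((2 : ℂ) ^ m) ^ 2 * (c χ : ℂ) ^ 2 = 0 := by
      linear_combination -hs + ((χ.1 (u m 1 0) - A χ) / 2) * hr
    rcases mul_eq_zero.mp hz with h | h
    · exact pow_ne_zero 2 (pow_ne_zero m (by norm_num)) h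
    · exact hne (by simpa using h)
  refine ⟨χ, χ', hχ, hχ', hdiff, hne, hne', hA.symm, hb.symm, hreal, fun ψ hψ h1' h2' => ?_⟩
  by_contra h0
  have hpos : ∀ {x : ℤ}, x ≠ 0 → 1 ≤ x ^ 2 := fun {x} hx => by
    have := lt_of_le_of_ne (sq_nonneg x) (Ne.symm (pow_ne_zero 2 hx))
    omega
  have h3 : ∑ x ∈ ({ψ, χ, χ'} : Finset _), c x ^ 2 ≤ ∑ x ∈ cusp m, c x ^ 2 :=
    Finset.sum_le_sum_of_subset_of_nonneg (by
      intro x hx
      simp only [Finset.mem_insert, Finset.mem_singleton] at hx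
      rcases hx with rfl | rfl | rfl <;> assumption) fun _ _ _ => sq_nonneg _
  rw [Finset.sum_insert (by simp [h1', h2']), Finset.sum_pair hdiff, hc] at h3
  have := hpos h0
  have := hpos hne
  have := hpos hne'
  omega

/-- Two different families are disjoint. -/
theorem disjoint_families {V W : Subgroup (Cfsg.Sz F m)} (hco : Nat.Coprime (Nat.card V) (Nat.card W))
    {S T : Finset (IrrCharacter (Cfsg.Sz F m))} (hS : 2 ≤ S.card) (hT : 2 ≤ T.card)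
    (hsS : ∀ g, (∀ x, x⁻¹ * g * x ∈ V → g = 1) → ∀ χ ∈ S, ∀ χ' ∈ S, χ.1 g = χ'.1 g)
    (hsT : ∀ g, (∀ x, x⁻¹ * g * x ∈ W → g = 1) → ∀ χ ∈ T, ∀ χ' ∈ T, χ.1 g = χ'.1 g) : Disjoint S T := by
  rw [Finset.disjoint_left]
  intro χ hχS hχT
  obtain ⟨i, hi, hine⟩ := Finset.exists_mem_ne (by omega : 1 < S.card) χ
  obtain ⟨j, hj, hjne⟩ := Finset.exists_mem_ne (by omega : 1 < T.card) χ
  have h0 : classInner (χ.1 - i.1) (χ.1 - j.1) = 0 := by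
    rw [classInner]
    refine mul_eq_zero_of_right _ (Finset.sum_eq_zero fun g _ => ?_)
    by_cases hg : ∀ x, x⁻¹ * g * x ∈ V → g = 1
    · simp [hsS g hg χ hχS i hi]
    · push Not at hg
      obtain ⟨x, hx, hg1⟩ := hg
      have hgT : ∀ y, y⁻¹ * g * y ∈ W → g = 1 := by
        intro y hy
        have h1 := not_conj_into hco hx (x⁻¹ * y) (by
          rw [show (x⁻¹ * y)⁻¹ * (x⁻¹ * g * x) * (x⁻¹ * y) = y⁻¹ * g * y by group]
          exact hy)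
        exfalso
        exact hg1 (by
          calc g = x * (x⁻¹ * g * x) * x⁻¹ := by group
            _ = 1 := by rw [h1]; group)
      simp [hsT g hgT χ hχT j hj]
  rw [classInner_sub_left, classInner_sub_right, classInner_sub_right, classInner_irrCharacter,
    classInner_irrCharacter, classInner_irrCharacter, classInner_irrCharacter, if_pos rfl,
    if_neg (Ne.symm hjne), if_neg hine] at h0
  split_ifs at h0 <;> norm_num at h0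

/-- The degrees of the irreducible characters of the Suzuki group. -/
theorem degrees (χ : IrrCharacter (Cfsg.Sz F m)) :
    χ.1 1 ∈ ({1, (Fintype.card F : ℂ) ^ 2, (Fintype.card F : ℂ) ^ 2 + 1,
      ((Fintype.card F : ℂ) - 1) * (2 : ℂ) ^ m,
      ((Fintype.card F : ℂ) - 1) * ((Fintype.card F : ℂ) - 2 * (2 : ℂ) ^ m + 1),
      ((Fintype.card F : ℂ) - 1) * ((Fintype.card F : ℂ) + 2 * (2 : ℂ) ^ m + 1)} : Set ℂ) ∧
    (∃ χ₁ : IrrCharacter (Cfsg.Sz F m), χ₁.1 1 = ((Fintype.card F : ℂ) - 1) * (2 : ℂ) ^ m) ∧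
    (∃ χ₁ : IrrCharacter (Cfsg.Sz F m),
      χ₁.1 1 = ((Fintype.card F : ℂ) - 1) * ((Fintype.card F : ℂ) - 2 * (2 : ℂ) ^ m + 1)) ∧
    (∃ χ₁ : IrrCharacter (Cfsg.Sz F m),
      χ₁.1 1 = ((Fintype.card F : ℂ) - 1) * ((Fintype.card F : ℂ) + 2 * (2 : ℂ) ^ m + 1)) := by
  obtain ⟨A, b, c, hv⟩ := exists_vals (F := F) m
  obtain ⟨hgA, hgAb, -⟩ := global_sums hv
  -- the two tori
  obtain ⟨V₁, hV₁, hc₁⟩ := exists_part_card (F := F) m (n := aPlus m) (by simp)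
  obtain ⟨V₂, hV₂, hc₂⟩ := exists_part_card (F := F) m (n := aMinus m) (by simp)
  obtain ⟨-, -, -, n1, n2, -⟩ := part_sizes (F := F) (m := m)
  have h4₁ : Nat.card V₁ ≠ 2 ^ (2 * m + 1) - 1 := hc₁ ▸ n1.symm
  have h4₂ : Nat.card V₂ ≠ 2 ^ (2 * m + 1) - 1 := hc₂ ▸ n2.symm
  have hd₁ : Nat.card V₁ ∣ Nat.card F ^ 2 + 1 := hc₁ ▸ aPlus_dvd_Q (F := F) m
  have hd₂ : Nat.card V₂ ∣ Nat.card F ^ 2 + 1 := hc₂ ▸ aMinus_dvd_Q (F := F) m
  have : Finite (↥V₁ →* ℂˣ) := Nat.finite_of_card_ne_zero (by rw [card_hom_V hV₁]; exact Nat.card_pos.ne')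
  have : Finite (↥V₂ →* ℂˣ) := Nat.finite_of_card_ne_zero (by rw [card_hom_V hV₂]; exact Nat.card_pos.ne')
  let _ : Fintype (↥V₁ →* ℂˣ) := Fintype.ofFinite _
  let _ : Fintype (↥V₂ →* ℂˣ) := Fintype.ofFinite _
  -- sizes
  set r : ℕ := 2 ^ m with hr
  have hr2 : 2 ≤ r := by
    calc 2 = 2 ^ 1 := rfl
      _ ≤ r := Nat.pow_le_pow_right (by norm_num) (SzField.pos F)
  have hq2 : 2 ^ (2 * m + 1) = 2 * r ^ 2 := by rw [hr, ← pow_mul]; ring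
  have hm1 : 2 ^ (m + 1) = 2 * r := by rw [hr]; ring
  have hrr : r ≤ r ^ 2 := Nat.le_self_pow two_ne_zero r
  have hn₁ : 2 * (psiSet hV₁).card = r ^ 2 + r := by
    have := card_psiSet hV₁ h4₁
    rw [hc₁] at this
    simp only [aPlus, hq2, hm1] at this
    omega
  have hn₂ : 2 * (psiSet hV₂).card + r = r ^ 2 := by
    have := card_psiSet hV₂ h4₂
    rw [hc₂] at this
    simp only [aMinus, hq2, hm1] at this
    omega
  have hn₁3 : 3 ≤ (psiSet hV₁).card := by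
    have : r * 2 ≤ r ^ 2 := by rw [sq]; exact Nat.mul_le_mul_left r hr2
    omega
  have hn₂1 : 1 ≤ (psiSet hV₂).card := by
    have : r * 2 ≤ r ^ 2 := by rw [sq]; exact Nat.mul_le_mul_left r hr2
    omega
  obtain ⟨y₁, hy₁, hy₁1⟩ := hV₁.exists_ne_one
  obtain ⟨y₂, hy₂, hy₂1⟩ := hV₂.exists_ne_one
  obtain ⟨S₁, hS₁, hS₁c, hsame₁, hout₁, e₁, k₁, he₁, hs₁, hq₁⟩ := family hV₁ h4₁ hd₁ hn₁3 hy₁ hy₁1
  obtain ⟨A₁, b₁, hvals₁⟩ := family_vals hv hV₁ hS₁ (by omega) hsame₁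
  obtain ⟨χw, χw', hw, hw', hww, hcw, hcw', hAw, hbw, hrealw, -⟩ := exists_pair_W hv
  have hco : Nat.Coprime (Nat.card V₁) (Nat.card V₂) := by rw [hc₁, hc₂]; exact coprime_parts_pm
  -- the second family
  obtain ⟨S₂, hS₂, hS₂c, hsame₂, hdisj, hc0, hA₂ex, hside⟩ :
      ∃ S₂ : Finset (IrrCharacter (Cfsg.Sz F m)), S₂ ⊆ cusp m ∧ S₂.card = (psiSet hV₂).card ∧
      (∀ g, (∀ x, x⁻¹ * g * x ∈ V₂ → g = 1) → ∀ χ ∈ S₂, ∀ χ' ∈ S₂, χ.1 g = χ'.1 g) ∧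
      Disjoint S₁ S₂ ∧ (χw ∉ S₂ ∧ χw' ∉ S₂) ∧ (∃ A₂ b₂ : ℕ, ∀ χ ∈ S₂, A χ = A₂ ∧ b χ = b₂) ∧
      ((∀ χ, χ ∉ S₂ → ∃ k : ℤ, χ.1 y₂ = k) ∧ ∃ e k : ℤ,
        ((e = 1 ∨ e = -1) ∨ (psiSet hV₂).card = 1) ∧ ∑ χ ∈ S₂, χ.1 y₂ = -(e : ℂ) + ((psiSet hV₂).card : ℂ) * k ∧
        ∑ χ ∈ S₂, χ.1 y₂ * χ.1 y₂ =
          (Nat.card V₂ : ℂ) - 4 - 2 * e * k + ((psiSet hV₂).card : ℂ) * k ^ 2 + ((e : ℂ) ^ 2 - 1)) := by
    by_cases h : 3 ≤ (psiSet hV₂).card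
    · obtain ⟨S₂, hS₂, hS₂c, hsame₂, hout₂, e₂, k₂, he₂, hs₂, hq₂⟩ := family hV₂ h4₂ hd₂ h hy₂ hy₂1
      obtain ⟨A₂, b₂, hvals₂⟩ := family_vals hv hV₂ hS₂ (by omega) hsame₂
      refine ⟨S₂, hS₂, hS₂c, hsame₂, disjoint_families hco (by omega) (by omega) hsame₁ hsame₂,
        ⟨fun h => hcw (hvals₂ _ h).2.2, fun h => hcw' (hvals₂ _ h).2.2⟩,
        ⟨A₂, b₂, fun χ hχ => ⟨(hvals₂ χ hχ).1, (hvals₂ χ hχ).2.1⟩⟩, hout₂, e₂, k₂, Or.inl he₂, hs₂, ?_⟩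
      rw [hq₂]
      rcases he₂ with rfl | rfl <;> simp
    · have hr' : r = 2 := by
        by_contra hne
        have : r * 4 ≤ r ^ 2 := by
          rw [sq]
          refine Nat.mul_le_mul_left r ?_
          have hm2 : 2 ≤ m := by
            by_contra hm
            have h1 : m = 1 := by have := SzField.pos (F := F) (m := m); omega
            exact hne (by rw [hr, h1]; rfl)
          calc 4 = 2 ^ 2 := rfl
            _ ≤ r := Nat.pow_le_pow_right (by norm_num) hm2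
        omega
      have hn1 : (psiSet hV₂).card = 1 := by rw [hr'] at hn₂; omega
      have hWsub : S₁ ∪ {χw, χw'} ⊆ cusp m := Finset.union_subset hS₁ (by simp [Finset.insert_subset_iff, hw, hw'])
      have hWdis : Disjoint S₁ {χw, χw'} := by
        rw [Finset.disjoint_right]
        simp only [Finset.mem_insert, Finset.mem_singleton, forall_eq_or_imp, forall_eq]
        exact ⟨fun h => hcw (hvals₁ _ h).2.2, fun h => hcw' (hvals₁ _ h).2.2⟩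
      have hcard : (cusp m \ (S₁ ∪ {χw, χw'})).card = 1 := by
        rw [Finset.card_sdiff_of_subset hWsub, Finset.card_union_of_disjoint hWdis, hS₁c, Finset.card_pair hww,
          card_cusp]
        rw [hr'] at hn₁
        show r ^ 2 + 2 - _ = 1
        rw [hr']
        omega
      obtain ⟨e₀, he₀⟩ := Finset.card_eq_one.mp hcard
      have hmem : e₀ ∈ cusp m \ (S₁ ∪ {χw, χw'}) := he₀ ▸ Finset.mem_singleton_self e₀
      simp only [Finset.mem_sdiff, Finset.mem_union, Finset.mem_insert, Finset.mem_singleton, not_or] at hmem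
      obtain ⟨ev, hev⟩ := constant_of_card_one hV₂ h4₂ hn1 e₀
      have hev' : e₀.1 y₂ = ev := hev ⟨y₂, hy₂⟩ (fun h => hy₂1 (congrArg Subtype.val h))
      refine ⟨{e₀}, by simp [hmem.1], by rw [hn1]; rfl, fun g _ χ hχ χ' hχ' => by
          rw [Finset.mem_singleton.mp hχ, Finset.mem_singleton.mp hχ'],
        by simp [hmem.2.1], by simp [Ne.symm hmem.2.2.1, Ne.symm hmem.2.2.2],
        ⟨A e₀, b e₀, fun χ hχ => by rw [Finset.mem_singleton.mp hχ]; exact ⟨rfl, rfl⟩⟩,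
        fun χ _ => ?_, -ev, 0, Or.inr hn1, by simp [hev'], ?_⟩
      · obtain ⟨k, hk⟩ := constant_of_card_one hV₂ h4₂ hn1 χ
        exact ⟨k, hk ⟨y₂, hy₂⟩ (fun h => hy₂1 (congrArg Subtype.val h))⟩
      · have ha : Nat.card V₂ = 5 := by have := card_psiSet hV₂ h4₂; omega
        rw [Finset.sum_singleton, hev', ha, hn1]
        push_cast
        ring
  obtain ⟨A₂, b₂, hvals₂⟩ := hA₂ex
  have hw1 : χw ∉ S₁ := fun h => hcw (hvals₁ _ h).2.2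
  have hw1' : χw' ∉ S₁ := fun h => hcw' (hvals₁ _ h).2.2
  have hdW : Disjoint (S₁ ∪ S₂) {χw, χw'} := by
    rw [Finset.disjoint_right]
    simp only [Finset.mem_insert, Finset.mem_singleton, forall_eq_or_imp, forall_eq, Finset.mem_union, not_or]
    exact ⟨⟨hw1, hc0.1⟩, hw1', hc0.2⟩
  have hcusp : cusp m = S₁ ∪ S₂ ∪ {χw, χw'} := by
    refine (Finset.eq_of_subset_of_card_le ?_ ?_).symm
    · exact Finset.union_subset (Finset.union_subset hS₁ hS₂) (by simp [Finset.insert_subset_iff, hw, hw'])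
    · rw [Finset.card_union_of_disjoint hdW, Finset.card_union_of_disjoint hdisj, hS₁c, hS₂c,
        Finset.card_pair hww, card_cusp]
      show r ^ 2 + 2 ≤ _
      omega
  have hsum : ∀ {R : Type} [AddCommMonoid R] (f : IrrCharacter (Cfsg.Sz F m) → R),
      ∑ χ ∈ cusp m, f χ = ∑ χ ∈ S₁, f χ + ∑ χ ∈ S₂, f χ + (f χw + f χw') := by
    intro R _ f
    rw [hcusp, Finset.sum_union hdW, Finset.sum_union hdisj, Finset.sum_pair hww]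
  have hcA : ∀ χ ∈ S₁, A χ = A₁ ∧ b χ = b₁ := fun χ hχ => ⟨(hvals₁ χ hχ).1, (hvals₁ χ hχ).2.1⟩
  -- a column
  have hcol : ∀ {V : Subgroup (Cfsg.Sz F m)} (_ : IsCyclicPart m V) (_ : Nat.card V ∣ Nat.card F ^ 2 + 1)
      {y : Cfsg.Sz F m} (_ : y ∈ V) (_ : y ≠ 1) (S T : Finset (IrrCharacter (Cfsg.Sz F m))) (AS bS AT bT : ℕ)
      (_ : ∀ χ ∈ S, A χ = AS ∧ b χ = bS) (_ : ∀ χ ∈ T, A χ = AT ∧ b χ = bT)
      (_ : ∀ f : IrrCharacter (Cfsg.Sz F m) → ℂ,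
        ∑ χ ∈ cusp m, f χ = ∑ χ ∈ S, f χ + ∑ χ ∈ T, f χ + (f χw + f χw'))
      (sS qS d w : ℤ) (_ : ∑ χ ∈ S, χ.1 y = sS) (_ : ∑ χ ∈ S, χ.1 y * χ.1 y = (Nat.card V : ℂ) + qS)
      (_ : ∀ χ ∈ T, χ.1 y = d) (_ : χw.1 y = w),
      (AS : ℤ) * sS + (T.card : ℤ) * ((AT : ℤ) * d) + 2 * (A χw : ℤ) * w = 1 ∧
      (bS : ℤ) * sS + (T.card : ℤ) * ((bT : ℤ) * d) + 2 * (b χw : ℤ) * w = 2 * (r : ℤ) ∧
      qS + (T.card : ℤ) * d ^ 2 + 2 * w ^ 2 = -2 := by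
    intro V hV hd y hy hy1 S T AS bS AT bT hS hT hsp sS qS d w hs hq' hT' hwv
    have hyf := fixFree_of_mem m hV hd hy hy1
    have hss : IsSS m y := ⟨hy1, hV.odd_orderOf hy⟩
    obtain ⟨g1, g2, g3⟩ := column_sums hv hyf hss
    rw [hV.centralizer_eq hy hy1] at g3
    have hw'y : χw'.1 y = w := (hrealw y (isConj_inv_of_isSS m hss)).trans hwv
    rw [hsp, Finset.sum_congr rfl (fun χ hχ => show (A χ : ℂ) * χ.1 y = (AS : ℂ) * χ.1 y by rw [(hS χ hχ).1]),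
      ← Finset.mul_sum, hs, Finset.sum_congr rfl (fun χ hχ => show (A χ : ℂ) * χ.1 y = (AT : ℂ) * d by
        rw [(hT χ hχ).1, hT' χ hχ]), Finset.sum_const, nsmul_eq_mul, ← hAw, hwv, hw'y] at g1
    rw [hsp, Finset.sum_congr rfl (fun χ hχ => show (b χ : ℂ) * χ.1 y = (bS : ℂ) * χ.1 y by rw [(hS χ hχ).2]),
      ← Finset.mul_sum, hs, Finset.sum_congr rfl (fun χ hχ => show (b χ : ℂ) * χ.1 y = (bT : ℂ) * d by
        rw [(hT χ hχ).2, hT' χ hχ]), Finset.sum_const, nsmul_eq_mul, ← hbw, hwv, hw'y] at g2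
    rw [hsp, hq', Finset.sum_congr rfl (fun χ hχ => show χ.1 y * χ.1 y = (d : ℂ) * d by rw [hT' χ hχ]),
      Finset.sum_const, nsmul_eq_mul, hwv, hw'y] at g3
    refine ⟨?_, ?_, ?_⟩
    · have h : (((AS : ℤ) * sS + (T.card : ℤ) * ((AT : ℤ) * d) + 2 * (A χw : ℤ) * w : ℤ) : ℂ) = ((1 : ℤ) : ℂ) := by
        push_cast; linear_combination g1
      exact_mod_cast h
    · have h : (((bS : ℤ) * sS + (T.card : ℤ) * ((bT : ℤ) * d) + 2 * (b χw : ℤ) * w : ℤ) : ℂ) =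
          ((2 * (r : ℤ) : ℤ) : ℂ) := by
        rw [hr]; push_cast; linear_combination g2
      exact_mod_cast h
    · have h : ((qS + (T.card : ℤ) * d ^ 2 + 2 * w ^ 2 : ℤ) : ℂ) = ((-2 : ℤ) : ℂ) := by
        push_cast; linear_combination g3
      exact_mod_cast h
  -- integers at the two columns
  have hnd₁ : ∀ x, x⁻¹ * y₁ * x ∈ V₂ → y₁ = 1 := fun x hx => not_conj_into hco hy₁ x hx
  have hnd₂ : ∀ x, x⁻¹ * y₂ * x ∈ V₁ → y₂ = 1 := fun x hx => not_conj_into hco.symm hy₂ x hx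
  obtain ⟨χ₁₀, hχ₁₀⟩ := Finset.card_pos.mp (show 0 < S₁.card by omega)
  obtain ⟨χ₂₀, hχ₂₀⟩ := Finset.card_pos.mp (show 0 < S₂.card by omega)
  obtain ⟨d₁, hd₁'⟩ := hout₁ χ₂₀ (fun h => Finset.disjoint_left.mp hdisj h hχ₂₀)
  obtain ⟨w₁, hw₁⟩ := hout₁ χw hw1
  obtain ⟨hout₂, e₂, k₂, he₂, hs₂, hq₂⟩ := hside
  obtain ⟨d₂, hd₂'⟩ := hout₂ χ₁₀ (fun h => Finset.disjoint_left.mp hdisj hχ₁₀ h)
  obtain ⟨w₂, hw₂⟩ := hout₂ χw hc0.1
  obtain ⟨E1, F1, Q1⟩ := hcol hV₁ hd₁ hy₁ hy₁1 S₁ S₂ A₁ b₁ A₂ b₂ hcA hvals₂ (fun f => hsum f)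
    (-e₁ + (psiSet hV₁).card * k₁) (-4 - 2 * e₁ * k₁ + (psiSet hV₁).card * k₁ ^ 2) d₁ w₁
    (by rw [hs₁]; push_cast; rfl) (by rw [hq₁]; push_cast; ring)
    (fun χ hχ => (hsame₂ y₁ hnd₁ χ hχ χ₂₀ hχ₂₀).trans hd₁') hw₁
  obtain ⟨E2, F2, Q2⟩ := hcol hV₂ hd₂ hy₂ hy₂1 S₂ S₁ A₂ b₂ A₁ b₁ hvals₂ hcA
    (fun f => by rw [hsum f]; ring)
    (-e₂ + (psiSet hV₂).card * k₂)
    (-4 - 2 * e₂ * k₂ + (psiSet hV₂).card * k₂ ^ 2 + (e₂ ^ 2 - 1)) d₂ w₂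
    (by rw [hs₂]; push_cast; rfl) (by rw [hq₂]; push_cast; ring)
    (fun χ hχ => (hsame₁ y₂ hnd₂ χ hχ χ₁₀ hχ₁₀).trans hd₂') hw₂
  have hAA : ((psiSet hV₁).card : ℤ) * (A₁ : ℤ) ^ 2 + ((psiSet hV₂).card : ℤ) * (A₂ : ℤ) ^ 2 +
      2 * (A χw : ℤ) ^ 2 = (r : ℤ) ^ 2 := by
    rw [hsum fun χ => (A χ : ℤ) ^ 2, Finset.sum_congr rfl (fun χ hχ => by rw [(hcA χ hχ).1]),
      Finset.sum_const, Finset.sum_congr rfl (fun χ hχ => by rw [(hvals₂ χ hχ).1]), Finset.sum_const,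
      nsmul_eq_mul, nsmul_eq_mul, ← hAw, hS₁c, hS₂c] at hgA
    rw [hr]; push_cast
    linear_combination hgA
  have hAb : ((psiSet hV₁).card : ℤ) * ((A₁ : ℤ) * b₁) + ((psiSet hV₂).card : ℤ) * ((A₂ : ℤ) * b₂) +
      2 * ((A χw : ℤ) * b χw) = 2 * (r : ℤ) * ((r : ℤ) ^ 2 - 1) := by
    rw [hsum fun χ => (A χ : ℤ) * b χ, Finset.sum_congr rfl (fun χ hχ => by rw [(hcA χ hχ).1, (hcA χ hχ).2]),
      Finset.sum_const, Finset.sum_congr rfl (fun χ hχ => by rw [(hvals₂ χ hχ).1, (hvals₂ χ hχ).2]),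
      Finset.sum_const, nsmul_eq_mul, nsmul_eq_mul, ← hAw, ← hbw, hS₁c, hS₂c] at hgAb
    rw [hr]; push_cast
    linear_combination hgAb
  rw [hS₂c] at E1 F1 Q1
  rw [hS₁c] at E2 F2 Q2
  have hn₁z : 2 * ((psiSet hV₁).card : ℤ) = (r : ℤ) ^ 2 + r := by exact_mod_cast hn₁
  have hn₂z : 2 * ((psiSet hV₂).card : ℤ) = (r : ℤ) ^ 2 - r := by
    have : 2 * ((psiSet hV₂).card : ℤ) + r = (r : ℤ) ^ 2 := by exact_mod_cast hn₂
    linarith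
  have hr4 : (r : ℤ) = 2 ∨ 4 ≤ (r : ℤ) := by
    rcases (show m = 1 ∨ 2 ≤ m by have := SzField.pos (F := F) (m := m); omega) with h | h
    · left; rw [hr, h]; rfl
    · right
      have : 4 ≤ r := by
        calc 4 = 2 ^ 2 := rfl
          _ ≤ r := Nat.pow_le_pow_right (by norm_num) h
      exact_mod_cast this
  have he₂' : (e₂ = 1 ∨ e₂ = -1) ∨ ((psiSet hV₂).card : ℤ) = 1 := he₂.imp id (fun h => by exact_mod_cast h)
  obtain ⟨rA₁, rA₂, rAW, rbW, rb₁, rb₂⟩ := solve_sides hr4 hn₁z hn₂z (Nat.cast_nonneg _) (Nat.cast_nonneg _)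
    (Nat.cast_nonneg _) he₁ he₂' E1 F1 Q1 E2 F2 Q2 hAA hAb
  set q : ℂ := (Fintype.card F : ℂ) with hqd
  have hq : q = 2 * ((2 : ℂ) ^ m) ^ 2 := card_eq_sq m
  have hrc : (r : ℂ) = (2 : ℂ) ^ m := by rw [hr]; push_cast; rfl
  have hA₁c : (A₁ : ℂ) = 1 := by exact_mod_cast rA₁
  have hA₂c : (A₂ : ℂ) = 1 := by exact_mod_cast rA₂
  have hAWc : (A χw : ℂ) = 0 := by exact_mod_cast rAW
  have hbWc : (b χw : ℂ) = 1 := by exact_mod_cast rbW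
  have hb₁c : (b₁ : ℂ) = 2 * (2 : ℂ) ^ m - 2 := by
    have h : ((b₁ : ℤ) : ℂ) = ((2 * (r : ℤ) - 2 : ℤ) : ℂ) := by rw [rb₁]
    push_cast at h
    rwa [hrc] at h
  have hb₂c : (b₂ : ℂ) = 2 * (2 : ℂ) ^ m + 2 := by
    have h : ((b₂ : ℤ) : ℂ) = ((2 * (r : ℤ) + 2 : ℤ) : ℂ) := by rw [rb₂]
    push_cast at h
    rwa [hrc] at h
  have D₁ : ∀ χ ∈ S₁, χ.1 1 = (q - 1) * (q - 2 * (2 : ℂ) ^ m + 1) := by
    intro χ hχ
    rw [hv.deg χ (hS₁ hχ), (hcA χ hχ).1, (hcA χ hχ).2, hA₁c, hb₁c]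
    linear_combination -(q - 1) * hq
  have D₂ : ∀ χ ∈ S₂, χ.1 1 = (q - 1) * (q + 2 * (2 : ℂ) ^ m + 1) := by
    intro χ hχ
    rw [hv.deg χ (hS₂ hχ), (hvals₂ χ hχ).1, (hvals₂ χ hχ).2, hA₂c, hb₂c]
    linear_combination -(q - 1) * hq
  have DW : χw.1 1 = (q - 1) * (2 : ℂ) ^ m := by rw [hv.deg χw hw, hAWc, hbWc]; ring
  refine ⟨?_, ⟨χw, DW⟩, ⟨χ₁₀, D₁ _ hχ₁₀⟩, ⟨χ₂₀, D₂ _ hχ₂₀⟩⟩
  simp only [Set.mem_insert_iff, Set.mem_singleton_iff]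
  rcases cases_irr m χ with h | h | h | h
  · exact Or.inl (by rw [h]; rfl)
  · exact Or.inr (Or.inl (by rw [h]; exact st_one m))
  · obtain ⟨l, -, e⟩ := (mem_priSet m).mp h
    exact Or.inr (Or.inr (Or.inl (by rw [e, pri_one])))
  · rw [hcusp] at h
    simp only [Finset.mem_union, Finset.mem_insert, Finset.mem_singleton] at h
    rcases h with (h | h) | rfl | rfl
    · exact Or.inr (Or.inr (Or.inr (Or.inr (Or.inl (D₁ χ h)))))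
    · exact Or.inr (Or.inr (Or.inr (Or.inr (Or.inr (D₂ χ h)))))
    · exact Or.inr (Or.inr (Or.inr (Or.inl DW)))
    · refine Or.inr (Or.inr (Or.inr (Or.inl ?_)))
      rw [hrealw 1 (by rw [inv_one])]
      exact DW

end Cfsg.Agent.Suzuki
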