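import Cfsg.Agent.Suzuki.ClassSquare
import Cfsg.Agent.CharBasic.Complete
import Cfsg.Agent.CharInduce.Isometry

/-!
Exceptional characters of the Suzuki group attached to the cyclic subgroups with normaliser index four.
-/

set_option autoImplicit false
set_option maxHeartbeats 800000

open Cfsg
open scoped ComplexConjugate Classical
open Cfsg.Agent.CharBasic Cfsg.Agent.CharInduce

namespace Cfsg.Agent.Suzuki

variable {F : Type*} [Field F] [Fintype F] (m : ℕ) [SzField F m]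

variable {m} {V : Subgroup (Cfsg.Sz F m)}

/-- The twist of a linear character of `V` by an element of the normaliser. -/
noncomputable def tw (l : ↥V →* ℂˣ) (g : ↥(Subgroup.normalizer (V : Set (Cfsg.Sz F m)))) : ↥V →* ℂˣ :=
  l.comp (Subgroup.normalizerMonoidHom V g).toMonoidHom

theorem tw_apply (l : ↥V →* ℂˣ) (g : ↥(Subgroup.normalizer (V : Set (Cfsg.Sz F m)))) (y : ↥V) :
    tw l g y = l (Subgroup.normalizerMonoidHom V g y) := rfl

theorem phi_coe (g : ↥(Subgroup.normalizer (V : Set (Cfsg.Sz F m)))) (y : ↥V) :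
    ((Subgroup.normalizerMonoidHom V g y : ↥V) : Cfsg.Sz F m) = g.1 * y.1 * g.1⁻¹ := rfl

theorem tw_mul (l : ↥V →* ℂˣ) (g h : ↥(Subgroup.normalizer (V : Set (Cfsg.Sz F m)))) :
    tw l (g * h) = tw (tw l g) h := by
  refine MonoidHom.ext fun y => ?_
  rw [tw_apply, tw_apply, tw_apply, map_mul]
  rfl

theorem tw_one (l : ↥V →* ℂˣ) : tw l 1 = l := by
  refine MonoidHom.ext fun y => ?_
  rw [tw_apply, map_one]
  rfl

theorem tw_ne_one {l : ↥V →* ℂˣ} (hl : l ≠ 1) (g : ↥(Subgroup.normalizer (V : Set (Cfsg.Sz F m)))) :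
    tw l g ≠ 1 := by
  intro e
  refine hl ?_
  rw [← tw_one l, ← mul_inv_cancel g, tw_mul, e]
  rfl

variable (hV : IsCyclicPart m V)
include hV

theorem comm_V (y z : ↥V) : y * z = z * y := by
  let _ := hV.1.commGroup
  exact mul_comm y z

theorem tw_of_mem (l : ↥V →* ℂˣ) {g : ↥(Subgroup.normalizer (V : Set (Cfsg.Sz F m)))}
    (hg : g.1 ∈ V) : tw l g = l := by
  refine MonoidHom.ext fun y => ?_
  rw [tw_apply]
  congr 1
  apply Subtype.ext
  rw [phi_coe, show g.1 * y.1 = y.1 * g.1 from congrArg Subtype.val (comm_V hV ⟨g.1, hg⟩ y),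
    mul_inv_cancel_right]

theorem mem_normalizer_of_conj {x y : Cfsg.Sz F m} (hy : y ∈ V) (hy1 : y ≠ 1) (h : x⁻¹ * y * x ∈ V) :
    x ∈ Subgroup.normalizer (V : Set (Cfsg.Sz F m)) := by
  have h1 : x⁻¹ * y * x ≠ 1 := fun e => hy1 (by
    calc y = x * (x⁻¹ * y * x) * x⁻¹ := by group
      _ = 1 := by rw [e]; group)
  have hc : ∀ {v : Cfsg.Sz F m}, v ∈ V → v ≠ 1 → ∀ z, z * v = v * z → z ∈ V := by
    intro v hv hv1 z hz
    rw [← hV.centralizer_eq hv hv1, Subgroup.mem_centralizer_singleton_iff]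
    exact hz
  rw [Subgroup.mem_normalizer_iff]
  intro z
  constructor
  · intro hz
    refine hc hy hy1 _ ?_
    have e : z * (x⁻¹ * y * x) = x⁻¹ * y * x * z := congrArg Subtype.val (comm_V hV ⟨z, hz⟩ ⟨_, h⟩)
    calc x * z * x⁻¹ * y = x * (z * (x⁻¹ * y * x)) * x⁻¹ := by group
      _ = _ := by rw [e]; group
  · intro hz
    refine hc h h1 _ ?_
    have e : x * z * x⁻¹ * y = y * (x * z * x⁻¹) := congrArg Subtype.val (comm_V hV ⟨_, hz⟩ ⟨y, hy⟩)
    calc z * (x⁻¹ * y * x) = x⁻¹ * (x * z * x⁻¹ * y) * x := by group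
      _ = _ := by rw [e]; group

/-- The stabiliser of a nontrivial character is `V`. -/
theorem mem_of_tw_eq {l : ↥V →* ℂˣ} (hl : l ≠ 1) {g : ↥(Subgroup.normalizer (V : Set (Cfsg.Sz F m)))}
    (hg : tw l g = l) : g.1 ∈ V := by
  by_contra hgV
  obtain ⟨h, hh, hhV, hh2⟩ : ∃ h, tw l h = l ∧ h.1 ∉ V ∧ (h * h).1 ∈ V := by
    by_cases h2 : (g * g).1 ∈ V
    · exact ⟨g, hg, hgV, h2⟩
    · refine ⟨g * g, by rw [tw_mul, hg, hg], h2, ?_⟩
      have := hV.pow_four g.2 hgV
      show g.1 * g.1 * (g.1 * g.1) ∈ V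
      rw [show g.1 * g.1 * (g.1 * g.1) = g.1 ^ 4 by simp [pow_succ, mul_assoc], this]
      exact V.one_mem
  refine hl (MonoidHom.ext fun v => ?_)
  set φ := Subgroup.normalizerMonoidHom V h
  have hφφ : φ (φ v) = v := by
    apply Subtype.ext
    rw [phi_coe, phi_coe]
    have e : h.1 * h.1 * v.1 = v.1 * (h.1 * h.1) := congrArg Subtype.val (comm_V hV ⟨_, hh2⟩ v)
    calc h.1 * (h.1 * v.1 * h.1⁻¹) * h.1⁻¹ = h.1 * h.1 * v.1 * (h.1 * h.1)⁻¹ := by group
      _ = _ := by rw [e, mul_inv_cancel_right]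
  have hinv : φ v = v⁻¹ := by
    by_contra hne
    have hy1 : (v * φ v : ↥V) ≠ 1 := fun e => hne (inv_eq_of_mul_eq_one_right e).symm
    refine hhV ((SetLike.ext_iff.mp (hV.centralizer_eq (v * φ v).2 (fun e => hy1 (Subtype.ext e))) h.1).mp ?_)
    rw [Subgroup.mem_centralizer_singleton_iff]
    have e : φ (v * φ v) = v * φ v := by rw [map_mul, hφφ, comm_V hV]
    have e' := congrArg Subtype.val e
    rw [phi_coe, mul_inv_eq_iff_eq_mul] at e'
    exact e'
  have h1 : l v = l v⁻¹ := by rw [← hinv, ← tw_apply, hh]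
  rw [map_inv, eq_inv_iff_mul_eq_one] at h1
  have h2 : orderOf (l v) ∣ 2 := orderOf_dvd_of_pow_eq_one (by rw [sq, h1])
  have h3 : orderOf (l v) ∣ orderOf v.1 := (orderOf_map_dvd l v).trans (Subgroup.orderOf_coe v).symm.dvd
  exact orderOf_eq_one_iff.mp
    (Nat.eq_one_of_dvd_coprimes (Nat.coprime_two_left.mpr (hV.odd_orderOf v.2)) h2 h3)

variable [Fintype (Cfsg.Sz F m)] (h4 : Nat.card V ≠ 2 ^ (2 * m + 1) - 1)

theorem card_filter_V : (Finset.univ.filter fun g : ↥(Subgroup.normalizer (V : Set (Cfsg.Sz F m))) =>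
    g.1 ∈ V).card = Nat.card V := by
  rw [← Fintype.card_subtype, ← Nat.card_eq_fintype_card]
  exact Nat.card_congr (Subgroup.subgroupOfEquivOfLe Subgroup.le_normalizer).toEquiv

theorem card_tw_eq {l μ : ↥V →* ℂˣ} (hl : l ≠ 1) :
    (Finset.univ.filter fun g => tw l g = μ).card = if ∃ g, tw l g = μ then Nat.card V else 0 := by
  split_ifs with h
  · obtain ⟨g₀, rfl⟩ := h
    rw [← card_filter_V hV]
    refine Finset.card_equiv (Equiv.mulRight g₀⁻¹) fun g => ?_
    simp only [Finset.mem_filter, Finset.mem_univ, true_and, Equiv.coe_mulRight]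
    constructor
    · intro e
      refine mem_of_tw_eq hV hl ?_
      rw [tw_mul, e, ← tw_mul, mul_inv_cancel, tw_one]
    · intro e
      have h1 := tw_mul l (g * g₀⁻¹) g₀
      rwa [inv_mul_cancel_right, tw_of_mem hV l e] at h1
  · rw [Finset.card_eq_zero, Finset.filter_eq_empty_iff]
    exact fun g _ e => h ⟨g, e⟩

/-- The sum of the conjugates of a linear character. -/
noncomputable def psi (l : ↥V →* ℂˣ) : ↥V → ℂ := fun y =>
  (Nat.card V : ℂ)⁻¹ * ∑ g, (tw l g y : ℂ)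

theorem classInner_psi {l μ : ↥V →* ℂˣ} (hl : l ≠ 1) :
    classInner (psi l) (fun y => (μ y : ℂ)) = if ∃ g, tw l g = μ then 1 else 0 := by
  have hc : (Nat.card V : ℂ) ≠ 0 := card_ne_zero_complex _
  have e : psi l = (Nat.card V : ℂ)⁻¹ • ∑ g, (fun y => (tw l g y : ℂ)) := by
    funext y; simp [psi]
  rw [e, classInner_smul_left, classInner_sum_left,
    Finset.sum_congr rfl fun g _ => classInner_irr (isIrrCharacter_hom (tw l g)) (isIrrCharacter_hom μ)]
  have e2 : ∀ g, ((fun y => (tw l g y : ℂ)) = fun y => (μ y : ℂ)) ↔ tw l g = μ := fun g =>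
    ⟨fun h => MonoidHom.ext fun y => Units.ext (congrFun h y), fun h => by rw [h]⟩
  simp only [e2, Finset.sum_boole, card_tw_eq hV hl]
  split_ifs <;> simp [hc]

theorem psi_tw (l : ↥V →* ℂˣ) (g : ↥(Subgroup.normalizer (V : Set (Cfsg.Sz F m)))) :
    psi (tw l g) = psi l := by
  funext y
  simp only [psi]
  refine congrArg _ ?_
  exact (Finset.sum_congr rfl fun x _ => by rw [← tw_mul]; rfl).trans
    (Equiv.sum_comp (Equiv.mulLeft g) fun x => (tw l x y : ℂ))

theorem psi_eq_iff {l μ : ↥V →* ℂˣ} (hl : l ≠ 1) (hμ : μ ≠ 1) :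
    psi μ = psi l ↔ ∃ g, tw l g = μ := by
  constructor
  · intro e
    have h1 := classInner_psi hV (μ := μ) hl
    rw [← e, classInner_psi hV hμ, if_pos ⟨1, tw_one μ⟩] at h1
    by_contra hne
    rw [if_neg hne] at h1
    exact one_ne_zero h1
  · rintro ⟨g, rfl⟩
    exact psi_tw hV l g

include h4 in
theorem card_N : Nat.card ↥(Subgroup.normalizer (V : Set (Cfsg.Sz F m))) = 4 * Nat.card V := by
  rw [hV.card_normalizer, normIndex, if_neg h4]

include h4 in
theorem psi_one (l : ↥V →* ℂˣ) : psi l 1 = 4 := by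
  have hc : (Nat.card V : ℂ) ≠ 0 := card_ne_zero_complex _
  simp only [psi, map_one, Units.val_one, Finset.sum_const, Finset.card_univ, nsmul_eq_mul, mul_one,
    ← Nat.card_eq_fintype_card, card_N hV h4, Nat.cast_mul, Nat.cast_ofNat]
  field_simp

section Hom

variable [Fintype (↥V →* ℂˣ)]

/-- The sums of the orbits of nontrivial linear characters. -/
noncomputable def psiSet (_h : IsCyclicPart m V) : Finset (↥V → ℂ) :=
  (Finset.univ.filter fun l : ↥V →* ℂˣ => l ≠ 1).image psi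

theorem mem_psiSet {i : ↥V → ℂ} : i ∈ psiSet hV ↔ ∃ l : ↥V →* ℂˣ, l ≠ 1 ∧ psi l = i := by
  simp [psiSet]

include h4 in
theorem card_fibre {i : ↥V → ℂ} (hi : i ∈ psiSet hV) :
    (Finset.univ.filter fun l : ↥V →* ℂˣ => l ≠ 1 ∧ psi l = i).card = 4 := by
  obtain ⟨l, hl, rfl⟩ := (mem_psiSet hV).mp hi
  have him : (Finset.univ.filter fun μ : ↥V →* ℂˣ => μ ≠ 1 ∧ psi μ = psi l) =
      Finset.univ.image (tw l) := by
    ext μ
    simp only [Finset.mem_filter, Finset.mem_univ, true_and, Finset.mem_image]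
    refine ⟨fun h => (psi_eq_iff hV hl h.1).mp h.2, ?_⟩
    rintro ⟨g, rfl⟩
    exact ⟨tw_ne_one hl g, psi_tw hV l g⟩
  have h := Finset.card_eq_sum_card_image (tw l) Finset.univ
  rw [Finset.sum_congr rfl fun μ hμ => by
      rw [card_tw_eq hV hl, if_pos (by simpa using hμ)], Finset.sum_const, smul_eq_mul,
    Finset.card_univ, ← Nat.card_eq_fintype_card, card_N hV h4] at h
  rw [him]
  exact (Nat.eq_of_mul_eq_mul_right Nat.card_pos h).symm

omit [Fintype (↥V →* ℂˣ)] in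
theorem card_hom_V : Nat.card (↥V →* ℂˣ) = Nat.card V := by
  let _ := hV.1.commGroup
  obtain ⟨e⟩ := CommGroup.monoidHom_mulEquiv_of_hasEnoughRootsOfUnity ↥V ℂ
  exact Nat.card_congr e.toEquiv

include h4 in
theorem card_psiSet : 4 * (psiSet hV).card + 1 = Nat.card V := by
  have h := Finset.card_eq_sum_card_image psi (Finset.univ.filter fun l : ↥V →* ℂˣ => l ≠ 1)
  rw [Finset.filter_ne' Finset.univ (1 : ↥V →* ℂˣ), Finset.card_erase_of_mem (Finset.mem_univ _),
    Finset.card_univ, ← Nat.card_eq_fintype_card, card_hom_V hV, ← Finset.filter_ne'] at h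
  change _ = ∑ i ∈ psiSet hV, _ at h
  rw [Finset.sum_congr rfl fun i hi => by rw [Finset.filter_filter, card_fibre hV h4 hi],
    Finset.sum_const, smul_eq_mul] at h
  have := hV.five_le
  omega

theorem sum_hom_apply (y : ↥V) :
    ∑ l : ↥V →* ℂˣ, (l y : ℂ) = if y = 1 then (Nat.card V : ℂ) else 0 := by
  split_ifs with hy
  · subst hy
    rw [← card_hom_V hV, Nat.card_eq_fintype_card]
    simp
  · let _ := hV.1.commGroup
    obtain ⟨φ, hφ⟩ := CommGroup.exists_apply_ne_one_of_hasEnoughRootsOfUnity ↥V ℂ hy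
    have h : (φ y : ℂ) * ∑ l : ↥V →* ℂˣ, (l y : ℂ) = 1 * ∑ l : ↥V →* ℂˣ, (l y : ℂ) := by
      rw [Finset.mul_sum, one_mul]
      exact Fintype.sum_equiv (Equiv.mulLeft φ) _ _ fun l => by simp
    by_contra hne
    exact hφ (Units.ext (mul_right_cancel₀ hne h))

theorem sum_ne_one_apply {y : ↥V} (hy : y ≠ 1) :
    ∑ l ∈ Finset.univ.filter (fun l : ↥V →* ℂˣ => l ≠ 1), (l y : ℂ) = -1 := by
  have h := sum_hom_apply hV y
  rw [if_neg hy, ← Finset.sum_filter_add_sum_filter_not Finset.univ (fun l : ↥V →* ℂˣ => l ≠ 1)] at h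
  simp only [ne_eq, not_not, Finset.filter_eq', Finset.mem_univ, if_true, Finset.sum_singleton,
    MonoidHom.one_apply, Units.val_one] at h
  linear_combination h

include h4 in
theorem sum_fibre {i : ↥V → ℂ} (hi : i ∈ psiSet hV) (y : ↥V) :
    ∑ l ∈ Finset.univ.filter (fun l : ↥V →* ℂˣ => l ≠ 1 ∧ psi l = i), (l y : ℂ) = i y := by
  obtain ⟨l, hl, rfl⟩ := (mem_psiSet hV).mp hi
  have hc : (Nat.card V : ℂ) ≠ 0 := card_ne_zero_complex _
  symm
  rw [psi, ← Finset.sum_fiberwise_of_maps_to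
    (t := Finset.univ.filter fun μ : ↥V →* ℂˣ => μ ≠ 1 ∧ psi μ = psi l) (g := tw l)
    (fun g _ => by simp [tw_ne_one hl g, psi_tw hV l g]), Finset.mul_sum]
  refine Finset.sum_congr rfl fun μ hμ => ?_
  rw [Finset.sum_congr rfl (g := fun _ => (μ y : ℂ)) fun g hg => by rw [(Finset.mem_filter.mp hg).2],
    Finset.sum_const, card_tw_eq hV hl,
    if_pos ((psi_eq_iff hV hl (Finset.mem_filter.mp hμ).2.1).mp (Finset.mem_filter.mp hμ).2.2),
    nsmul_eq_mul, ← mul_assoc, inv_mul_cancel₀ hc, one_mul]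

include h4 in
theorem sum_psiSet {y : ↥V} (hy : y ≠ 1) : ∑ i ∈ psiSet hV, i y = -1 := by
  rw [← sum_ne_one_apply hV hy, ← Finset.sum_fiberwise_of_maps_to (t := psiSet hV) (g := psi)
    (fun l hl => (mem_psiSet hV).mpr ⟨l, (Finset.mem_filter.mp hl).2, rfl⟩)]
  refine Finset.sum_congr rfl fun i hi => ?_
  rw [Finset.filter_filter, sum_fibre hV h4 hi]

include h4 in
theorem sum_sq_psiSet {y : ↥V} (hy : y ≠ 1) :
    ∑ i ∈ psiSet hV, i y * i y = (Nat.card V : ℂ) - 4 := by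
  have hc : (Nat.card V : ℂ) ≠ 0 := card_ne_zero_complex _
  have hSS : IsSS m y.1 := ⟨fun e => hy (Subtype.ext e), hV.odd_orderOf y.2⟩
  obtain ⟨x, hx⟩ := isConj_iff.mp (isConj_inv_of_isSS m hSS)
  have hxN : x ∈ Subgroup.normalizer (V : Set (Cfsg.Sz F m)) := by
    have h := mem_normalizer_of_conj hV (x := x⁻¹) y.2 hSS.1 (by rw [inv_inv, hx]; exact V.inv_mem y.2)
    simpa using (Subgroup.normalizer (V : Set (Cfsg.Sz F m))).inv_mem h
  have hcount : (Finset.univ.filter fun g : ↥(Subgroup.normalizer (V : Set (Cfsg.Sz F m))) =>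
      y * Subgroup.normalizerMonoidHom V g y = 1).card = Nat.card V := by
    rw [← card_filter_V hV]
    refine Finset.card_equiv (Equiv.mulLeft (⟨x, hxN⟩)⁻¹) fun g => ?_
    simp only [Finset.mem_filter, Finset.mem_univ, true_and, Equiv.coe_mulLeft]
    rw [Subtype.ext_iff, Subgroup.coe_mul, phi_coe, Subgroup.coe_one]
    show y.1 * (g.1 * y.1 * g.1⁻¹) = 1 ↔ x⁻¹ * g.1 ∈ V
    rw [← SetLike.ext_iff.mp (hV.centralizer_eq y.2 hSS.1) (x⁻¹ * g.1), Subgroup.mem_centralizer_singleton_iff,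
      mul_eq_one_iff_inv_eq, ← hx]
    constructor
    · intro e
      calc x⁻¹ * g.1 * y.1 = x⁻¹ * (g.1 * y.1 * g.1⁻¹) * g.1 := by group
        _ = _ := by rw [← e]; group
    · intro e
      calc x * y.1 * x⁻¹ = x * (y.1 * (x⁻¹ * g.1)) * g.1⁻¹ := by group
        _ = _ := by rw [← e]; group
  have h1 : ∀ i ∈ psiSet hV, i y * i y =
      ∑ l ∈ Finset.univ.filter (fun l : ↥V →* ℂˣ => l ≠ 1 ∧ psi l = i), (l y : ℂ) * psi l y := by
    intro i hi
    conv_lhs => arg 1; rw [← sum_fibre hV h4 hi y]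
    rw [Finset.sum_mul]
    exact Finset.sum_congr rfl fun l hl => by rw [(Finset.mem_filter.mp hl).2.2]
  rw [Finset.sum_congr rfl h1]
  simp only [← Finset.filter_filter]
  rw [Finset.sum_fiberwise_of_maps_to (t := psiSet hV) (g := psi)
    (fun l hl => (mem_psiSet hV).mpr ⟨l, (Finset.mem_filter.mp hl).2, rfl⟩)]
  simp only [psi, tw_apply, Finset.mul_sum]
  rw [Finset.sum_comm]
  have h2 : ∀ g, ∑ l ∈ Finset.univ.filter (fun l : ↥V →* ℂˣ => l ≠ 1),
      (l y : ℂ) * ((Nat.card V : ℂ)⁻¹ * (l (Subgroup.normalizerMonoidHom V g y) : ℂ)) =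
      (if y * Subgroup.normalizerMonoidHom V g y = 1 then (1 : ℂ) else 0) - (Nat.card V : ℂ)⁻¹ := by
    intro g
    have e : ∀ l : ↥V →* ℂˣ, (l y : ℂ) * ((Nat.card V : ℂ)⁻¹ * (l (Subgroup.normalizerMonoidHom V g y) : ℂ)) =
        (Nat.card V : ℂ)⁻¹ * (l (y * Subgroup.normalizerMonoidHom V g y) : ℂ) := fun l => by
      rw [map_mul, Units.val_mul]; ring
    simp only [e, ← Finset.mul_sum]
    split_ifs with hg
    · simp only [hg, map_one, Units.val_one, Finset.sum_const, Finset.filter_ne', Finset.card_erase_of_mem,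
        Finset.mem_univ, Finset.card_univ, ← Nat.card_eq_fintype_card, card_hom_V hV, nsmul_eq_mul, mul_one]
      have := hV.five_le
      rw [Nat.cast_sub (by omega), mul_sub, inv_mul_cancel₀ hc]
      simp
    · rw [sum_ne_one_apply hV hg]; ring
  rw [Finset.sum_congr rfl fun g _ => h2 g, Finset.sum_sub_distrib, Finset.sum_boole, hcount,
    Finset.sum_const, Finset.card_univ, ← Nat.card_eq_fintype_card, card_N hV h4, nsmul_eq_mul]
  push_cast
  field_simp

/-- The value on `V` of an induced linear character. -/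
theorem indFun_apply_V (l : ↥V →* ℂˣ) {y : ↥V} (hy : y ≠ 1) :
    indFun V (fun v => (l v : ℂ)) y.1 = psi l y := by
  have hy' : y.1 ≠ 1 := fun e => hy (Subtype.ext e)
  rw [indFun_apply, psi]
  congr 1
  symm
  rw [← Equiv.sum_comp (Equiv.inv _)]
  refine Fintype.sum_of_injective Subtype.val Subtype.val_injective _ _ (fun x hx => ?_) (fun g => ?_)
  · refine extendByZero_of_not_mem _ fun h => hx ⟨⟨x, mem_normalizer_of_conj hV y.2 hy' h⟩, rfl⟩
  · have h : g.1⁻¹ * y.1 * g.1 ∈ V := by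
      have := (Subgroup.normalizerMonoidHom V g⁻¹ y).2
      rw [phi_coe] at this
      simpa using this
    rw [extendByZero_of_mem _ h, Equiv.inv_apply, tw_apply]
    congr 2
    apply Subtype.ext
    rw [phi_coe]
    simp

/-- Expansion of a class function on `V`. -/
theorem expansion (χ : Cfsg.Sz F m → ℂ) (y : ↥V) :
    χ y.1 = ∑ l : ↥V →* ℂˣ, classInner (fun v : ↥V => χ v.1) (fun v => (l v : ℂ)) * (l y : ℂ) := by
  have hc : (Nat.card V : ℂ) ≠ 0 := card_ne_zero_complex _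
  have e : ∀ (l : ↥V →* ℂˣ) (v : ↥V), conj (l v : ℂ) * (l y : ℂ) = (l (v⁻¹ * y) : ℂ) := fun l v => by
    rw [map_mul, Units.val_mul, map_inv, Units.val_inv_eq_inv_val, Complex.inv_eq_conj (norm_hom l v)]
  simp only [classInner, Finset.mul_sum, Finset.sum_mul]
  rw [Finset.sum_comm]
  simp only [mul_assoc, e, ← Finset.mul_sum, sum_hom_apply hV, inv_mul_eq_one, mul_ite, mul_zero,
    Finset.sum_ite_eq', Finset.mem_univ, if_true]
  field_simp

/-- The coefficients are constant on orbits. -/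
theorem coeff_tw {χ : Cfsg.Sz F m → ℂ} (hχ : IsClassFunction (Cfsg.Sz F m) χ) (l : ↥V →* ℂˣ)
    (g : ↥(Subgroup.normalizer (V : Set (Cfsg.Sz F m)))) :
    classInner (fun v : ↥V => χ v.1) (fun v => (tw l g v : ℂ)) =
      classInner (fun v : ↥V => χ v.1) (fun v => (l v : ℂ)) := by
  simp only [classInner]
  congr 1
  refine Fintype.sum_equiv (Subgroup.normalizerMonoidHom V g).toEquiv _ _ fun v => ?_
  show _ = χ (Subgroup.normalizerMonoidHom V g v).1 * conj (l (Subgroup.normalizerMonoidHom V g v) : ℂ)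
  rw [phi_coe, hχ, tw_apply]

include h4 in
/-- The exceptional characters. -/
theorem exists_exceptional (hn : 2 ≤ (psiSet hV).card) :
    ∃ θ : ↥(psiSet hV) → IrrCharacter (Cfsg.Sz F m), ∃ e : ℤ, (e = 1 ∨ e = -1) ∧ Function.Injective θ ∧
      (∀ g : Cfsg.Sz F m, (∀ x, x⁻¹ * g * x ∈ V → g = 1) → ∀ i j, (θ i).1 g = (θ j).1 g) ∧
      (∃ c : ℤ, ∀ i, ∀ y : ↥V, y ≠ 1 → (θ i).1 y.1 = (e : ℂ) * i.1 y + c) ∧
      ∀ χ : IrrCharacter (Cfsg.Sz F m), (∀ i, θ i ≠ χ) → ∃ k : ℤ, ∀ y : ↥V, y ≠ 1 → χ.1 y.1 = k := by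
  choose rep hrep hrepi using fun i : ↥(psiSet hV) => (mem_psiSet hV).mp i.2
  let E := (psiSet hV).equivFin
  let i₀ : Fin (psiSet hV).card := ⟨0, by omega⟩
  let f : Fin (psiSet hV).card → (↥V → ℂ) := fun k => fun v => (rep (E.symm k) v : ℂ)
  let τ : Fin (psiSet hV).card → Cfsg.Sz F m → ℂ := fun k => indFun V (f k - f i₀)
  have hf : ∀ k, IsCharacter ↥V (f k) := fun k => isCharacter_hom _
  have hgen : ∀ k, IsGeneralizedCharacter (Cfsg.Sz F m) (τ k) := fun k =>
    IsGen.ind _ ⟨_, _, hf k, hf i₀, rfl⟩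
  have hone : ∀ k, τ k 1 = 0 := fun k => by simp [τ, f, indFun_one]
  have hres : ∀ k, (fun v : ↥V => τ k v.1) = psi (rep (E.symm k)) - psi (rep (E.symm i₀)) := by
    intro k
    funext v
    by_cases hv : v = 1
    · subst hv
      rw [OneMemClass.coe_one, hone, Pi.sub_apply, psi_one hV h4, psi_one hV h4, sub_self]
    · show indFun V (f k - f i₀) v.1 = _
      rw [indFun_sub, Pi.sub_apply, Pi.sub_apply, indFun_apply_V hV _ hv, indFun_apply_V hV _ hv]
  have hinner : ∀ i j : ↥(psiSet hV), classInner (psi (rep i)) (fun v => (rep j v : ℂ)) =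
      if i = j then (1 : ℂ) else 0 := by
    intro i j
    rw [classInner_psi hV (hrep i)]
    by_cases h : i = j
    · subst h; rw [if_pos rfl, if_pos ⟨1, tw_one _⟩]
    · rw [if_neg h, if_neg]
      intro hg
      have := (psi_eq_iff hV (hrep i) (hrep j)).mpr hg
      rw [hrepi, hrepi] at this
      exact h (Subtype.ext this.symm)
  have hgram : ∀ k k', k ≠ i₀ → k' ≠ i₀ → classInner (τ k) (τ k') = if k = k' then 2 else 1 := by
    intro k k' hk hk'
    show classInner (τ k) (indFun V (f k' - f i₀)) = _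
    rw [classInner_indFun_right _ _ _ (IsGen.isClassFunction (hgen k)), hres, classInner_sub_left,
      classInner_sub_right, classInner_sub_right]
    simp only [f, hinner, E.symm.injective.eq_iff]
    rw [if_neg hk, if_neg (Ne.symm hk')]
    simp only [if_true]
    split_ifs <;> norm_num
  obtain ⟨ε, hε, μ, hμ, hμinj, he⟩ := Isometry.exists_signed_family _ i₀ τ
    (by simp [τ, indFun_zero]) hgen hone hgram
  obtain ⟨e, he1, rfl⟩ : ∃ e : ℤ, (e = 1 ∨ e = -1) ∧ (e : ℂ) = ε := by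
    rcases hε with h | h
    · exact ⟨1, Or.inl rfl, by simp [h]⟩
    · exact ⟨-1, Or.inr rfl, by simp [h]⟩
  have hee : (e : ℂ) * e = 1 := by rcases he1 with h | h <;> simp [h]
  let θ : ↥(psiSet hV) → IrrCharacter (Cfsg.Sz F m) := fun i => ⟨μ (E i), hμ _⟩
  have hθinj : Function.Injective θ := fun i j h => E.injective (hμinj (congrArg Subtype.val h))
  -- coefficients
  have hint : ∀ (χ : IrrCharacter (Cfsg.Sz F m)) (l : ↥V →* ℂˣ), ∃ n : ℕ,
      classInner (fun v : ↥V => χ.1 v.1) (fun v => (l v : ℂ)) = n := fun χ l =>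
    classInner_isChar_nat (IsChar.res (CharBasic.IsIrr.isCharacter χ.2) V) (isCharacter_hom l)
  choose mc hmc using hint
  have hdiff : ∀ (χ : IrrCharacter (Cfsg.Sz F m)) (i : ↥(psiSet hV)),
      (mc χ (rep i) : ℂ) - mc χ (rep (E.symm i₀)) =
        (e : ℂ) * ((if θ i = χ then (1 : ℂ) else 0) - if θ (E.symm i₀) = χ then (1 : ℂ) else 0) := by
    intro χ i
    have h1 : classInner χ.1 (τ (E i)) = (mc χ (rep i) : ℂ) - mc χ (rep (E.symm i₀)) := by
      show classInner χ.1 (indFun V (f (E i) - f i₀)) = _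
      rw [classInner_indFun_right _ _ _ (IsIrr.isClassFunction χ.2), classInner_sub_right]
      simp only [f, Equiv.symm_apply_apply, hmc]
    rw [← h1, he, classInner_smul_right, classInner_sub_right, classInner_irr χ.2 (hμ _),
      classInner_irr χ.2 (hμ _), map_intCast]
    have e1 : ∀ j, (χ.1 = μ j) ↔ θ (E.symm j) = χ := fun j => by
      simp [θ, Subtype.ext_iff, eq_comm]
    simp only [e1, Equiv.symm_apply_apply]
  have horb : ∀ (χ : IrrCharacter (Cfsg.Sz F m)) (i : ↥(psiSet hV)),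
      ∀ l ∈ Finset.univ.filter (fun l : ↥V →* ℂˣ => l ≠ 1 ∧ psi l = i.1), mc χ l = mc χ (rep i) := by
    intro χ i l hl
    simp only [Finset.mem_filter, Finset.mem_univ, true_and] at hl
    obtain ⟨g, rfl⟩ := (psi_eq_iff hV (hrep i) hl.1).mp (hl.2.trans (hrepi i).symm)
    have h := coeff_tw hV (IsIrr.isClassFunction χ.2) (rep i) g
    rw [hmc, hmc] at h
    exact_mod_cast h
  have hval : ∀ (χ : IrrCharacter (Cfsg.Sz F m)) (y : ↥V), y ≠ 1 →
      χ.1 y.1 = (mc χ 1 : ℂ) + ∑ i : ↥(psiSet hV), (mc χ (rep i) : ℂ) * i.1 y := by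
    intro χ y hy
    rw [expansion hV χ.1 y]
    simp only [hmc]
    rw [← Finset.sum_filter_add_sum_filter_not Finset.univ (fun l : ↥V →* ℂˣ => l ≠ 1), add_comm]
    simp only [ne_eq, not_not, Finset.filter_eq', Finset.mem_univ, if_true, Finset.sum_singleton,
      MonoidHom.one_apply, Units.val_one, mul_one]
    congr 1
    rw [← Finset.sum_fiberwise_of_maps_to (t := psiSet hV) (g := psi)
      (fun l hl => (mem_psiSet hV).mpr ⟨l, (Finset.mem_filter.mp hl).2, rfl⟩)]
    rw [← Finset.sum_coe_sort]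
    refine Finset.sum_congr rfl fun i _ => ?_
    rw [Finset.filter_filter, Finset.sum_congr rfl fun l hl => by rw [horb χ i l hl], ← Finset.mul_sum,
      sum_fibre hV h4 i.2]
  have hconst : ∀ χ : IrrCharacter (Cfsg.Sz F m), ∃ k : ℤ, ∀ y : ↥V, y ≠ 1 → χ.1 y.1 =
      (k : ℂ) + (e : ℂ) * ∑ i : ↥(psiSet hV), (if θ i = χ then (1 : ℂ) else 0) * i.1 y := by
    intro χ
    refine ⟨(mc χ 1 : ℤ) - (mc χ (rep (E.symm i₀)) - e * (if θ (E.symm i₀) = χ then 1 else 0)),
      fun y hy => ?_⟩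
    have hs : ∑ i : ↥(psiSet hV), i.1 y = -1 :=
      (Finset.sum_coe_sort (psiSet hV) fun i => i y).trans (sum_psiSet hV h4 hy)
    have e2 : ∀ i : ↥(psiSet hV), (mc χ (rep i) : ℂ) * i.1 y =
        ((mc χ (rep (E.symm i₀)) : ℂ) - (e : ℂ) * (if θ (E.symm i₀) = χ then (1 : ℂ) else 0)) * i.1 y +
          (e : ℂ) * ((if θ i = χ then (1 : ℂ) else 0) * i.1 y) := fun i => by
      linear_combination (i.1 y) * hdiff χ i
    rw [hval χ y hy, Finset.sum_congr rfl fun i _ => e2 i, Finset.sum_add_distrib, ← Finset.mul_sum,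
      ← Finset.mul_sum, hs]
    push_cast
    ring
  refine ⟨θ, e, he1, hθinj, ?_, ?_, ?_⟩
  · intro g hg i j
    have key : ∀ k, μ k g = μ i₀ g := by
      intro k
      have h0 : τ k g = 0 := by
        by_cases h1 : g = 1
        · rw [h1, hone]
        · exact indFun_eq_zero_of_forall_not_mem _ _ fun x hx => h1 (hg x hx)
      rw [he, Pi.smul_apply, Pi.sub_apply, smul_eq_mul] at h0
      exact sub_eq_zero.mp ((mul_eq_zero.mp h0).resolve_left (fun h => by simp [h] at hee))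
    exact (key _).trans (key _).symm
  · choose k hk using hconst
    refine ⟨k (θ (E.symm i₀)), fun i y hy => ?_⟩
    have hval1 : ∀ j, (θ j).1 y.1 = (k (θ j) : ℂ) + (e : ℂ) * j.1 y := by
      intro j
      rw [hk _ y hy, Finset.sum_eq_single j (fun i _ hij => by rw [if_neg fun h => hij (hθinj h), zero_mul])
        (fun h => absurd (Finset.mem_univ _) h), if_pos rfl, one_mul]
    have h := congrFun (he (E i)) y.1
    have h2 := congrFun (hres (E i)) y
    simp only [Pi.sub_apply, Equiv.symm_apply_apply, hrepi] at h2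
    simp only [Pi.smul_apply, Pi.sub_apply, smul_eq_mul, h2] at h
    have hi0 : (θ (E.symm i₀)).1 y.1 = μ i₀ y.1 := by simp [θ]
    show μ (E i) y.1 = _
    linear_combination -(e : ℂ) * h - (μ (E i) y.1 - μ i₀ y.1) * hee - hi0 + hval1 (E.symm i₀)
  · intro χ hχ
    obtain ⟨k, hk⟩ := hconst χ
    exact ⟨k, fun y hy => by rw [hk y hy]; simp [fun i => hχ i]⟩

include h4 in
/-- With a single orbit every character is constant on `V`. -/
theorem constant_of_card_one (hn : (psiSet hV).card = 1) (χ : IrrCharacter (Cfsg.Sz F m)) :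
    ∃ k : ℤ, ∀ y : ↥V, y ≠ 1 → χ.1 y.1 = k := by
  obtain ⟨i, hi⟩ := Finset.card_eq_one.mp hn
  obtain ⟨l₀, hl₀, hl₀i⟩ := (mem_psiSet hV).mp (hi ▸ Finset.mem_singleton_self i : i ∈ psiSet hV)
  have hint : ∀ (l : ↥V →* ℂˣ), ∃ n : ℕ,
      classInner (fun v : ↥V => χ.1 v.1) (fun v => (l v : ℂ)) = n := fun l =>
    classInner_isChar_nat (IsChar.res (CharBasic.IsIrr.isCharacter χ.2) V) (isCharacter_hom l)
  choose mc hmc using hint
  refine ⟨(mc 1 : ℤ) - mc l₀, fun y hy => ?_⟩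
  have hall : ∀ l ∈ Finset.univ.filter (fun l : ↥V →* ℂˣ => l ≠ 1), (mc l : ℂ) * (l y : ℂ) = (mc l₀ : ℂ) * l y := by
    intro l hl
    have hl1 := (Finset.mem_filter.mp hl).2
    have : psi l = i := by
      have := (mem_psiSet hV).mpr ⟨l, hl1, rfl⟩
      rwa [hi, Finset.mem_singleton] at this
    obtain ⟨g, rfl⟩ := (psi_eq_iff hV hl₀ hl1).mp (this.trans hl₀i.symm)
    rw [← hmc, ← hmc, coeff_tw hV (IsIrr.isClassFunction χ.2)]
  rw [expansion hV χ.1 y]
  simp only [hmc]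
  rw [← Finset.sum_filter_add_sum_filter_not Finset.univ (fun l : ↥V →* ℂˣ => l ≠ 1),
    Finset.sum_congr rfl hall, ← Finset.mul_sum, sum_ne_one_apply hV hy]
  simp only [ne_eq, not_not, Finset.filter_eq', Finset.mem_univ, if_true, Finset.sum_singleton,
    MonoidHom.one_apply, Units.val_one, mul_one]
  push_cast
  ring

end Hom

end Cfsg.Agent.Suzuki
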