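import Cfsg.Agent.Suzuki.Torus
import Cfsg.Agent.Suzuki.ClassSquare
import Cfsg.Agent.CharBasic.Complete
import Cfsg.Agent.CharInduce.Induce

/-!
The principal series of the Suzuki group and the number of conjugacy classes.
-/

set_option autoImplicit false
set_option maxHeartbeats 800000

open Cfsg MulAction
open scoped ComplexConjugate Classical
open Cfsg.Agent.CharBasic Cfsg.Agent.CharInduce

namespace Cfsg.Agent.Suzuki

variable {F : Type*} [Field F] [Fintype F] (m : ℕ) [SzField F m]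

theorem exists_ut (g : ↥(B (F := F) m)) : ∃ p : (F × F) × Fˣ, g.1 = u m p.1.1 p.1.2 * t m p.2 := by
  obtain ⟨a, b, s, h⟩ := exists_u_t_of_fix_oInf m g.2
  exact ⟨((a, b), s), h⟩

theorem ut_inj {a b c d : F} {s s' : Fˣ} (h : u m a b * t m s = u m c d * t m s') :
    a = c ∧ b = d ∧ s = s' := by
  have hp := congrArg (fun g => g • oPt m (0 : F) 0) h
  simp [mul_smul, t_smul_oPt, u_smul_oPt, oPt_inj] at hp
  obtain ⟨rfl, rfl⟩ := hp
  exact ⟨rfl, rfl, t_injective m (mul_left_cancel h)⟩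

theorem ut_mem_B (a b : F) (s : Fˣ) : u m a b * t m s ∈ B m :=
  mul_mem (U_le_B m (u_mem_U m a b)) (T_le_B m (t_mem_T m s))

/-- The projection of the Borel subgroup onto the torus. -/
noncomputable def piB : ↥(B (F := F) m) →* Fˣ :=
  MonoidHom.mk' (fun g => (exists_ut m g).choose.2) fun g k => by
    set p := (exists_ut m g).choose
    set p' := (exists_ut m k).choose
    set p'' := (exists_ut m (g * k)).choose
    have h : g.1 = u m p.1.1 p.1.2 * t m p.2 := (exists_ut m g).choose_spec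
    have h' : k.1 = u m p'.1.1 p'.1.2 * t m p'.2 := (exists_ut m k).choose_spec
    have h'' : g.1 * k.1 = u m p''.1.1 p''.1.2 * t m p''.2 := (exists_ut m (g * k)).choose_spec
    obtain ⟨c, d, hcd⟩ : ∃ c d, g.1 * k.1 = u m c d * t m (p.2 * p'.2) := by
      refine ⟨p.1.1 + th m (p.2 : F) * p'.1.1,
        p.1.2 + (p.2 : F) ^ 2 * th m (p.2 : F) * p'.1.2 + th m p.1.1 * (th m (p.2 : F) * p'.1.1), ?_⟩
      rw [h, h', show u m p.1.1 p.1.2 * t m p.2 * (u m p'.1.1 p'.1.2 * t m p'.2) =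
        u m p.1.1 p.1.2 * (t m p.2 * u m p'.1.1 p'.1.2 * (t m p.2)⁻¹) * (t m p.2 * t m p'.2) by group,
        t_u, u_mul, map_mul]
    exact (ut_inj m (h''.symm.trans hcd)).2.2

theorem piB_ut (a b : F) (s : Fˣ) (h : u m a b * t m s ∈ B m) : piB m ⟨_, h⟩ = s :=
  ((ut_inj m (exists_ut m ⟨_, h⟩).choose_spec).2.2).symm

theorem piB_u (a b : F) (h : u m a b ∈ B m) : piB m ⟨_, h⟩ = 1 := by
  have e : u m a b = u m a b * t m 1 := by rw [map_one, mul_one]
  calc piB m ⟨_, h⟩ = piB m ⟨u m a b * t m 1, e ▸ h⟩ := congrArg _ (Subtype.ext e)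
    _ = 1 := piB_ut m a b 1 _

theorem piB_t (s : Fˣ) (h : t m s ∈ B (F := F) m) : piB m ⟨_, h⟩ = s := by
  have e : t m s = u m 0 0 * t m s := by rw [u_zero, one_mul]
  calc piB m ⟨_, h⟩ = piB m ⟨u m 0 0 * t m s, e ▸ h⟩ := congrArg _ (Subtype.ext e)
    _ = s := piB_ut m 0 0 s _

theorem piB_conj (x g : ↥(B (F := F) m)) : piB m (x⁻¹ * g * x) = piB m g := by
  rw [map_mul, map_mul, map_inv, mul_comm, ← mul_assoc, mul_inv_cancel, one_mul]

/-- The coordinates on the Borel subgroup. -/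
noncomputable def bE : (F × F) × Fˣ ≃ ↥(B (F := F) m) :=
  Equiv.ofBijective (fun p => ⟨u m p.1.1 p.1.2 * t m p.2, ut_mem_B m _ _ _⟩)
    ⟨fun p p' e => by
      obtain ⟨h1, h2, h3⟩ := ut_inj m (congrArg Subtype.val e)
      exact Prod.ext (Prod.ext h1 h2) h3,
    fun g => by
      obtain ⟨p, hp⟩ := exists_ut m g
      exact ⟨p, Subtype.ext hp.symm⟩⟩

/-- An element of `B` outside `U` is conjugate to a torus element. -/
theorem isConj_ut {s : Fˣ} (hs : s ≠ 1) (a b : F) : IsConj (u m a b * t m s) (t m s) := by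
  have hinj : Function.Injective (fun p : F × F => (⟨u m (p.1 + th m (s : F) * p.1)
      (p.2 + ((s : F) ^ 2 * th m (s : F) * (p.2 + th m p.1 * p.1)) + th m p.1 * (th m (s : F) * p.1)), u_mem_U m _ _⟩ :
      ↥(U (F := F) m))) := by
    rintro ⟨x, y⟩ ⟨x', y'⟩ e
    obtain ⟨e1, e2⟩ := (u_inj m).mp (congrArg Subtype.val e)
    simp only at e1 e2
    have h1 : (1 + th m (s : F)) * (x - x') = 0 := by linear_combination e1
    have hne : (1 + th m (s : F)) ≠ 0 := fun h =>
      hs (Units.ext ((th_eq_one m).mp (eq_of_add_eq_zero m h).symm))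
    obtain rfl : x = x' := sub_eq_zero.mp ((mul_eq_zero.mp h1).resolve_left hne)
    have h2 : (1 + (s : F) ^ 2 * th m (s : F)) * (y - y') = 0 := by linear_combination e2
    have hne2 : 1 + (s : F) ^ 2 * th m (s : F) ≠ 0 := fun h =>
      hs (Units.ext (eq_one_of_sq_mul_th m (eq_of_add_eq_zero m h).symm))
    rw [sub_eq_zero.mp ((mul_eq_zero.mp h2).resolve_left hne2)]
  have hb := (Fintype.bijective_iff_injective_and_card _).mpr ⟨hinj, by
    rw [← Nat.card_eq_fintype_card, ← Nat.card_eq_fintype_card, card_U, Nat.card_prod, sq]⟩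
  obtain ⟨⟨x, y⟩, hxy⟩ := hb.2 ⟨u m a b, u_mem_U m a b⟩
  refine IsConj.symm (isConj_iff.mpr ⟨u m x y, ?_⟩)
  rw [show u m a b = _ from (congrArg Subtype.val hxy).symm,
    show u m x y * t m s * (u m x y)⁻¹ = u m x y * (t m s * (u m x y)⁻¹ * (t m s)⁻¹) * t m s by group,
    u_inv, t_u, u_mul]

variable [Fintype (Cfsg.Sz F m)]

/-- The induced character of a character of the torus. -/
noncomputable def pri (l : Fˣ →* ℂˣ) : Cfsg.Sz F m → ℂ :=
  indFun (B m) (fun g => (l (piB m g) : ℂ))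

theorem isCharacter_pri (l : Fˣ →* ℂˣ) : IsCharacter (Cfsg.Sz F m) (pri m l) :=
  IsChar.ind _ (isCharacter_hom (l.comp (piB m)))

theorem pri_one (l : Fˣ →* ℂˣ) : pri m l 1 = (Fintype.card F : ℂ) ^ 2 + 1 := by
  rw [pri, indFun_one, index_B, map_one, map_one, Nat.card_eq_fintype_card]
  simp

theorem pri_fixFree (l : Fˣ →* ℂˣ) {g : Cfsg.Sz F m} (hg : FixFree m g) : pri m l g = 0 := by
  refine indFun_eq_zero_of_forall_not_mem _ _ fun x hx => ?_
  rw [mem_B, mul_smul, mul_smul, inv_smul_eq_iff] at hx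
  exact hg _ hx

theorem ext_B (l : Fˣ →* ℂˣ) {x g : Cfsg.Sz F m} (hx : x ∈ B m) (hg : g ∈ B m) :
    extendByZero (B m) (fun g => (l (piB m g) : ℂ)) (x⁻¹ * g * x) = (l (piB m ⟨g, hg⟩) : ℂ) := by
  rw [extendByZero_of_mem _ (mul_mem (mul_mem (inv_mem hx) hg) hx)]
  exact congrArg (fun s => ((l s : ℂˣ) : ℂ)) (piB_conj m ⟨x, hx⟩ ⟨g, hg⟩)

theorem card_filter_B : (Finset.univ.filter fun x : Cfsg.Sz F m => x ∈ B m).card =
    Nat.card ↥(B (F := F) m) := by
  rw [Nat.card_eq_fintype_card, Fintype.card_subtype]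

theorem pri_u (l : Fˣ →* ℂˣ) {a b : F} (h : ¬ (a = 0 ∧ b = 0)) : pri m l (u m a b) = 1 := by
  have hne : u m a b ≠ 1 := fun e => h ((u_eq_one m).mp e)
  have hB : u m a b ∈ B m := U_le_B m (u_mem_U m a b)
  have hx : ∀ x : Cfsg.Sz F m, extendByZero (B m) (fun g => (l (piB m g) : ℂ)) (x⁻¹ * u m a b * x) =
      if x ∈ B m then 1 else 0 := by
    intro x
    split_ifs with hx
    · rw [ext_B m l hx hB, piB_u, map_one, Units.val_one]
    · refine extendByZero_of_not_mem _ fun h' => hx ?_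
      rw [mem_B, mul_smul, mul_smul, inv_smul_eq_iff] at h'
      exact U_fixed m (u_mem_U m a b) hne h'
  rw [pri, indFun_apply]
  simp only [hx, Finset.sum_boole, card_filter_B]
  exact inv_mul_cancel₀ (card_ne_zero_complex _)

theorem pri_t (l : Fˣ →* ℂˣ) {s : Fˣ} (hs : s ≠ 1) :
    pri m l (t m s) = (l s : ℂ) + (l s⁻¹ : ℂ) := by
  have hB : t m s ∈ B m := T_le_B m (t_mem_T m s)
  have hB' : t m s⁻¹ ∈ B m := T_le_B m (t_mem_T m _)
  have hne : t m s ≠ 1 := fun e => hs (t_injective m (e.trans (map_one _).symm))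
  have hx : ∀ x : Cfsg.Sz F m, extendByZero (B m) (fun g => (l (piB m g) : ℂ)) (x⁻¹ * t m s * x) =
      (if x ∈ B m then (l s : ℂ) else 0) + (if w m * x ∈ B m then (l s⁻¹ : ℂ) else 0) := by
    intro x
    have hw : w m * x ∈ B m → x ∉ B m := by
      intro h hx
      have h1 : (w m : Cfsg.Sz F m) ∈ B m := by
        have := mul_mem h (inv_mem hx)
        rwa [mul_inv_cancel_right] at this
      rw [mem_B, w_smul_oInf] at h1
      exact oPt_ne_oInf m _ _ h1
    split_ifs with h1 h2 h2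
    · exact absurd h1 (hw h2)
    · rw [ext_B m l h1 hB, piB_t, add_zero]
    · rw [zero_add, show x⁻¹ * t m s * x = (w m * x)⁻¹ * (w m * t m s * (w m)⁻¹) * (w m * x) by group, w_t,
        ext_B m l h2 hB', piB_t]
    · rw [add_zero]
      refine extendByZero_of_not_mem _ fun h' => ?_
      rw [mem_B, mul_smul, mul_smul, inv_smul_eq_iff] at h'
      rcases T_fixed m (t_mem_T m s) hne h' with e | e
      · exact h1 e
      · exact h2 (by rw [mem_B, mul_smul, e, w_smul_zero])
  have hc : (Finset.univ.filter fun x : Cfsg.Sz F m => w m * x ∈ B m).card = Nat.card ↥(B (F := F) m) := by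
    rw [← card_filter_B]
    exact Finset.card_equiv (Equiv.mulLeft (w m)) (by simp)
  rw [pri, indFun_apply]
  simp only [hx, Finset.sum_add_distrib, ← Finset.sum_filter, Finset.sum_const, card_filter_B, hc,
    nsmul_eq_mul]
  rw [← mul_add, ← mul_assoc, inv_mul_cancel₀ (card_ne_zero_complex _), one_mul]

theorem pri_ut (l : Fˣ →* ℂˣ) {s : Fˣ} (hs : s ≠ 1) (a b : F) :
    pri m l (u m a b * t m s) = (l s : ℂ) + (l s⁻¹ : ℂ) := by
  obtain ⟨c, hc⟩ := isConj_iff.mp (isConj_ut m hs a b)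
  have h := isClassFunction_indFun (B m) (fun g => (l (piB m g) : ℂ)) (u m a b * t m s) c
  rw [hc] at h
  exact h.symm.trans (pri_t m l hs)

omit [SzField F m] [Fintype (Cfsg.Sz F m)] in
theorem conj_unit (μ : Fˣ →* ℂˣ) (s : Fˣ) : conj (μ s : ℂ) = (μ s⁻¹ : ℂ) := by
  have h : ‖(μ s : ℂ)‖ = 1 := norm_hom μ s
  rw [map_inv, Units.val_inv_eq_inv_val, Complex.inv_eq_conj h]

omit [SzField F m] [Fintype (Cfsg.Sz F m)] in
theorem sum_hom_mul_inv (l μ : Fˣ →* ℂˣ) :
    ∑ s : Fˣ, (l s : ℂ) * (μ s⁻¹ : ℂ) = if l = μ then (Fintype.card Fˣ : ℂ) else 0 := by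
  split_ifs with h
  · subst h
    simp
  · have hne : (Units.coeHom ℂ).comp (l * μ⁻¹) ≠ 1 := by
      intro e
      refine h (MonoidHom.ext fun s => ?_)
      have h2 : (l * μ⁻¹) s = 1 := Units.ext (DFunLike.congr_fun e s)
      rw [MonoidHom.mul_apply, MonoidHom.inv_apply, mul_inv_eq_one] at h2
      exact h2
    have := sum_hom_units_eq_zero ((Units.coeHom ℂ).comp (l * μ⁻¹)) hne
    rw [← this]
    exact Finset.sum_congr rfl fun s _ => by simp [map_inv]

theorem classInner_pri (l μ : Fˣ →* ℂˣ) :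
    classInner (pri m l) (pri m μ) = (if l = μ then 1 else 0) + (if l⁻¹ = μ then 1 else 0) := by
  have : Fintype ↥(B (F := F) m) := Fintype.ofFinite _
  show classInner (pri m l) (indFun (B m) fun g => (μ (piB m g) : ℂ)) = _
  rw [classInner_indFun_right _ _ _ (IsChar.isClassFunction (isCharacter_pri m l)), classInner, card_B,
    Nat.card_eq_fintype_card, ← Equiv.sum_comp (bE m), Fintype.sum_prod_type]
  set q : ℂ := (Fintype.card F : ℂ) with hq
  have hterm : ∀ (p : F × F) (s : Fˣ), pri m l ((bE m (p, s)) : Cfsg.Sz F m) * conj (μ (piB m (bE m (p, s))) : ℂ) =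
      ((l s : ℂ) + (l s⁻¹ : ℂ)) * (μ s⁻¹ : ℂ) +
        (if s = 1 then (if p = (0, 0) then q ^ 2 + 1 - 2 else -1) else 0) := by
    rintro ⟨a, b⟩ s
    show pri m l (u m a b * t m s) * conj ((μ (piB m ⟨u m a b * t m s, ut_mem_B m a b s⟩)) : ℂ) = _
    rw [piB_ut, conj_unit]
    split_ifs with h1 h2
    · obtain ⟨rfl, rfl⟩ := Prod.mk.injEq .. ▸ h2
      subst h1
      simp [pri_one, ← hq]
      ring
    · subst h1
      rw [map_one, mul_one, pri_u m l (fun h => h2 (Prod.ext h.1 h.2))]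
      simp
    · rw [pri_ut m l h1, add_zero]
  simp only [hterm, Finset.sum_add_distrib, Finset.sum_ite_eq', Finset.mem_univ, if_true, add_mul]
  have hsum : ∑ p : F × F, (if p = (0, 0) then q ^ 2 + 1 - 2 else -1) = 0 := by
    have : ∀ p : F × F, (if p = (0, 0) then q ^ 2 + 1 - 2 else (-1 : ℂ)) = (if p = (0, 0) then q ^ 2 else 0) - 1 := by
      intro p; split_ifs <;> ring
    rw [Finset.sum_congr rfl fun p _ => this p]
    simp [Finset.sum_sub_distrib, hq, sq]
  have e2 : ∀ s : Fˣ, (l s⁻¹ : ℂ) = (l⁻¹ s : ℂ) := fun s => by rw [MonoidHom.inv_apply, map_inv]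
  simp only [e2, sum_hom_mul_inv, hsum, add_zero, Finset.sum_const, Finset.card_univ, Fintype.card_prod,
    nsmul_eq_mul, Fintype.card_units]
  have h1 : (1 : ℕ) ≤ Fintype.card F := Fintype.card_pos
  have hq0 : q ≠ 0 := by simp [hq]
  have hq1 : q - 1 ≠ 0 := by
    have := eight_le_card (F := F) m
    rw [sub_ne_zero, hq]
    exact_mod_cast (by omega : Fintype.card F ≠ 1)
  push_cast [h1]
  rw [← hq]
  split_ifs <;> field_simp <;> ring

/-- The Steinberg character. -/
noncomputable def stFun : Cfsg.Sz F m → ℂ := pri m 1 - fun _ => 1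

theorem classInner_pri_one : classInner (pri (F := F) m 1) (fun _ => 1) = 1 := by
  have : Fintype ↥(B (F := F) m) := Fintype.ofFinite _
  show classInner (indFun (B m) fun g => ((1 : Fˣ →* ℂˣ) (piB m g) : ℂ)) _ = _
  rw [classInner_indFun_left _ _ _ (IsChar.isClassFunction IsChar.one)]
  simpa using classInner_irr_self (isIrrCharacter_one (G := ↥(B (F := F) m)))

theorem isIrr_stFun : IsIrrCharacter (Cfsg.Sz F m) (stFun (F := F) m) := by
  obtain ⟨r, hr, e⟩ := IsChar.exists_eq_add (isCharacter_pri m (1 : Fˣ →* ℂˣ))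
    (isIrrCharacter_one (G := Cfsg.Sz F m)) (by rw [classInner_pri_one]; exact one_ne_zero)
  have hst : stFun (F := F) m = r := by rw [stFun, e]; abel
  refine isIrr_of_norm_one (hst ▸ hr) ?_
  have h1 : classInner (fun _ : Cfsg.Sz F m => (1 : ℂ)) (pri (F := F) m 1) = 1 := by
    rw [← conj_classInner, classInner_pri_one, map_one]
  rw [stFun, classInner_sub_left, classInner_sub_right, classInner_sub_right, classInner_pri,
    classInner_pri_one, h1, classInner_irr_self isIrrCharacter_one]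
  simp [show (1 : Fˣ →* ℂˣ)⁻¹ = 1 from MonoidHom.ext fun s => by simp]

include m in
omit [Fintype (Cfsg.Sz F m)] in
theorem hom_inv_ne {l : Fˣ →* ℂˣ} (h : l ≠ 1) : l⁻¹ ≠ l := by
  intro e
  refine h (MonoidHom.ext fun s => ?_)
  have h1 : l s * l s = 1 := by
    have := DFunLike.congr_fun e s
    rw [MonoidHom.inv_apply] at this
    nth_rw 1 [← this]
    exact inv_mul_cancel _
  have h2 : orderOf (l s) ∣ 2 := orderOf_dvd_of_pow_eq_one (by rw [sq, h1])
  have h3 : orderOf (l s) ∣ Nat.card Fˣ :=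
    (orderOf_map_dvd l s).trans (orderOf_dvd_natCard s)
  have h4 : orderOf (l s) = 1 :=
    Nat.eq_one_of_dvd_coprimes (Nat.coprime_two_left.mpr (odd_card_units (F := F) m)) h2 h3
  simpa using orderOf_eq_one_iff.mp h4

theorem isIrr_pri {l : Fˣ →* ℂˣ} (h : l ≠ 1) : IsIrrCharacter (Cfsg.Sz F m) (pri m l) :=
  isIrr_of_norm_one (isCharacter_pri m l) (by rw [classInner_pri, if_pos rfl, if_neg (hom_inv_ne m h), add_zero])

theorem pri_eq_iff {l μ : Fˣ →* ℂˣ} (h : l ≠ 1) : pri m l = pri m μ ↔ μ = l ∨ μ = l⁻¹ := by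
  constructor
  · intro e
    have h1 := classInner_pri m l μ
    rw [← e, classInner_irr_self (isIrr_pri m h)] at h1
    by_contra hc
    push Not at hc
    rw [if_neg (Ne.symm hc.1), if_neg (Ne.symm hc.2), add_zero] at h1
    exact one_ne_zero h1
  · rintro (rfl | rfl)
    · rfl
    · have hl : l⁻¹ ≠ 1 := fun e => h (MonoidHom.ext fun s => by simpa using DFunLike.congr_fun e s)
      have h1 := classInner_pri m l l⁻¹
      rw [if_neg (Ne.symm (hom_inv_ne m h)), if_pos rfl, zero_add,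
        classInner_irr (isIrr_pri m h) (isIrr_pri m hl)] at h1
      by_contra hne
      rw [if_neg hne] at h1
      exact zero_ne_one h1

omit [SzField F m] [Fintype (Cfsg.Sz F m)] in
theorem card_hom : Nat.card (Fˣ →* ℂˣ) = Fintype.card Fˣ := by
  obtain ⟨e⟩ := CommGroup.monoidHom_mulEquiv_of_hasEnoughRootsOfUnity Fˣ ℂ
  rw [Nat.card_congr e.toEquiv, Nat.card_eq_fintype_card]

/-- The irreducible principal series. -/
noncomputable def priSet [Fintype (Fˣ →* ℂˣ)] : Finset (IrrCharacter (Cfsg.Sz F m)) :=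
  Finset.univ.filter fun χ => ∃ l : Fˣ →* ℂˣ, l ≠ 1 ∧ (χ : Cfsg.Sz F m → ℂ) = pri m l

theorem mem_priSet [Fintype (Fˣ →* ℂˣ)] {χ : IrrCharacter (Cfsg.Sz F m)} :
    χ ∈ priSet m ↔ ∃ l : Fˣ →* ℂˣ, l ≠ 1 ∧ (χ : Cfsg.Sz F m → ℂ) = pri m l := by
  simp [priSet]

theorem card_priSet [Fintype (Fˣ →* ℂˣ)] : 2 * (priSet (F := F) m).card + 2 = Fintype.card F := by
  let f : {l : Fˣ →* ℂˣ // l ≠ 1} → IrrCharacter (Cfsg.Sz F m) := fun l => ⟨pri m l.1, isIrr_pri m l.2⟩
  have him : (Finset.univ.image f) = priSet (F := F) m := by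
    ext χ
    simp only [Finset.mem_image, Finset.mem_univ, true_and, mem_priSet]
    exact ⟨fun ⟨l, hl⟩ => ⟨l.1, l.2, congrArg Subtype.val hl.symm⟩, fun ⟨l, hl, e⟩ => ⟨⟨l, hl⟩, Subtype.ext e.symm⟩⟩
  have hfib : ∀ χ ∈ priSet (F := F) m, (Finset.univ.filter fun l => f l = χ).card = 2 := by
    intro χ hχ
    obtain ⟨l, hl, e⟩ := (mem_priSet m).mp hχ
    have hl' : l⁻¹ ≠ 1 := fun e => hl (MonoidHom.ext fun s => by simpa using DFunLike.congr_fun e s)
    rw [Finset.card_eq_two]
    refine ⟨⟨l, hl⟩, ⟨l⁻¹, hl'⟩, fun e' => hom_inv_ne m hl (congrArg Subtype.val e').symm, ?_⟩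
    ext μ
    simp only [Finset.mem_filter, Finset.mem_univ, true_and, Finset.mem_insert, Finset.mem_singleton]
    rw [← Subtype.coe_inj (b := χ), e]
    show pri m μ.1 = pri m l ↔ _
    rw [eq_comm, pri_eq_iff m hl, Subtype.ext_iff, Subtype.ext_iff]
  have h := Finset.card_eq_sum_card_image f Finset.univ
  rw [him, Finset.sum_congr rfl hfib, Finset.sum_const, smul_eq_mul, Finset.card_univ,
    Fintype.card_subtype_compl, Fintype.card_subtype_eq, ← Nat.card_eq_fintype_card, card_hom,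
    Fintype.card_units] at h
  have := eight_le_card (F := F) m
  omega

/-- The other irreducible characters have no vectors fixed by `U`. -/
theorem sum_U_zero [Fintype (Fˣ →* ℂˣ)] (χ : IrrCharacter (Cfsg.Sz F m))
    (h1 : (χ : Cfsg.Sz F m → ℂ) ≠ fun _ => 1) (hst : (χ : Cfsg.Sz F m → ℂ) ≠ stFun m)
    (hP : χ ∉ priSet m) : ∑ a : F, ∑ b : F, (χ : Cfsg.Sz F m → ℂ) (u m a b) = 0 := by
  have : Fintype ↥(B (F := F) m) := Fintype.ofFinite _
  have hz : ∀ l : Fˣ →* ℂˣ, classInner (χ : Cfsg.Sz F m → ℂ) (pri m l) = 0 := by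
    intro l
    by_cases hl : l = 1
    · subst hl
      rw [show pri (F := F) m 1 = stFun m + fun _ => 1 by rw [stFun]; abel, classInner_add_right,
        classInner_irr χ.2 (isIrr_stFun m), classInner_irr χ.2 isIrrCharacter_one, if_neg hst, if_neg h1,
        add_zero]
    · rw [classInner_irr χ.2 (isIrr_pri m hl), if_neg fun e => hP ((mem_priSet m).mpr ⟨l, hl, e⟩)]
  have hsum : ∑ l : Fˣ →* ℂˣ, classInner (χ : Cfsg.Sz F m → ℂ) (pri m l) = 0 :=
    Finset.sum_eq_zero fun l _ => hz l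
  have hB : ∀ l : Fˣ →* ℂˣ, classInner (χ : Cfsg.Sz F m → ℂ) (pri m l) = (Nat.card ↥(B (F := F) m) : ℂ)⁻¹ *
      ∑ p : (F × F) × Fˣ, (χ : Cfsg.Sz F m → ℂ) (u m p.1.1 p.1.2 * t m p.2) * conj (l p.2 : ℂ) := by
    intro l
    rw [pri, classInner_indFun_right _ _ _ (IsIrr.isClassFunction χ.2), classInner, ← Equiv.sum_comp (bE m)]
    refine congrArg _ (Finset.sum_congr rfl fun p _ => ?_)
    show (χ : Cfsg.Sz F m → ℂ) (u m p.1.1 p.1.2 * t m p.2) * conj (l (piB m ⟨_, ut_mem_B m _ _ _⟩) : ℂ) = _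
    rw [piB_ut]
  simp only [hB] at hsum
  rw [← Finset.mul_sum, mul_eq_zero, or_iff_right (inv_ne_zero (card_ne_zero_complex _)), Finset.sum_comm] at hsum
  have horth : ∀ s : Fˣ, ∑ l : Fˣ →* ℂˣ, conj (l s : ℂ) = if s = 1 then (Nat.card (Fˣ →* ℂˣ) : ℂ) else 0 := by
    intro s
    split_ifs with hs
    · subst hs; simp
    · obtain ⟨φ, hφ⟩ := CommGroup.exists_apply_ne_one_of_hasEnoughRootsOfUnity Fˣ ℂ hs
      rw [← map_sum]
      refine (map_eq_zero _).mpr ?_
      have h : (φ s : ℂ) * ∑ l : Fˣ →* ℂˣ, (l s : ℂ) = 1 * ∑ l : Fˣ →* ℂˣ, (l s : ℂ) := by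
        rw [Finset.mul_sum, one_mul]
        exact Fintype.sum_equiv (Equiv.mulLeft φ) _ _ fun l => by simp
      by_contra hne
      exact hφ (Units.ext (mul_right_cancel₀ hne h))
  simp only [← Finset.mul_sum, horth, Fintype.sum_prod_type, mul_ite, mul_zero, Finset.sum_ite_eq',
    Finset.mem_univ, if_true, ← Finset.sum_mul] at hsum
  have hc : (Nat.card (Fˣ →* ℂˣ) : ℂ) ≠ 0 := by
    rw [card_hom]
    exact Nat.cast_ne_zero.mpr Fintype.card_ne_zero
  rw [mul_eq_zero, or_iff_left hc] at hsum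
  rw [← hsum]
  refine Finset.sum_congr rfl fun a _ => Finset.sum_congr rfl fun b _ => ?_
  show _ = (χ : Cfsg.Sz F m → ℂ) (u m a b * t m 1)
  rw [map_one, mul_one]

omit [Fintype (Cfsg.Sz F m)] in
theorem card_conjClasses : Nat.card (ConjClasses (Cfsg.Sz F m)) = Fintype.card F + 3 := by
  choose g hg using fun c : Fˣ => exists_tra m (c : F)
  have hgs : ∀ c, IsSS m (g c) := fun c => isSS_of_tra_ne m (by rw [hg]; exact c.ne_zero)
  let reps : Fin 4 ⊕ Fˣ → Cfsg.Sz F m := Sum.elim ![1, u m 0 1, u m 1 0, (u m 1 0)⁻¹] g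
  have ho1 : orderOf (u m (0 : F) 1) = 2 := orderOf_eq_two m (by rw [u_sq]; simp)
    (fun e => one_ne_zero ((u_eq_one m).mp e).2)
  have ho2 := u10_order (F := F) m
  have hord : ∀ i : Fin 4, ∃ k, orderOf (reps (Sum.inl i)) = 2 ^ k := by
    intro i
    fin_cases i
    · exact ⟨0, orderOf_one⟩
    · exact ⟨1, ho1⟩
    · exact ⟨2, ho2⟩
    · exact ⟨2, (orderOf_inv _).trans ho2⟩
  have hsep : ∀ i c, ¬ IsConj (reps (Sum.inl i)) (reps (Sum.inr c)) := by
    intro i c h
    obtain ⟨k, hk⟩ := hord i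
    obtain ⟨d, hd⟩ := isConj_iff.mp h
    have : orderOf (g c) = 2 ^ k := by
      show orderOf (reps (Sum.inr c)) = _
      rw [← hd, ← MulAut.conj_apply, MulEquiv.orderOf_eq, hk]
    have h1 := tra_two_power m this
    rw [hg] at h1
    exact c.ne_zero h1
  have hoeq : ∀ {x y : Cfsg.Sz F m}, IsConj x y → orderOf x = orderOf y := by
    intro x y h
    obtain ⟨d, rfl⟩ := isConj_iff.mp h
    rw [← MulAut.conj_apply, MulEquiv.orderOf_eq]
  have hb : Function.Bijective (fun p => ConjClasses.mk (reps p)) := by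
    constructor
    · intro p p' e
      replace e := ConjClasses.mk_eq_mk_iff_isConj.mp e
      rcases p with i | c <;> rcases p' with j | d
      · have h := hoeq e
        have hv := not_isConj_inv m ho2
        congr 1
        fin_cases i <;> fin_cases j <;> simp only [reps] at e h ⊢ <;>
          first
            | rfl
            | (exfalso; simp [ho1, ho2, orderOf_inv] at h; done)
            | exact absurd e hv
            | exact absurd e.symm hv
      · exact absurd e (hsep i d)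
      · exact absurd e.symm (hsep j c)
      · have h := tra_conj m e
        simp only [reps, Sum.elim_inr, hg] at h
        rw [Units.ext h.symm]
    · intro C
      induction C using Quotient.inductionOn with | _ x => ?_
      show ∃ p, ConjClasses.mk (reps p) = ConjClasses.mk x
      simp only [ConjClasses.mk_eq_mk_iff_isConj]
      rcases dichotomy m x with ⟨i, hi⟩ | hx
      · by_cases hx1 : x = 1
        · exact ⟨Sum.inl 0, hx1 ▸ IsConj.refl _⟩
        obtain ⟨c, hc⟩ := exists_conj_mem_U m hi hx1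
        obtain ⟨a, b, hab⟩ := (mem_U m).mp hc
        have hconj : IsConj x (u m a b) := isConj_iff.mpr ⟨c, hab⟩
        by_cases ha : a = 0
        · subst ha
          have h2 : orderOf x = 2 := orderOf_eq_two m (by
            have : c * x * c⁻¹ * (c * x * c⁻¹) = 1 := by rw [hab, u_sq]; simp
            calc x * x = c⁻¹ * (c * x * c⁻¹ * (c * x * c⁻¹)) * c := by group
              _ = 1 := by rw [this]; group) hx1
          exact ⟨Sum.inl 1, isConj_involutions m ho1 h2⟩
        · have hne : x ^ 2 ≠ 1 := by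
            intro h
            have : (c * x * c⁻¹) * (c * x * c⁻¹) = 1 := by
              calc (c * x * c⁻¹) * (c * x * c⁻¹) = c * x ^ 2 * c⁻¹ := by rw [pow_two]; group
                _ = 1 := by rw [h]; group
            rw [hab, u_sq, u_eq_one] at this
            exact mul_ne_zero (by simpa using ha) ha this.2
          have h4 : x ^ 4 = 1 := by
            have : (c * x * c⁻¹) ^ 4 = 1 := by
              rw [hab, show u m a b ^ 4 = (u m a b ^ 2) ^ 2 by rw [← pow_mul], pow_two, pow_two, u_sq, u_sq]; simp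
            rwa [conj_pow, conj_eq_one_iff] at this
          have : Fact (Nat.Prime 2) := ⟨Nat.prime_two⟩
          have hox : orderOf x = 4 := orderOf_eq_prime_pow (p := 2) (n := 1) (by simpa using hne) h4
          rcases isConj_order_four m hox with e | e
          · exact ⟨Sum.inl 2, e.symm⟩
          · exact ⟨Sum.inl 3, e.symm⟩
      · have hc := (tra_classes m).1 x hx
        exact ⟨Sum.inr (Units.mk0 _ hc), (isConj_of_tra m hx (hg (Units.mk0 _ hc))).symm⟩
  rw [← Nat.card_congr (Equiv.ofBijective _ hb), Nat.card_sum, Nat.card_fin, Nat.card_units,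
    Nat.card_eq_fintype_card]
  have := eight_le_card (F := F) m
  omega

end Cfsg.Agent.Suzuki
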