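import Cfsg.Agent.Suzuki.CharUnipotent
import Cfsg.Agent.Suzuki.CharPrincipal
import Cfsg.Agent.Suzuki.CharExceptional
import Cfsg.Prelude.Def_DegreeGraph

/-!
The degrees of the irreducible characters of the Suzuki group.
-/

set_option autoImplicit false
set_option maxHeartbeats 1000000

open Cfsg
open scoped ComplexConjugate Classical
open Cfsg.Agent.CharBasic Cfsg.Agent.CharInduce

namespace Cfsg.Agent.Suzuki

variable {F : Type*} [Field F] [Fintype F] (m : ℕ) [SzField F m]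

theorem u11_eq : (u m (1 : F) 0)⁻¹ = u m 1 1 := by
  rw [u_inv, th_one, one_mul, zero_add]

theorem not_isConj_of_orderOf {g h : Cfsg.Sz F m} (hne : orderOf g ≠ orderOf h) : ¬ IsConj g h := by
  intro e
  obtain ⟨c, rfl⟩ := isConj_iff.mp e
  exact hne (by rw [← MulAut.conj_apply, MulEquiv.orderOf_eq])

theorem u01_order : orderOf (u m (0 : F) 1) = 2 :=
  orderOf_eq_two m (by rw [u_sq]; simp) (fun e => one_ne_zero ((u_eq_one m).mp e).2)

theorem fixFree_of_mem {V : Subgroup (Cfsg.Sz F m)} (hV : IsCyclicPart m V)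
    (hc : Nat.card V ∣ Nat.card F ^ 2 + 1) {y : Cfsg.Sz F m} (hy : y ∈ V) (hy1 : y ≠ 1) : FixFree m y := by
  by_contra hne
  have hod := hV.odd_orderOf hy
  have hdvd : orderOf y ∣ Nat.card F ^ 2 + 1 := (Subgroup.orderOf_dvd_natCard V hy).trans hc
  have hd : orderOf y ∣ Nat.card F ^ 2 * (Nat.card F - 1) := by
    rcases exists_conj_U_or_T m hne with ⟨k, hk⟩ | ⟨k, hk⟩
    · rw [← MulEquiv.orderOf_eq (MulAut.conj k), MulAut.conj_apply, ← card_U m]
      exact (Subgroup.orderOf_dvd_natCard _ hk).mul_right _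
    · rw [← MulEquiv.orderOf_eq (MulAut.conj k), MulAut.conj_apply, ← card_T m]
      exact (Subgroup.orderOf_dvd_natCard _ hk).mul_left _
  have hcop : Nat.Coprime (Nat.card F ^ 2 * (Nat.card F - 1)) (orderOf y) := by
    refine Nat.coprime_of_dvd fun p hp h1 h2 => ?_
    have h3 : p ∣ Nat.card F ^ 2 + 1 := h2.trans hdvd
    rcases hp.dvd_mul.mp h1 with h | h
    · exact hp.one_lt.ne' (Nat.dvd_one.mp ((Nat.dvd_add_right h).mp h3))
    · have h4 : p ∣ Nat.card F ^ 2 - 1 := by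
        refine h.trans ⟨Nat.card F + 1, ?_⟩
        rw [mul_comm, ← Nat.sq_sub_sq, one_pow]
      have h5 : p ∣ 2 := by
        have := Nat.dvd_sub h3 h4
        have h1 : 1 ≤ Nat.card F ^ 2 := Nat.one_le_pow _ _ Nat.card_pos
        rwa [show Nat.card F ^ 2 + 1 - (Nat.card F ^ 2 - 1) = 2 by omega] at this
      rw [(Nat.prime_dvd_prime_iff_eq hp Nat.prime_two).mp h5] at h2
      exact Nat.not_even_iff_odd.mpr hod (even_iff_two_dvd.mpr h2)
  exact hy1 (orderOf_eq_one_iff.mp (Nat.eq_one_of_dvd_coprimes hcop hd dvd_rfl))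

variable [Fintype (Cfsg.Sz F m)]

theorem apply_inv_of_real {χ : Cfsg.Sz F m → ℂ} (hχ : IsCharacter (Cfsg.Sz F m) χ) {g : Cfsg.Sz F m}
    (hg : IsConj g g⁻¹) : conj (χ g) = χ g := by
  obtain ⟨c, hc⟩ := isConj_iff.mp hg
  rw [← IsChar.inv_apply hχ, ← hc]
  exact IsChar.isClassFunction hχ g c

theorem real_u01 : IsConj (u m (0 : F) 1) (u m (0 : F) 1)⁻¹ := by
  rw [inv_eq_of_mul_eq_one_right (show u m (0 : F) 1 * u m 0 1 = 1 by rw [u_sq]; simp)]

theorem st_one : stFun (F := F) m 1 = (Fintype.card F : ℂ) ^ 2 := by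
  simp [stFun, pri_one]

theorem st_u {a b : F} (h : ¬ (a = 0 ∧ b = 0)) : stFun m (u m a b) = 0 := by
  simp [stFun, pri_u m _ h]

theorem st_fixFree {g : Cfsg.Sz F m} (hg : FixFree m g) : stFun m g = -1 := by
  simp [stFun, pri_fixFree m _ hg]

theorem sum_U_const {f : Cfsg.Sz F m → ℂ} {x : ℂ} (hf : ∀ a b, ¬ (a = 0 ∧ b = 0) → f (u m a b) = x) :
    ∑ a : F, ∑ b : F, f (u m a b) = f 1 + ((Fintype.card F : ℂ) ^ 2 - 1) * x := by
  rw [← Fintype.sum_prod_type' (f := fun a b => f (u m a b)),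
    Finset.sum_eq_add_sum_sdiff_singleton_of_mem (Finset.mem_univ ((0 : F), (0 : F))), u_zero,
    Finset.sum_congr rfl (fun p hp => hf p.1 p.2 (fun h => by simp at hp; exact hp (Prod.ext h.1 h.2))),
    Finset.sum_const, Finset.card_sdiff]
  simp only [Finset.inter_univ, Finset.card_singleton, Finset.card_univ, Fintype.card_prod, nsmul_eq_mul]
  rw [Nat.cast_sub (Nat.one_le_iff_ne_zero.mpr (mul_ne_zero Fintype.card_ne_zero Fintype.card_ne_zero))]
  push_cast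
  ring

/-- The trivial character. -/
noncomputable def oneC : IrrCharacter (Cfsg.Sz F m) := ⟨fun _ => 1, isIrrCharacter_one⟩

/-- The Steinberg character, as an irreducible character. -/
noncomputable def stC : IrrCharacter (Cfsg.Sz F m) := ⟨stFun m, isIrr_stFun m⟩

/-- The irreducible characters without vectors fixed by `U`. -/
noncomputable def cusp : Finset (IrrCharacter (Cfsg.Sz F m)) :=
  Finset.univ.filter fun χ => ∑ a : F, ∑ b : F, χ.1 (u m a b) = 0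

theorem mem_cusp {χ : IrrCharacter (Cfsg.Sz F m)} :
    χ ∈ cusp m ↔ ∑ a : F, ∑ b : F, χ.1 (u m a b) = 0 := by simp [cusp]

variable [Fintype (Fˣ →* ℂˣ)]

theorem cases_irr (χ : IrrCharacter (Cfsg.Sz F m)) :
    χ = oneC m ∨ χ = stC m ∨ χ ∈ priSet m ∨ χ ∈ cusp m := by
  by_contra! h
  exact h.2.2.2 ((mem_cusp m).mpr (sum_U_zero m χ (fun e => h.1 (Subtype.ext e))
    (fun e => h.2.1 (Subtype.ext e)) h.2.2.1))

theorem sum_split (f : IrrCharacter (Cfsg.Sz F m) → ℂ) :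
    ∑ χ, f χ = f (oneC m) + f (stC m) + ∑ χ ∈ priSet m, f χ + ∑ χ ∈ cusp m, f χ := by
  have hq : (Fintype.card F : ℂ) ^ 2 ≠ 0 := pow_ne_zero 2 (Nat.cast_ne_zero.mpr Fintype.card_ne_zero)
  have hq8 := eight_le_card (F := F) m
  have h1 : oneC (F := F) m ∉ cusp m := by
    rw [mem_cusp, sum_U_const m (f := (oneC (F := F) m).1) (x := 1) fun _ _ _ => rfl]
    simp [oneC]
  have h2 : stC (F := F) m ∉ cusp m := by
    rw [mem_cusp, sum_U_const m (f := (stC (F := F) m).1) (x := 0) fun a b h => st_u m h]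
    simp [stC, st_one]
  have h3 : ∀ χ ∈ priSet (F := F) m, χ ∉ cusp m := by
    intro χ hχ
    obtain ⟨l, -, e⟩ := (mem_priSet m).mp hχ
    rw [mem_cusp, sum_U_const m (f := χ.1) (x := 1) fun a b h => by rw [e, pri_u m l h], e, pri_one]
    intro h
    exact hq (by linear_combination h / 2)
  have h4 : oneC (F := F) m ∉ priSet m := fun h => by
    obtain ⟨l, -, e⟩ := (mem_priSet m).mp h
    have := congrFun e 1
    rw [pri_one] at this
    exact hq (by simpa [oneC] using this)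
  have h5 : stC (F := F) m ∉ priSet m := fun h => by
    obtain ⟨l, -, e⟩ := (mem_priSet m).mp h
    have := congrFun e 1
    rw [pri_one] at this
    simp [stC, st_one] at this
  have h6 : oneC (F := F) m ≠ stC m := fun h => by
    have h' : (1 : ℂ) = (Fintype.card F : ℂ) ^ 2 := (congrFun (congrArg Subtype.val h) 1).trans (st_one m)
    have h'' : Fintype.card F ^ 2 = 1 := by exact_mod_cast h'.symm
    simp at h''
    omega
  have hu : (Finset.univ : Finset (IrrCharacter (Cfsg.Sz F m))) =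
      insert (oneC m) (insert (stC m) (priSet m ∪ cusp m)) := by
    ext χ
    simpa using cases_irr m χ
  rw [hu, Finset.sum_insert (by simp [h6, h1, h4]), Finset.sum_insert (by simp [h2, h5]),
    Finset.sum_union (Finset.disjoint_left.mpr h3)]
  ring

theorem card_cusp : (cusp (F := F) m).card = (2 ^ m) ^ 2 + 2 := by
  have h := sum_split (F := F) m (fun _ => (1 : ℂ))
  simp only [Finset.sum_const, nsmul_eq_mul, mul_one, Finset.card_univ] at h
  have h' : Fintype.card (IrrCharacter (Cfsg.Sz F m)) = 1 + 1 + (priSet (F := F) m).card + (cusp (F := F) m).card := by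
    exact_mod_cast h
  rw [← Nat.card_eq_fintype_card, card_irrCharacter, card_conjClasses m] at h'
  have hP := card_priSet (F := F) m
  have hq : Fintype.card F = 2 * (2 ^ m) ^ 2 := by
    rw [SzField.card_eq (F := F) (m := m), ← pow_mul]; ring
  omega

/-- The integers attached to the characters without `U`-fixed vectors. -/
structure IsVals (A b : IrrCharacter (Cfsg.Sz F m) → ℕ) (c : IrrCharacter (Cfsg.Sz F m) → ℤ) : Prop where
  parity : ∀ χ ∈ cusp m, ∃ k : ℤ, (b χ : ℤ) = 2 * k + c χ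
  deg : ∀ χ ∈ cusp m, χ.1 1 = ((Fintype.card F : ℂ) - 1) * (A χ + (2 : ℂ) ^ m * b χ)
  cen : ∀ χ ∈ cusp m, χ.1 (u m 0 1) = ((Fintype.card F : ℂ) - 1) * A χ - (2 : ℂ) ^ m * b χ
  re : ∀ χ ∈ cusp m, χ.1 (u m 1 0) + χ.1 (u m 1 0)⁻¹ = -2 * (A χ : ℂ)
  sq : ∀ χ ∈ cusp m, χ.1 (u m 1 0) * χ.1 (u m 1 0)⁻¹ = (A χ : ℂ) ^ 2 + ((2 : ℂ) ^ m) ^ 2 * (c χ : ℂ) ^ 2

omit [Fintype (Fˣ →* ℂˣ)] in
theorem exists_vals : ∃ A b c, IsVals (F := F) m A b c := by
  have : Fintype ↥(U (F := F) m) := Fintype.ofFinite _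
  have h : ∀ χ : IrrCharacter (Cfsg.Sz F m), ∃ A b : ℕ, ∃ c : ℤ, χ ∈ cusp m →
      (∃ k : ℤ, (b : ℤ) = 2 * k + c) ∧
      χ.1 1 = ((Fintype.card F : ℂ) - 1) * (A + (2 : ℂ) ^ m * b) ∧
      χ.1 (u m 0 1) = ((Fintype.card F : ℂ) - 1) * A - (2 : ℂ) ^ m * b ∧
      χ.1 (u m 1 0) + χ.1 (u m 1 0)⁻¹ = -2 * (A : ℂ) ∧
      χ.1 (u m 1 0) * χ.1 (u m 1 0)⁻¹ = (A : ℂ) ^ 2 + ((2 : ℂ) ^ m) ^ 2 * (c : ℂ) ^ 2 := by
    intro χ
    by_cases hχ : χ ∈ cusp m
    · obtain ⟨A, b, c, k, hk, h⟩ := cuspidal_values m (CharBasic.IsIrr.isCharacter χ.2) ((mem_cusp m).mp hχ)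
      exact ⟨A, b, c, fun _ => ⟨⟨k, hk⟩, h⟩⟩
    · exact ⟨0, 0, 0, fun h => absurd h hχ⟩
  choose A b c h using h
  exact ⟨A, b, c, ⟨fun χ hχ => (h χ hχ).1, fun χ hχ => (h χ hχ).2.1, fun χ hχ => (h χ hχ).2.2.1,
    fun χ hχ => (h χ hχ).2.2.2.1, fun χ hχ => (h χ hχ).2.2.2.2⟩⟩

omit [Fintype F] [SzField F m] [Fintype (Cfsg.Sz F m)] [Fintype (Fˣ →* ℂˣ)] in
theorem sum_pri_const {s : Finset (IrrCharacter (Cfsg.Sz F m))} {f : IrrCharacter (Cfsg.Sz F m) → ℂ} {x : ℂ}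
    (h : ∀ χ ∈ s, f χ = x) : ∑ χ ∈ s, f χ = (s.card : ℂ) * x := by
  rw [Finset.sum_congr rfl h, Finset.sum_const, nsmul_eq_mul]

theorem card_priSet_cast : ((priSet (F := F) m).card : ℂ) = ((2 : ℂ) ^ m) ^ 2 - 1 := by
  have h1 : ((2 * (priSet (F := F) m).card + 2 : ℕ) : ℂ) = (Fintype.card F : ℂ) := by rw [card_priSet m]
  rw [card_eq_sq m] at h1
  push_cast at h1
  linear_combination h1 / 2

variable {m}
variable {A b : IrrCharacter (Cfsg.Sz F m) → ℕ} {c : IrrCharacter (Cfsg.Sz F m) → ℤ} (hv : IsVals m A b c)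
include hv

/-- The sums from the columns of the unipotent classes. -/
theorem global_sums : ∑ χ ∈ cusp m, (A χ : ℤ) ^ 2 = (2 ^ m) ^ 2 ∧
    ∑ χ ∈ cusp m, (A χ : ℤ) * b χ = 2 * 2 ^ m * ((2 ^ m) ^ 2 - 1) ∧
    ∑ χ ∈ cusp m, c χ ^ 2 = 2 := by
  set r : ℂ := (2 : ℂ) ^ m with hr
  set q : ℂ := (Fintype.card F : ℂ) with hqd
  have hq : q = 2 * r ^ 2 := card_eq_sq m
  have hP : ((priSet (F := F) m).card : ℂ) = r ^ 2 - 1 := card_priSet_cast m
  have hr0 : r ≠ 0 := pow_ne_zero _ (by norm_num)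
  have h10 : ¬ ((1 : F) = 0 ∧ (0 : F) = 0) := fun h => one_ne_zero h.1
  have h11 : ¬ ((1 : F) = 0 ∧ (1 : F) = 0) := fun h => one_ne_zero h.1
  have h01 : ¬ ((0 : F) = 0 ∧ (1 : F) = 0) := fun h => one_ne_zero h.2
  have ho := u10_order (F := F) m
  have hne1 : u m (1 : F) 0 ≠ 1 := fun e => h10 ((u_eq_one m).mp e)
  have hne2 : (u m (1 : F) 0)⁻¹ ≠ 1 := fun e => hne1 (inv_eq_one.mp e)
  have hz : ∀ χ : IrrCharacter (Cfsg.Sz F m), conj (χ.1 (u m 0 1)) = χ.1 (u m 0 1) := fun χ =>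
    apply_inv_of_real m (CharBasic.IsIrr.isCharacter χ.2) (real_u01 m)
  have hev : ∀ (f g : IrrCharacter (Cfsg.Sz F m) → ℂ) (x : ℂ), (∀ χ ∈ priSet m, f χ = x) →
      (∀ χ ∈ cusp m, f χ = g χ) →
      ∑ χ, f χ = f (oneC m) + f (stC m) + (r ^ 2 - 1) * x + ∑ χ ∈ cusp m, g χ := by
    intro f g x hx hg
    rw [sum_split m f, sum_pri_const m hx, hP, Finset.sum_congr rfl hg]
  -- the column of `1` against that of `u(1,0)`
  have e1 : ∑ χ ∈ cusp m, χ.1 1 * (A χ : ℂ) = 1 + (r ^ 2 - 1) * (q ^ 2 + 1) := by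
    have s1 := sum_degree_mul_apply (u m (1 : F) 0)
    have s2 := sum_degree_mul_apply (u m (1 : F) 0)⁻¹
    rw [if_neg hne1] at s1
    rw [if_neg hne2] at s2
    have s : ∑ χ : IrrCharacter (Cfsg.Sz F m), χ.1 1 * (χ.1 (u m 1 0) + χ.1 (u m 1 0)⁻¹) = 0 := by
      simp only [mul_add, Finset.sum_add_distrib, s1, s2, add_zero]
    rw [hev (fun χ => χ.1 1 * (χ.1 (u m 1 0) + χ.1 (u m 1 0)⁻¹)) (fun χ => -2 * (χ.1 1 * A χ))
      ((q ^ 2 + 1) * (1 + 1))
      (fun χ hχ => by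
        obtain ⟨l, -, e⟩ := (mem_priSet m).mp hχ
        rw [e, pri_one, u11_eq, pri_u m l h10, pri_u m l h11])
      (fun χ hχ => by rw [hv.re χ hχ]; ring), ← Finset.mul_sum] at s
    simp only [oneC, stC, u11_eq, st_u m h10, st_u m h11] at s
    linear_combination (-1 / 2 : ℂ) * s
  have e2 : ∑ χ ∈ cusp m, χ.1 (u m 0 1) * (A χ : ℂ) = r ^ 2 := by
    have hn1 : ¬ IsConj (u m (1 : F) 0) (u m 0 1) := not_isConj_of_orderOf m (by rw [ho, u01_order]; norm_num)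
    have hn2 : ¬ IsConj (u m (1 : F) 0)⁻¹ (u m 0 1) :=
      not_isConj_of_orderOf m (by rw [orderOf_inv, ho, u01_order]; norm_num)
    have s1 := second_orthogonality_not_isConj hn1
    have s2 := second_orthogonality_not_isConj hn2
    simp only [hz] at s1 s2
    have s : ∑ χ : IrrCharacter (Cfsg.Sz F m), χ.1 (u m 0 1) * (χ.1 (u m 1 0) + χ.1 (u m 1 0)⁻¹) = 0 := by
      have s12 : ∀ χ : IrrCharacter (Cfsg.Sz F m), χ.1 (u m 0 1) * (χ.1 (u m 1 0) + χ.1 (u m 1 0)⁻¹) =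
          χ.1 (u m 1 0) * χ.1 (u m 0 1) + χ.1 (u m 1 0)⁻¹ * χ.1 (u m 0 1) := fun χ => by ring
      rw [Finset.sum_congr rfl fun χ _ => s12 χ, Finset.sum_add_distrib, s1, s2, add_zero]
    rw [hev (fun χ => χ.1 (u m 0 1) * (χ.1 (u m 1 0) + χ.1 (u m 1 0)⁻¹)) (fun χ => -2 * (χ.1 (u m 0 1) * A χ))
      (1 * (1 + 1))
      (fun χ hχ => by
        obtain ⟨l, -, e⟩ := (mem_priSet m).mp hχ
        rw [e, pri_u m l h01, u11_eq, pri_u m l h10, pri_u m l h11])
      (fun χ hχ => by rw [hv.re χ hχ]; ring), ← Finset.mul_sum] at s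
    simp only [oneC, stC, u11_eq, st_u m h10, st_u m h11, st_u m h01] at s
    linear_combination (-1 / 2 : ℂ) * s
  have e3 : ∑ χ ∈ cusp m, ((A χ : ℂ) ^ 2 + r ^ 2 * (c χ : ℂ) ^ 2) = 3 * r ^ 2 := by
    have s : ∑ χ : IrrCharacter (Cfsg.Sz F m), χ.1 (u m 1 0) * χ.1 (u m 1 0)⁻¹ = 2 * q := by
      have h := second_orthogonality_self (u m (1 : F) 0)
      rw [card_centralizer_u10, Nat.cast_mul, Nat.card_eq_fintype_card] at h
      push_cast at h
      rw [← h]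
      exact Finset.sum_congr rfl fun χ _ => by rw [IsChar.inv_apply (CharBasic.IsIrr.isCharacter χ.2)]
    rw [hev (fun χ => χ.1 (u m 1 0) * χ.1 (u m 1 0)⁻¹) (fun χ => (A χ : ℂ) ^ 2 + r ^ 2 * (c χ : ℂ) ^ 2) 1
      (fun χ hχ => by
        obtain ⟨l, -, e⟩ := (mem_priSet m).mp hχ
        rw [e, u11_eq, pri_u m l h10, pri_u m l h11, mul_one])
      (fun χ hχ => hv.sq χ hχ)] at s
    simp only [oneC, stC, u11_eq, st_u m h10, st_u m h11] at s
    linear_combination s + 2 * hq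
  have e1' : (q - 1) * ∑ χ ∈ cusp m, (A χ : ℂ) ^ 2 + (q - 1) * r * ∑ χ ∈ cusp m, (A χ : ℂ) * b χ =
      1 + (r ^ 2 - 1) * (q ^ 2 + 1) := by
    rw [← e1, Finset.mul_sum, Finset.mul_sum, ← Finset.sum_add_distrib]
    exact Finset.sum_congr rfl fun χ hχ => by rw [hv.deg χ hχ]; ring
  have e2' : (q - 1) * ∑ χ ∈ cusp m, (A χ : ℂ) ^ 2 - r * ∑ χ ∈ cusp m, (A χ : ℂ) * b χ = r ^ 2 := by
    rw [← e2, Finset.mul_sum, Finset.mul_sum, ← Finset.sum_sub_distrib]
    exact Finset.sum_congr rfl fun χ hχ => by rw [hv.cen χ hχ]; ring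
  have hq0 : q ≠ 0 := by rw [hq]; simp [hr0]
  have hab : ∑ χ ∈ cusp m, (A χ : ℂ) * b χ = 2 * r * (r ^ 2 - 1) := by
    apply mul_left_cancel₀ (mul_ne_zero hq0 hr0)
    linear_combination e1' - e2' + q * (r ^ 2 - 1) * hq
  have hq1 : q - 1 ≠ 0 := by
    have := eight_le_card (F := F) m
    rw [sub_ne_zero, hqd]
    exact_mod_cast (by omega : Fintype.card F ≠ 1)
  have hA : ∑ χ ∈ cusp m, (A χ : ℂ) ^ 2 = r ^ 2 := by
    apply mul_left_cancel₀ hq1
    linear_combination e2' + r * hab - r ^ 2 * hq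
  have hc : ∑ χ ∈ cusp m, (c χ : ℂ) ^ 2 = 2 := by
    rw [Finset.sum_add_distrib, ← Finset.mul_sum, hA] at e3
    apply mul_left_cancel₀ (pow_ne_zero 2 hr0)
    linear_combination e3
  refine ⟨?_, ?_, ?_⟩
  · have h : ((∑ χ ∈ cusp m, (A χ : ℤ) ^ 2 : ℤ) : ℂ) = (((2 ^ m) ^ 2 : ℤ) : ℂ) := by push_cast; exact hA
    exact_mod_cast h
  · have h : ((∑ χ ∈ cusp m, (A χ : ℤ) * b χ : ℤ) : ℂ) = ((2 * 2 ^ m * ((2 ^ m) ^ 2 - 1) : ℤ) : ℂ) := by
      push_cast; exact hab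
    exact_mod_cast h
  · have h : ((∑ χ ∈ cusp m, c χ ^ 2 : ℤ) : ℂ) = ((2 : ℤ) : ℂ) := by push_cast; exact hc
    exact_mod_cast h

/-- The sums from the column of a fixed-point-free element. -/
theorem column_sums {y : Cfsg.Sz F m} (hy : FixFree m y) (hs : IsSS m y) :
    ∑ χ ∈ cusp m, (A χ : ℂ) * χ.1 y = 1 ∧ ∑ χ ∈ cusp m, (b χ : ℂ) * χ.1 y = 2 * (2 : ℂ) ^ m ∧
    ∑ χ ∈ cusp m, χ.1 y * χ.1 y = (Nat.card (Subgroup.centralizer {y}) : ℂ) - 2 := by
  set r : ℂ := (2 : ℂ) ^ m with hr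
  set q : ℂ := (Fintype.card F : ℂ) with hqd
  have hq : q = 2 * r ^ 2 := card_eq_sq m
  have hr0 : r ≠ 0 := pow_ne_zero _ (by norm_num)
  have hreal : ∀ χ : IrrCharacter (Cfsg.Sz F m), conj (χ.1 y) = χ.1 y := fun χ =>
    apply_inv_of_real m (CharBasic.IsIrr.isCharacter χ.2) (isConj_inv_of_isSS m hs)
  have h10 : ¬ ((1 : F) = 0 ∧ (0 : F) = 0) := fun h => one_ne_zero h.1
  have h11 : ¬ ((1 : F) = 0 ∧ (1 : F) = 0) := fun h => one_ne_zero h.1
  have h01 : ¬ ((0 : F) = 0 ∧ (1 : F) = 0) := fun h => one_ne_zero h.2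
  have hpri : ∀ χ ∈ priSet (F := F) m, χ.1 y = 0 := fun χ hχ => by
    obtain ⟨l, -, e⟩ := (mem_priSet m).mp hχ
    rw [e, pri_fixFree m l hy]
  have hsplit : ∀ f : IrrCharacter (Cfsg.Sz F m) → ℂ, ∑ χ, f χ * χ.1 y =
      f (oneC m) - f (stC m) + ∑ χ ∈ cusp m, f χ * χ.1 y := by
    intro f
    rw [sum_split, Finset.sum_eq_zero (s := priSet m) (fun χ hχ => by rw [hpri χ hχ, mul_zero])]
    simp only [oneC, stC, st_fixFree m hy]
    ring
  have hne : ∀ g : Cfsg.Sz F m, Even (orderOf g) → ¬ IsConj g y := fun g hg =>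
    not_isConj_of_orderOf m (fun e => Nat.not_even_iff_odd.mpr hs.2 (e ▸ hg))
  have e1 : ∑ χ ∈ cusp m, χ.1 1 * χ.1 y = q ^ 2 - 1 := by
    have s := sum_degree_mul_apply y
    rw [if_neg hs.1, hsplit fun χ => χ.1 1] at s
    simp only [oneC, stC, st_one] at s
    linear_combination s
  have hcol : ∀ g : Cfsg.Sz F m, Even (orderOf g) →
      ∑ χ : IrrCharacter (Cfsg.Sz F m), χ.1 g * χ.1 y = 0 := by
    intro g hg
    rw [← second_orthogonality_not_isConj (hne g hg)]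
    exact Finset.sum_congr rfl fun χ _ => by rw [hreal χ]
  have e2 : ∑ χ ∈ cusp m, χ.1 (u m 0 1) * χ.1 y = -1 := by
    have s := hcol (u m 0 1) (by rw [u01_order]; exact even_two)
    rw [hsplit fun χ => χ.1 (u m 0 1)] at s
    simp only [oneC, stC, st_u m h01] at s
    linear_combination s
  have e3 : ∑ χ ∈ cusp m, (χ.1 (u m 1 0) + χ.1 (u m 1 0)⁻¹) * χ.1 y = -2 := by
    have s1 := hcol (u m 1 0) (by rw [u10_order]; decide)
    have s2 := hcol (u m 1 0)⁻¹ (by rw [orderOf_inv, u10_order]; decide)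
    rw [hsplit fun χ => χ.1 (u m 1 0)] at s1
    rw [hsplit fun χ => χ.1 (u m 1 0)⁻¹] at s2
    simp only [oneC, stC, u11_eq, st_u m h10, st_u m h11] at s1 s2
    simp only [u11_eq, add_mul, Finset.sum_add_distrib]
    linear_combination s1 + s2
  have hA : ∑ χ ∈ cusp m, (A χ : ℂ) * χ.1 y = 1 := by
    rw [Finset.sum_congr rfl (fun χ hχ => show (χ.1 (u m 1 0) + χ.1 (u m 1 0)⁻¹) * χ.1 y =
      -2 * ((A χ : ℂ) * χ.1 y) by rw [hv.re χ hχ]; ring), ← Finset.mul_sum] at e3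
    linear_combination (-1 / 2 : ℂ) * e3
  refine ⟨hA, ?_, ?_⟩
  · apply mul_left_cancel₀ (mul_ne_zero (show q ≠ 0 by rw [hq]; simp [hr0]) hr0)
    have e : q * r * ∑ χ ∈ cusp m, (b χ : ℂ) * χ.1 y =
        ∑ χ ∈ cusp m, χ.1 1 * χ.1 y - ∑ χ ∈ cusp m, χ.1 (u m 0 1) * χ.1 y := by
      rw [Finset.mul_sum, ← Finset.sum_sub_distrib]
      exact Finset.sum_congr rfl fun χ hχ => by rw [hv.deg χ hχ, hv.cen χ hχ]; ring
    linear_combination e + e1 - e2 + q * hq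
  · have s := second_orthogonality_self y
    simp only [hreal] at s
    rw [hsplit fun χ => χ.1 y] at s
    simp only [oneC, stC, st_fixFree m hy] at s
    linear_combination s

/-- The values at the unipotent classes determine the integers. -/
theorem vals_congr {χ χ' : IrrCharacter (Cfsg.Sz F m)} (h : χ ∈ cusp m) (h' : χ' ∈ cusp m)
    (e1 : χ.1 1 = χ'.1 1) (e2 : χ.1 (u m 0 1) = χ'.1 (u m 0 1))
    (e3 : χ.1 (u m 1 0) + χ.1 (u m 1 0)⁻¹ = χ'.1 (u m 1 0) + χ'.1 (u m 1 0)⁻¹)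
    (e4 : χ.1 (u m 1 0) * χ.1 (u m 1 0)⁻¹ = χ'.1 (u m 1 0) * χ'.1 (u m 1 0)⁻¹) :
    A χ = A χ' ∧ b χ = b χ' ∧ c χ ^ 2 = c χ' ^ 2 := by
  rw [hv.re χ h, hv.re χ' h'] at e3
  have hA : (A χ : ℂ) = A χ' := by linear_combination (-1 / 2 : ℂ) * e3
  rw [hv.deg χ h, hv.deg χ' h'] at e1
  rw [hv.cen χ h, hv.cen χ' h'] at e2
  have hr0 : (2 : ℂ) ^ m ≠ 0 := pow_ne_zero _ (by norm_num)
  have hb : (b χ : ℂ) = b χ' := by
    apply mul_left_cancel₀ (mul_ne_zero (show (Fintype.card F : ℂ) ≠ 0 from Nat.cast_ne_zero.mpr Fintype.card_ne_zero) hr0)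
    linear_combination e1 - e2
  rw [hv.sq χ h, hv.sq χ' h', hA] at e4
  have hc : ((c χ ^ 2 : ℤ) : ℂ) = ((c χ' ^ 2 : ℤ) : ℂ) := by
    push_cast
    exact mul_left_cancel₀ (pow_ne_zero 2 hr0) (by linear_combination e4)
  exact ⟨by exact_mod_cast hA, by exact_mod_cast hb, by exact_mod_cast hc⟩

omit hv in
/-- A family of exceptional characters. -/
theorem family {V : Subgroup (Cfsg.Sz F m)} (hV : IsCyclicPart m V) (h4 : Nat.card V ≠ 2 ^ (2 * m + 1) - 1)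
    (hc : Nat.card V ∣ Nat.card F ^ 2 + 1) [Fintype (↥V →* ℂˣ)] (hn : 3 ≤ (psiSet hV).card)
    {y : Cfsg.Sz F m} (hy : y ∈ V) (hy1 : y ≠ 1) :
    ∃ S : Finset (IrrCharacter (Cfsg.Sz F m)), S ⊆ cusp m ∧ S.card = (psiSet hV).card ∧
      (∀ g, (∀ x, x⁻¹ * g * x ∈ V → g = 1) → ∀ χ ∈ S, ∀ χ' ∈ S, χ.1 g = χ'.1 g) ∧
      (∀ χ, χ ∉ S → ∃ k : ℤ, χ.1 y = k) ∧
      ∃ e k : ℤ, (e = 1 ∨ e = -1) ∧ ∑ χ ∈ S, χ.1 y = -(e : ℂ) + ((psiSet hV).card : ℂ) * k ∧
        ∑ χ ∈ S, χ.1 y * χ.1 y = (Nat.card V : ℂ) - 4 - 2 * e * k + ((psiSet hV).card : ℂ) * k ^ 2 := by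
  obtain ⟨θ, e, he, hinj, hsame, ⟨k, hk⟩, hout⟩ := exists_exceptional hV h4 (by omega)
  set S := Finset.univ.image θ with hS
  have hBeq : ∀ g ∈ B (F := F) m, ∀ i j, (θ i).1 g = (θ j).1 g := by
    intro g hg
    refine hsame g fun x hx => ?_
    by_contra hg1
    have h1 : x⁻¹ * g * x ≠ 1 := fun e => hg1 (by
      calc g = x * (x⁻¹ * g * x) * x⁻¹ := by group
        _ = 1 := by rw [e]; group)
    have hf := fixFree_conj m x (fixFree_of_mem m hV hc hx h1)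
    rw [show x * (x⁻¹ * g * x) * x⁻¹ = g by group] at hf
    exact not_fixFree_of_mem_B m hg hf
  have hip : ∀ (l : Fˣ →* ℂˣ) i j, classInner (θ i).1 (pri m l) = classInner (θ j).1 (pri m l) := by
    intro l i j
    have : Fintype ↥(B (F := F) m) := Fintype.ofFinite _
    rw [pri, classInner_indFun_right _ _ _ (IsIrr.isClassFunction (θ i).2),
      classInner_indFun_right _ _ _ (IsIrr.isClassFunction (θ j).2)]
    congr 1
    funext g
    exact hBeq g.1 g.2 i j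
  have hsub : S ⊆ cusp m := by
    intro χ hχ
    obtain ⟨i, -, rfl⟩ := Finset.mem_image.mp hχ
    obtain ⟨j, hji⟩ : ∃ j, j ≠ i := Fintype.exists_ne_of_one_lt_card (by rw [Fintype.card_coe]; omega) i
    have hij : θ j ≠ θ i := fun h => hji (hinj h)
    rcases cases_irr m (θ i) with h | h | h | h
    · exfalso
      have h1 := hip 1 i j
      rw [show pri (F := F) m 1 = (stC (F := F) m).1 + (oneC (F := F) m).1 by funext g; simp [stC, oneC, stFun],
        classInner_add_right, classInner_add_right, h, classInner_irrCharacter, classInner_irrCharacter,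
        classInner_irrCharacter, classInner_irrCharacter, if_pos rfl, if_neg (h ▸ hij : θ j ≠ oneC m)] at h1
      have hne : oneC (F := F) m ≠ stC m := fun e => by
        have h' : (1 : ℂ) = (Fintype.card F : ℂ) ^ 2 := (congrFun (congrArg Subtype.val e) 1).trans (st_one m)
        have h'' : Fintype.card F ^ 2 = 1 := by exact_mod_cast h'.symm
        have := eight_le_card (F := F) m
        simp at h''
        omega
      rw [if_neg hne] at h1
      split_ifs at h1 with h2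
      · have h3 := congrFun (congrArg Subtype.val h) 1
        rw [hBeq 1 (one_mem _) i j, h2] at h3
        have h' : (1 : ℂ) = (Fintype.card F : ℂ) ^ 2 := h3.symm.trans (st_one m)
        have h'' : Fintype.card F ^ 2 = 1 := by exact_mod_cast h'.symm
        have := eight_le_card (F := F) m
        simp at h''
        omega
      · simp at h1
    · exfalso
      have h1 := hip 1 i j
      rw [show pri (F := F) m 1 = (stC (F := F) m).1 + (oneC (F := F) m).1 by funext g; simp [stC, oneC, stFun],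
        classInner_add_right, classInner_add_right, h, classInner_irrCharacter, classInner_irrCharacter,
        classInner_irrCharacter, classInner_irrCharacter, if_pos rfl, if_neg (h ▸ hij : θ j ≠ stC m)] at h1
      have hne : stC (F := F) m ≠ oneC m := fun e => by
        have h' : (Fintype.card F : ℂ) ^ 2 = 1 := (st_one m).symm.trans (congrFun (congrArg Subtype.val e) 1)
        have h'' : Fintype.card F ^ 2 = 1 := by exact_mod_cast h'
        have := eight_le_card (F := F) m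
        simp at h''
        omega
      rw [if_neg hne] at h1
      split_ifs at h1 with h2
      · have h3 := congrFun (congrArg Subtype.val h) 1
        rw [hBeq 1 (one_mem _) i j, h2] at h3
        have h' : (Fintype.card F : ℂ) ^ 2 = 1 := (st_one m).symm.trans h3.symm
        have h'' : Fintype.card F ^ 2 = 1 := by exact_mod_cast h'
        have := eight_le_card (F := F) m
        simp at h''
        omega
      · simp at h1
    · exfalso
      obtain ⟨l, -, hl⟩ := (mem_priSet m).mp h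
      have h1 := hip l i j
      rw [← hl, classInner_irrCharacter, classInner_irrCharacter, if_pos rfl, if_neg hij] at h1
      exact one_ne_zero h1
    · exact h
  refine ⟨S, hsub, by rw [hS, Finset.card_image_of_injective _ hinj, Finset.card_univ, Fintype.card_coe],
    ?_, ?_, e, k, he, ?_, ?_⟩
  · intro g hg χ hχ χ' hχ'
    obtain ⟨i, -, rfl⟩ := Finset.mem_image.mp hχ
    obtain ⟨j, -, rfl⟩ := Finset.mem_image.mp hχ'
    exact hsame g hg i j
  · intro χ hχ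
    obtain ⟨k', hk'⟩ := hout χ (fun i h => hχ (h ▸ Finset.mem_image_of_mem _ (Finset.mem_univ i)))
    exact ⟨k', hk' ⟨y, hy⟩ (fun h => hy1 (congrArg Subtype.val h))⟩
  all_goals
    rw [hS, Finset.sum_image fun i _ j _ h => hinj h]
    simp only [fun i => hk i ⟨y, hy⟩ (fun h => hy1 (congrArg Subtype.val h))]
    have hne : (⟨y, hy⟩ : ↥V) ≠ 1 := fun h => hy1 (congrArg Subtype.val h)
    have hs : ∑ i : ↥(psiSet hV), i.1 ⟨y, hy⟩ = -1 :=
      (Finset.sum_coe_sort (psiSet hV) fun i => i ⟨y, hy⟩).trans (sum_psiSet hV h4 hne)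
  · rw [Finset.sum_add_distrib, ← Finset.mul_sum, hs, Finset.sum_const, Finset.card_univ, Fintype.card_coe,
      nsmul_eq_mul]
    ring
  · have hs2 : ∑ i : ↥(psiSet hV), i.1 ⟨y, hy⟩ * i.1 ⟨y, hy⟩ = (Nat.card V : ℂ) - 4 :=
      (Finset.sum_coe_sort (psiSet hV) fun i => i ⟨y, hy⟩ * i ⟨y, hy⟩).trans (sum_sq_psiSet hV h4 hne)
    have e2 : ∀ i : ↥(psiSet hV), ((e : ℂ) * i.1 ⟨y, hy⟩ + k) * ((e : ℂ) * i.1 ⟨y, hy⟩ + k) =
        (i.1 ⟨y, hy⟩ * i.1 ⟨y, hy⟩) + 2 * e * k * i.1 ⟨y, hy⟩ + (k : ℂ) ^ 2 := fun i => by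
      have hee : (e : ℂ) * e = 1 := by rcases he with h | h <;> simp [h]
      linear_combination i.1 ⟨y, hy⟩ * i.1 ⟨y, hy⟩ * hee
    simp only [e2]
    rw [Finset.sum_add_distrib, Finset.sum_add_distrib, hs2, ← Finset.mul_sum, hs, Finset.sum_const,
      Finset.card_univ, Fintype.card_coe, nsmul_eq_mul]
    ring

omit hv in
theorem coprime_parts_pm : Nat.Coprime (aPlus m) (aMinus m) := by
  have h1 : 2 ^ (m + 1) ≤ 2 ^ (2 * m + 1) := Nat.pow_le_pow_right (by norm_num) (by omega)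
  refine Nat.coprime_of_dvd fun p hp hp1 hp2 => ?_
  have hd := Nat.dvd_sub hp1 hp2
  rw [show aPlus m - aMinus m = 2 ^ (m + 2) by
    have : 2 ^ (m + 2) = 2 * 2 ^ (m + 1) := by ring
    simp only [aPlus, aMinus]; omega] at hd
  obtain rfl := (Nat.prime_dvd_prime_iff_eq hp Nat.prime_two).mp (hp.dvd_of_dvd_pow hd)
  have h2 : 2 ∣ 2 ^ (2 * m + 1) + 2 ^ (m + 1) :=
    dvd_add (dvd_pow_self 2 (by omega)) (dvd_pow_self 2 (by omega))
  have h3 : 2 ∣ 1 := (Nat.dvd_add_right h2).mp hp1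
  exact absurd (Nat.dvd_one.mp h3) (by norm_num)

omit hv in
theorem not_conj_into {V W : Subgroup (Cfsg.Sz F m)} (h : Nat.Coprime (Nat.card V) (Nat.card W)) {y : Cfsg.Sz F m}
    (hy : y ∈ V) (x : Cfsg.Sz F m) (hx : x⁻¹ * y * x ∈ W) : y = 1 := by
  have h1 := Subgroup.orderOf_dvd_natCard V hy
  have h2 := Subgroup.orderOf_dvd_natCard W hx
  rw [show x⁻¹ * y * x = MulAut.conj x⁻¹ y by rw [MulAut.conj_apply, inv_inv], MulEquiv.orderOf_eq] at h2
  exact orderOf_eq_one_iff.mp (Nat.eq_one_of_dvd_coprimes h h1 h2)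

omit hv in
theorem unipotent_not_conj {V : Subgroup (Cfsg.Sz F m)} (hV : IsCyclicPart m V) {g : Cfsg.Sz F m}
    (hg : g ^ 4 = 1) (x : Cfsg.Sz F m) (hx : x⁻¹ * g * x ∈ V) : g = 1 := by
  have h4 : (x⁻¹ * g * x) ^ 4 = 1 := by
    rw [show x⁻¹ * g * x = MulAut.conj x⁻¹ g by rw [MulAut.conj_apply, inv_inv], ← map_pow, hg, map_one]
  have := hV.eq_one_of_pow_four hx h4
  calc g = x * (x⁻¹ * g * x) * x⁻¹ := by group
    _ = 1 := by rw [this]; group

/-- The members of a family have the same integers, and are real on the elements of order four. -/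
theorem family_vals {V : Subgroup (Cfsg.Sz F m)} (hV : IsCyclicPart m V) {S : Finset (IrrCharacter (Cfsg.Sz F m))}
    (hsub : S ⊆ cusp m) (hn : 3 ≤ S.card)
    (hsame : ∀ g, (∀ x, x⁻¹ * g * x ∈ V → g = 1) → ∀ χ ∈ S, ∀ χ' ∈ S, χ.1 g = χ'.1 g) :
    ∃ A₀ b₀ : ℕ, ∀ χ ∈ S, A χ = A₀ ∧ b χ = b₀ ∧ c χ = 0 := by
  obtain ⟨χ₀, h₀⟩ := Finset.card_pos.mp (show 0 < S.card by omega)
  have hz4 : u m (0 : F) 1 ^ 4 = 1 :=
    orderOf_dvd_iff_pow_eq_one.mp (by rw [u01_order]; norm_num)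
  have hv4 : u m (1 : F) 0 ^ 4 = 1 :=
    orderOf_dvd_iff_pow_eq_one.mp (by rw [u10_order])
  have hw4 : (u m (1 : F) 0)⁻¹ ^ 4 = 1 :=
    orderOf_dvd_iff_pow_eq_one.mp (by rw [orderOf_inv, u10_order])
  have hcong : ∀ χ ∈ S, A χ = A χ₀ ∧ b χ = b χ₀ ∧ c χ ^ 2 = c χ₀ ^ 2 := fun χ hχ =>
    vals_congr hv (hsub hχ) (hsub h₀) (hsame 1 (fun _ _ => rfl) χ hχ χ₀ h₀)
      (hsame _ (fun x hx => unipotent_not_conj hV hz4 x hx) χ hχ χ₀ h₀)
      (by rw [hsame _ (fun x hx => unipotent_not_conj hV hv4 x hx) χ hχ χ₀ h₀,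
        hsame _ (fun x hx => unipotent_not_conj hV hw4 x hx) χ hχ χ₀ h₀])
      (by rw [hsame _ (fun x hx => unipotent_not_conj hV hv4 x hx) χ hχ χ₀ h₀,
        hsame _ (fun x hx => unipotent_not_conj hV hw4 x hx) χ hχ χ₀ h₀])
  refine ⟨A χ₀, b χ₀, fun χ hχ => ⟨(hcong χ hχ).1, (hcong χ hχ).2.1, ?_⟩⟩
  have h1 : ∑ χ' ∈ S, c χ' ^ 2 ≤ 2 := (global_sums hv).2.2 ▸
    Finset.sum_le_sum_of_subset_of_nonneg hsub (fun _ _ _ => sq_nonneg _)
  rw [Finset.sum_congr rfl fun χ' hχ' => ((hcong χ' hχ').2.2).trans (hcong χ hχ).2.2.symm,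
    Finset.sum_const, nsmul_eq_mul] at h1
  by_contra hne
  have h2 : 1 ≤ c χ ^ 2 := by
    have := lt_of_le_of_ne (sq_nonneg (c χ)) (Ne.symm (pow_ne_zero 2 hne))
    omega
  have h3 : (3 : ℤ) ≤ S.card := by exact_mod_cast hn
  nlinarith

end Cfsg.Agent.Suzuki
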