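import Cfsg.Agent.Suzuki.ClassSquare
import Cfsg.Agent.Suzuki.AutSylow
import Cfsg.Agent.CharBasic.Complete
import Cfsg.Agent.CharBasic.Kernel
import Cfsg.Agent.CharInduce.Induce

/-!
Values of characters of the Suzuki group at unipotent elements, and the integers they determine.
-/

set_option autoImplicit false

open Cfsg
open scoped ComplexConjugate Classical
open Cfsg.Agent.CharBasic Cfsg.Agent.CharInduce

namespace Cfsg.Agent.Suzuki

variable {F : Type*} [Field F] [Fintype F] (m : ℕ) [SzField F m]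

/-- The sign attached to an element of `ZMod 2`. -/
def sgn (z : ZMod 2) : ℂ := if z = 0 then 1 else -1

@[simp] theorem sgn_zero : sgn 0 = 1 := if_pos rfl
@[simp] theorem sgn_one : sgn 1 = -1 := if_neg (by decide)

theorem sgn_add (x y : ZMod 2) : sgn (x + y) = sgn x * sgn y := by
  rcases zmod_two_cases x with rfl | rfl <;> rcases zmod_two_cases y with rfl | rfl <;>
    simp [show (1 : ZMod 2) + 1 = 0 by decide]

theorem sgn_sq (x : ZMod 2) : sgn x * sgn x = 1 := by
  rcases zmod_two_cases x with rfl | rfl <;> simp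

theorem conj_sgn (x : ZMod 2) : conj (sgn x) = sgn x := by
  rcases zmod_two_cases x with rfl | rfl <;> simp

variable {L : F →+ ZMod 2}

theorem sum_comp_trace (hL : IsTrace m L) (f : ZMod 2 → ℂ) :
    2 * ∑ b, f (L b) = (Fintype.card F : ℂ) * (f 0 + f 1) := by
  have h : ∑ b, f (L b) = ∑ b, f (L b + 1) := by
    rw [← Equiv.sum_comp (Equiv.addRight (1 : F))]
    simp [hL.one]
  have h2 : ∀ z : ZMod 2, f z + f (z + 1) = f 0 + f 1 := by
    intro z
    rcases zmod_two_cases z with rfl | rfl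
    · simp
    · rw [show (1 : ZMod 2) + 1 = 0 by decide, add_comm]
  calc 2 * ∑ b, f (L b) = ∑ b, f (L b) + ∑ b, f (L b + 1) := by rw [← h, two_mul]
    _ = ∑ b : F, (f 0 + f 1) := by rw [← Finset.sum_add_distrib]; exact Finset.sum_congr rfl fun b _ => h2 _
    _ = _ := by simp [mul_add]

theorem sum_sgn_trace (hL : IsTrace m L) : ∑ b, sgn (L b) = 0 := by
  have := sum_comp_trace m hL sgn
  simpa using this

theorem isConj_u1_of_trace_zero (hL : IsTrace m L) {b : F} (hb : L b = 0) :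
    IsConj (u m 1 0) (u m 1 b) := by
  obtain ⟨r, -, hr, -⟩ := hL.solve b hb
  exact isConj_u1 m ⟨r, (add_comm _ _).trans hr⟩

theorem isConj_u1_of_trace_one (hL : IsTrace m L) {b : F} (hb : L b = 1) :
    IsConj (u m 1 0)⁻¹ (u m 1 b) := by
  have h0 : L (b + 1) = 0 := by rw [map_add, hb, hL.one]; decide
  have h := isConj_inv_inv (isConj_u1_of_trace_zero m hL h0)
  have e : (u m 1 (b + 1))⁻¹ = u m 1 b := by
    rw [u_inv, th_one, one_mul, add_assoc, add_self m, add_zero]
  rwa [e] at h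

/-- The value at the classes in a coset of the centre. -/
theorem sum_coset {f : Cfsg.Sz F m → ℂ} (hf : IsClassFunction (Cfsg.Sz F m) f) {a : F} (ha : a ≠ 0) :
    2 * ∑ b, f (u m a b) = (Fintype.card F : ℂ) * (f (u m 1 0) + f (u m 1 0)⁻¹) := by
  obtain ⟨L, hL⟩ := exists_trace (F := F) m
  obtain ⟨s, hs⟩ := (th_bijective (F := F) m).2 a⁻¹
  have hs0 : s ≠ 0 := fun h => by rw [h, th_zero] at hs; exact inv_ne_zero ha hs.symm
  have hcf : ∀ {g h : Cfsg.Sz F m}, IsConj g h → f g = f h := by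
    intro g h e
    obtain ⟨c, rfl⟩ := isConj_iff.mp e
    exact (hf g c).symm
  have h1 : ∀ b, f (u m a b) = f (u m 1 (s ^ 2 * th m s * b)) := fun b => hcf (isConj_iff.mpr
    ⟨t m (Units.mk0 s hs0), by rw [t_u, Units.val_mk0, hs, inv_mul_cancel₀ ha]⟩)
  have h2 : ∀ b, f (u m 1 b) = if L b = 0 then f (u m 1 0) else f (u m 1 0)⁻¹ := by
    intro b
    rcases zmod_two_cases (L b) with h | h
    · rw [if_pos h]; exact (hcf (isConj_u1_of_trace_zero m hL h)).symm
    · rw [if_neg (by rw [h]; decide)]; exact (hcf (isConj_u1_of_trace_one m hL h)).symm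
  simp only [h1]
  rw [show ∑ b, f (u m 1 (s ^ 2 * th m s * b)) = ∑ b, f (u m 1 b) from
    Equiv.sum_comp (Equiv.mulLeft₀ (s ^ 2 * th m s) (mul_ne_zero (pow_ne_zero 2 hs0) (by simpa using hs0)))
      (fun b => f (u m 1 b))]
  rw [Finset.sum_congr rfl fun b _ => h2 b, sum_comp_trace m hL (fun z => if z = 0 then f (u m 1 0) else f (u m 1 0)⁻¹)]
  simp

theorem value_centre {f : Cfsg.Sz F m → ℂ} (hf : IsClassFunction (Cfsg.Sz F m) f) {b : F} (hb : b ≠ 0) :
    f (u m 0 b) = f (u m 0 1) := by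
  obtain ⟨s, hs⟩ := (sq_mul_th_bijective (F := F) m).2 b
  dsimp only at hs
  have hs0 : s ≠ 0 := fun h => by
    rw [h, zero_pow two_ne_zero, zero_mul] at hs
    exact hb hs.symm
  rw [← hf (u m 0 1) (t m (Units.mk0 s hs0)), t_u, Units.val_mk0, hs, mul_zero, mul_one]

/-- A function of the centre against a character of the centre. -/
theorem sum_centre (hL : IsTrace m L) {f : Cfsg.Sz F m → ℂ} (hf : IsClassFunction (Cfsg.Sz F m) f) :
    ∑ b, f (u m 0 b) * sgn (L b) = f 1 - f (u m 0 1) := by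
  have h : ∀ b : F, f (u m 0 b) * sgn (L b) =
      f (u m 0 1) * sgn (L b) + if b = 0 then f 1 - f (u m 0 1) else 0 := by
    intro b
    split_ifs with hb
    · subst hb; simp
    · rw [value_centre m hf hb, add_zero]
  simp only [h, Finset.sum_add_distrib, ← Finset.mul_sum, sum_sgn_trace m hL, mul_zero, zero_add,
    Finset.sum_ite_eq', Finset.mem_univ, if_true]

theorem sum_centre_one {f : Cfsg.Sz F m → ℂ} (hf : IsClassFunction (Cfsg.Sz F m) f) :
    ∑ b, f (u m (0 : F) b) = f 1 + ((Fintype.card F : ℂ) - 1) * f (u m 0 1) := by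
  have h : ∀ b : F, f (u m 0 b) = f (u m 0 1) + if b = 0 then f 1 - f (u m 0 1) else 0 := by
    intro b
    split_ifs with hb
    · subst hb; simp
    · rw [value_centre m hf hb, add_zero]
  rw [Finset.sum_congr rfl fun b _ => h b]
  simp [Finset.sum_add_distrib]
  ring

section sums

variable [Fintype (U m : Subgroup (Cfsg.Sz F m))]

theorem sum_U (f : ↥(U (F := F) m) → ℂ) : ∑ g, f g = ∑ a, ∑ b, f (uE m a b) := by
  rw [← Equiv.sum_comp (coE m) f, Fintype.sum_prod_type]
  rfl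

theorem classInner_U (f g : ↥(U (F := F) m) → ℂ) :
    classInner f g = (1 / (Fintype.card F : ℂ) ^ 2) * ∑ a, ∑ b, f (uE m a b) * conj (g (uE m a b)) := by
  rw [classInner, sum_U, card_U, Nat.card_eq_fintype_card]
  simp

/-- The linear character of `U/Z` given by the trace. -/
noncomputable def traceHom (L : F →+ ZMod 2) : ↥(U (F := F) m) →* ℂˣ where
  toFun g := Units.mk0 (sgn (L ((coE m).symm g).1)) (by unfold sgn; split_ifs <;> norm_num)
  map_one' := by
    have : (1 : (U m : Subgroup (Cfsg.Sz F m))) = uE m 0 0 := Subtype.ext (u_zero m).symm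
    ext
    simp [this, coE_symm_uE]
  map_mul' g k := by
    obtain ⟨a, b, rfl⟩ := exists_uE m g
    obtain ⟨c, d, rfl⟩ := exists_uE m k
    ext
    simp [uE_mul, coE_symm_uE, sgn_add]

/-- The central character given by the trace. -/
noncomputable def centreHom (L : F →+ ZMod 2) :
    (Subgroup.center (U m : Subgroup (Cfsg.Sz F m))) →* ℂˣ where
  toFun g := Units.mk0 (sgn (L ((coE m).symm g.1).2)) (by unfold sgn; split_ifs <;> norm_num)
  map_one' := by
    have : (1 : (U m : Subgroup (Cfsg.Sz F m))) = uE m 0 0 := Subtype.ext (u_zero m).symm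
    ext
    simp [this, coE_symm_uE]
  map_mul' := by
    rintro ⟨g, hg⟩ ⟨k, hk⟩
    obtain ⟨b, hb⟩ := (mem_center_U m).mp hg
    obtain ⟨d, hd⟩ := (mem_center_U m).mp hk
    obtain rfl : g = uE m 0 b := Subtype.ext hb
    obtain rfl : k = uE m 0 d := Subtype.ext hd
    ext
    simp [uE_mul, coE_symm_uE, sgn_add]

theorem th_swap (hL : IsTrace m L) {a : F} (h0 : a ≠ 0) (h1 : a ≠ 1) :
    ∃ c : F, L (th m a * c + th m c * a) = 1 := by
  obtain ⟨a', ha'⟩ := (th_bijective (F := F) m).2 a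
  have hne : th m a + a' ≠ 0 := by
    intro e
    have e' := congrArg (th m) (eq_of_add_eq_zero m e)
    rw [th_th, ha'] at e'
    have : a * (a - 1) = 0 := by linear_combination e'
    rcases mul_eq_zero.mp this with h | h
    · exact h0 h
    · exact h1 (sub_eq_zero.mp h)
  obtain ⟨c, hc⟩ := hL.nondeg _ hne
  refine ⟨c, ?_⟩
  rw [map_add, show th m c * a = th m (c * a') by rw [th_mul, ha'], hL.th_eq, ← map_add]
  have e : th m a * c + c * a' = (th m a + a') * c := by ring
  rw [e]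
  exact (zmod_two_cases _).resolve_left hc

theorem card_eq_sq : (Fintype.card F : ℂ) = 2 * ((2 : ℂ) ^ m) ^ 2 := by
  rw [SzField.card_eq (F := F) (m := m), ← pow_mul]
  push_cast
  ring

/-- An irreducible character of `U` above a central character. -/
theorem exists_phi (hL : IsTrace m L) :
    ∃ φ : ↥(U (F := F) m) → ℂ, ∃ ω : ℂ,
      IsIrrCharacter (U m : Subgroup (Cfsg.Sz F m)) φ ∧ ω * ω = -(((2 : ℂ) ^ m) ^ 2) ∧ conj ω = -ω ∧
      (∀ b, φ (uE m 0 b) = sgn (L b) * (2 : ℂ) ^ m) ∧ (∀ b, φ (uE m 1 b) = sgn (L b) * ω) ∧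
      ∀ a b, a ≠ 0 → a ≠ 1 → φ (uE m a b) = 0 := by
  classical
  let Z := Subgroup.center (U m : Subgroup (Cfsg.Sz F m))
  have : Fintype Z := Fintype.ofFinite _
  let κ : Z → ℂ := fun g => (centreHom m L g : ℂ)
  have hκ : IsCharacter Z κ := isCharacter_hom _
  have hne : indFun Z κ ≠ 0 := fun h => by
    have := congrFun h 1
    rw [indFun_one] at this
    simp [κ, Subgroup.index_ne_zero_of_finite] at this
  obtain ⟨φ, hφ⟩ := exists_constituent (IsChar.ind Z hκ) hne
  rw [classInner_indFun_left _ _ _ (CharBasic.IsIrr.isClassFunction φ.2)] at hφ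
  obtain ⟨d, hd0, hd⟩ := CharBasic.IsIrr.exists_degree φ.2
  obtain ⟨n, ρ, hρ, hρφ⟩ := φ.2
  -- central elements act by scalars
  have hscal : ∀ T : Module.End ℂ (Fin n → ℂ), (∀ g, T * ρ g = ρ g * T) →
      ∃ c : ℂ, T = c • LinearMap.id := fun T hT => schur_scalar ρ T hT
  have hc : ∀ b, ∃ c : ℂ, ρ (uE m 0 b) = c • LinearMap.id := fun b => hscal _ fun g => by
    have hz : uE m (0 : F) b ∈ Z := (mem_center_U m).mpr ⟨b, rfl⟩
    rw [← map_mul, ← map_mul, Subgroup.mem_center_iff.mp hz g]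
  choose c hc using hc
  have hmul : ∀ (g : (U m : Subgroup (Cfsg.Sz F m))) (x : ℂ), ρ g = x • LinearMap.id →
      ∀ k, φ.1 (g * k) = x * φ.1 k := by
    intro g x hx k
    rw [← hρφ]
    simp only [Representation.character, map_mul, hx]
    rw [show (x • LinearMap.id : Module.End ℂ (Fin n → ℂ)) * ρ k = x • ρ k by ext; simp, map_smul, smul_eq_mul]
  have hcd : ∀ b, φ.1 (uE m 0 b) = c b * d := fun b => by
    rw [← hd, ← hmul _ _ (hc b) 1, mul_one]
  have hcmul : ∀ b e, c (b + e) = c b * c e := by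
    intro b e
    have h := hcd (b + e)
    rw [show uE m (0 : F) (b + e) = uE m 0 b * uE m 0 e by simp [uE_mul], hmul _ _ (hc b), hcd] at h
    have hd' : (d : ℂ) ≠ 0 := by exact_mod_cast hd0.ne'
    exact mul_right_cancel₀ hd' (by rw [← h]; ring)
  have hsum : ∑ b, sgn (L b) * conj (c b) ≠ 0 := by
    intro h
    apply hφ
    rw [classInner]
    have e : (∑ g : Z, κ g * conj (φ.1 g)) = ∑ b, κ ⟨uE m 0 b, (mem_center_U m).mpr ⟨b, rfl⟩⟩ *
        conj (φ.1 (uE m 0 b)) := by
      refine (Fintype.sum_bijective (fun b : F => (⟨uE m 0 b, (mem_center_U m).mpr ⟨b, rfl⟩⟩ : Z))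
        ⟨fun b e h => ((uE_inj m).mp (congrArg Subtype.val h)).2, ?_⟩ _ _ fun b => rfl).symm
      rintro ⟨g, hg⟩
      obtain ⟨b, hb⟩ := (mem_center_U m).mp hg
      exact ⟨b, Subtype.ext (Subtype.ext hb.symm)⟩
    rw [e]
    simp only [κ, centreHom, MonoidHom.coe_mk, OneHom.coe_mk, coE_symm_uE, Units.val_mk0, hcd, map_mul,
      Complex.conj_natCast, ← mul_assoc, ← Finset.sum_mul, h, zero_mul, mul_zero]
  have hcsgn : ∀ b, c b = sgn (L b) := by
    intro b
    by_contra hne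
    apply hsum
    have h1 : ∑ e, sgn (L e) * conj (c e) = (sgn (L b) * conj (c b)) * ∑ e, sgn (L e) * conj (c e) := by
      conv_lhs => rw [← Equiv.sum_comp (Equiv.addLeft b)]
      rw [Finset.mul_sum]
      refine Finset.sum_congr rfl fun e _ => ?_
      simp only [Equiv.coe_addLeft, map_add, sgn_add, hcmul, map_mul]
      ring
    by_contra hS
    have h2 := congrArg conj ((mul_eq_right₀ hS).mp h1.symm)
    simp only [map_mul, conj_sgn, Complex.conj_conj, map_one] at h2
    exact hne (by rw [← one_mul (c b), ← sgn_sq (L b), mul_assoc, h2, mul_one])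
  have hZ : ∀ a b, φ.1 (uE m a b) = sgn (L b) * φ.1 (uE m a 0) := by
    intro a b
    rw [← hcsgn, ← hmul _ _ (hc b)]
    congr 1
    simp [uE_mul]
  have hoff : ∀ a b, a ≠ 0 → a ≠ 1 → φ.1 (uE m a b) = 0 := by
    intro a b h0 h1
    obtain ⟨e, he⟩ := th_swap m hL h0 h1
    have hk : uE m e 0 * uE m a b * (uE m e 0)⁻¹ = uE m 0 (th m e * a + th m a * e) * uE m a b := by
      apply Subtype.ext
      show u m e 0 * u m a b * (u m e 0)⁻¹ = u m 0 (th m e * a + th m a * e) * u m a b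
      rw [u_conj, u_mul, u_inj]
      simp [add_comm]
    have h := CharBasic.IsIrr.isClassFunction φ.2 (uE m a b) (uE m e 0)
    rw [hk, hmul _ _ (hc _), hcsgn, add_comm, he, sgn_one] at h
    linear_combination (-1 / 2 : ℂ) * h
  -- the coset of `u(1,0)` acts by scalars modulo the kernel
  have hker : ∀ e, L e = 0 → ρ (uE m 0 e) = 1 := fun e he => by
    rw [hc e, hcsgn, he, sgn_zero, one_smul]; rfl
  obtain ⟨ζ, hζ⟩ := hscal (ρ (uE m 1 0)) fun g => by
    obtain ⟨a, b, rfl⟩ := exists_uE m g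
    have hk : uE m 1 0 * uE m a b = uE m 0 (th m a + a) * (uE m a b * uE m 1 0) := by
      simp only [uE_mul, uE_inj, th_one, th_zero]
      refine ⟨by ring, ?_⟩
      linear_combination (-(th m a)) * two_eq_zero (F := F) m
    rw [← map_mul, ← map_mul, hk, map_mul, hker _ (by rw [map_add, hL.th_eq, ← two_mul]; exact mul_eq_zero_of_left (by decide) _), one_mul]
  have hω : φ.1 (uE m 1 0) = ζ * d := by rw [← hd, ← hmul _ _ hζ 1, mul_one]
  have hζ2 : ζ * ζ = -1 := by
    have h := hcd 1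
    rw [hcsgn, hL.one, sgn_one, show uE m (0 : F) 1 = uE m 1 0 * uE m 1 0 by
      simp [uE_mul, add_self m], hmul _ _ hζ, hω, ← mul_assoc] at h
    exact mul_right_cancel₀ (by exact_mod_cast hd0.ne') h
  have hφ0 : φ.1 (uE m 0 0) = d := by
    rw [← hd, show uE m (0 : F) 0 = 1 from Subtype.ext (u_zero m)]
  have hζc : ζ * conj ζ = 1 := by
    have h := congrArg (fun z : ℂ => ‖z‖) hζ2
    simp only [norm_mul, norm_neg, norm_one] at h
    rw [Complex.mul_conj']
    exact_mod_cast (show ‖ζ‖ ^ 2 = 1 by rw [sq]; exact h)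
  have hnorm : (2 : ℂ) * (d : ℂ) ^ 2 = Fintype.card F := by
    have h := classInner_irr_self φ.2
    rw [classInner_U, Finset.sum_eq_add (0 : F) 1 zero_ne_one ?_ (by simp) (by simp)] at h
    · have hv0 : ∀ b, φ.1 (uE m 0 b) = sgn (L b) * d := fun b => by rw [hZ, hφ0]
      have hv1 : ∀ b, φ.1 (uE m 1 b) = sgn (L b) * (ζ * d) := fun b => by rw [hZ, hω]
      simp only [hv0, hv1, map_mul, conj_sgn, Complex.conj_natCast] at h
      have e1 : ∀ b, sgn (L b) * (d : ℂ) * (sgn (L b) * d) = (d : ℂ) ^ 2 := fun b => by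
        linear_combination (d : ℂ) ^ 2 * sgn_sq (L b)
      have e2 : ∀ b, sgn (L b) * (ζ * d) * (sgn (L b) * (conj ζ * d)) = (d : ℂ) ^ 2 := fun b => by
        linear_combination (d : ℂ) ^ 2 * ζ * conj ζ * sgn_sq (L b) + (d : ℂ) ^ 2 * hζc
      simp only [e1, e2, Finset.sum_const, Finset.card_univ, nsmul_eq_mul] at h
      have hq : (Fintype.card F : ℂ) ≠ 0 := by exact_mod_cast Fintype.card_ne_zero
      field_simp at h
      linear_combination h
    · intro a _ ha
      exact Finset.sum_eq_zero fun b _ => by rw [hoff a b ha.1 ha.2, zero_mul]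
  have hdm : d = 2 ^ m := by
    have h' : ((2 * d ^ 2 : ℕ) : ℂ) = ((2 * (2 ^ m) ^ 2 : ℕ) : ℂ) := by
      push_cast
      rw [hnorm, card_eq_sq m]
    have h2 : d ^ 2 = (2 ^ m) ^ 2 := by
      have : 2 * d ^ 2 = 2 * (2 ^ m) ^ 2 := by exact_mod_cast h'
      omega
    exact Nat.pow_left_injective two_ne_zero h2
  refine ⟨φ.1, ζ * d, φ.2, ?_, ?_, fun b => ?_, fun b => ?_, hoff⟩
  · rw [hdm]; push_cast
    linear_combination ((2 : ℂ) ^ m) ^ 2 * hζ2
  · rw [map_mul, Complex.conj_natCast]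
    linear_combination (conj ζ * d) * hζ2 - (ζ * d) * hζc
  · rw [hZ, hφ0, hdm]; push_cast; rfl
  · rw [hZ, hω]

/-- The integers of a character with no `U`-fixed vectors. -/
theorem cuspidal_values [Fintype (Cfsg.Sz F m)] {χ : Cfsg.Sz F m → ℂ}
    (hχ : IsCharacter (Cfsg.Sz F m) χ) (h0 : ∑ a : F, ∑ b : F, χ (u m a b) = 0) :
    ∃ A b : ℕ, ∃ c : ℤ, ∃ k : ℕ, (b : ℤ) = 2 * k + c ∧
      χ 1 = ((Fintype.card F : ℂ) - 1) * (A + (2 : ℂ) ^ m * b) ∧
      χ (u m 0 1) = ((Fintype.card F : ℂ) - 1) * A - (2 : ℂ) ^ m * b ∧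
      χ (u m 1 0) + χ (u m 1 0)⁻¹ = -2 * (A : ℂ) ∧
      χ (u m 1 0) * χ (u m 1 0)⁻¹ = (A : ℂ) ^ 2 + ((2 : ℂ) ^ m) ^ 2 * (c : ℂ) ^ 2 := by
  obtain ⟨L, hL⟩ := exists_trace (F := F) m
  obtain ⟨φ, ω, hφ, hω, hωc, hφ0, hφ1, hφa⟩ := exists_phi m hL
  have hcl := CharBasic.IsChar.isClassFunction hχ
  have hres := IsChar.res hχ (U m)
  obtain ⟨A, hA⟩ := classInner_isChar_nat hres (isCharacter_hom (traceHom m L))
  obtain ⟨N₁, hN₁⟩ := classInner_isChar_nat hres (CharBasic.IsIrr.isCharacter hφ)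
  obtain ⟨N₂, hN₂⟩ := classInner_isChar_nat hres (IsChar.conj (CharBasic.IsIrr.isCharacter hφ))
  set q : ℂ := (Fintype.card F : ℂ) with hqdef
  set r : ℂ := (2 : ℂ) ^ m with hrdef
  have hq : q = 2 * r ^ 2 := card_eq_sq m
  have hr : r ≠ 0 := pow_ne_zero _ (by norm_num)
  set x := χ 1
  set z := χ (u m 0 1)
  set v := χ (u m 1 0)
  set v' := χ (u m 1 0)⁻¹
  -- sums over cosets
  have hS : ∀ a : F, a ≠ 0 → ∑ b, χ (u m a b) = q / 2 * (v + v') := fun a ha => by
    linear_combination (1 / 2 : ℂ) * sum_coset m hcl ha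
  have hsplit : ∀ f : F → ℂ, ∑ a, f a * ∑ b, χ (u m a b) =
      f 0 * (x + (q - 1) * z) + (∑ a, f a - f 0) * (q / 2 * (v + v')) := by
    intro f
    have h : ∀ a, f a * ∑ b, χ (u m a b) = f a * (q / 2 * (v + v')) +
        if a = 0 then f 0 * (x + (q - 1) * z - q / 2 * (v + v')) else 0 := by
      intro a
      split_ifs with ha
      · subst ha; rw [sum_centre_one m hcl]; ring
      · rw [hS a ha, add_zero]
    rw [Finset.sum_congr rfl fun a _ => h a, Finset.sum_add_distrib, ← Finset.sum_mul,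
      Finset.sum_ite_eq', if_pos (Finset.mem_univ _)]
    ring
  have e0 : x + (q - 1) * z + (q - 1) * (q / 2 * (v + v')) = 0 := by
    have h := hsplit fun _ => 1
    simp only [one_mul] at h
    rw [h0, Finset.sum_const, Finset.card_univ, nsmul_eq_mul, mul_one] at h
    exact h.symm
  have eA : q ^ 2 * A = x + (q - 1) * z - q / 2 * (v + v') := by
    have h := hsplit fun a => sgn (L a)
    rw [sum_sgn_trace m hL, map_zero, sgn_zero, one_mul] at h
    rw [← hA, classInner_U]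
    simp only [traceHom, MonoidHom.coe_mk, OneHom.coe_mk, coE_symm_uE, Units.val_mk0, conj_sgn]
    have hq0 : q ≠ 0 := by rw [hq]; simp [hr]
    rw [← mul_assoc, mul_one_div, div_self (pow_ne_zero 2 hq0), one_mul]
    have e : ∀ a : F, ∑ b, χ (u m a b) * sgn (L a) = sgn (L a) * ∑ b, χ (u m a b) := fun a => by
      rw [← Finset.sum_mul, mul_comm]
    simp only [uE, e, h]
    ring
  have eN : ∀ (ψ : ↥(U (F := F) m) → ℂ) (ω' : ℂ) (N : ℕ),
      (∀ b, conj (ψ (uE m 0 b)) = sgn (L b) * r) → (∀ b, conj (ψ (uE m 1 b)) = sgn (L b) * ω') →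
      (∀ a b, a ≠ 0 → a ≠ 1 → conj (ψ (uE m a b)) = 0) →
      classInner (fun g : (U m : Subgroup (Cfsg.Sz F m)) => χ g) ψ = N →
      q ^ 2 * N = r * (x - z) + ω' * (q / 2 * (v - v')) := by
    intro ψ ω' N h0' h1' ha' hN
    have hq0 : q ≠ 0 := by rw [hq]; simp [hr]
    rw [← hN, classInner_U, ← mul_assoc, mul_one_div, div_self (pow_ne_zero 2 hq0), one_mul,
      Finset.sum_eq_add (0 : F) 1 zero_ne_one
        (fun a _ ha => Finset.sum_eq_zero fun b _ => by rw [ha' a b ha.1 ha.2, mul_zero]) (by simp) (by simp)]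
    simp only [h0', h1']
    simp only [uE]
    have hb1 : ∀ b, χ (u m 1 b) = if L b = 0 then v else v' := by
      intro b
      rcases zmod_two_cases (L b) with h | h
      · rw [if_pos h]
        obtain ⟨c, hc⟩ := isConj_iff.mp (isConj_u1_of_trace_zero m hL h)
        rw [← hc, hcl]
      · rw [if_neg (by rw [h]; decide)]
        obtain ⟨c, hc⟩ := isConj_iff.mp (isConj_u1_of_trace_one m hL h)
        rw [← hc, hcl]
    have s0 : ∑ b, χ (u m 0 b) * (sgn (L b) * r) = r * (x - z) := by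
      rw [← sum_centre m hL hcl, Finset.mul_sum]
      exact Finset.sum_congr rfl fun b _ => by ring
    have s1 : ∑ b, χ (u m 1 b) * (sgn (L b) * ω') = ω' * (q / 2 * (v - v')) := by
      have h := sum_comp_trace m hL (fun w => (if w = 0 then v else v') * (sgn w * ω'))
      simp only [hb1]
      simp only [sgn_zero, sgn_one, if_true, show (1 : ZMod 2) ≠ 0 by decide, if_false] at h
      linear_combination (1 / 2 : ℂ) * h
    rw [s0, s1]
  have e1 := eN φ (-ω) N₁ (fun b => by rw [hφ0, map_mul, conj_sgn, map_pow, map_ofNat])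
    (fun b => by rw [hφ1, map_mul, conj_sgn, hωc]) (fun a b h h' => by rw [hφa a b h h', map_zero]) hN₁
  have e2 := eN (fun g => conj (φ g)) ω N₂ (fun b => by rw [Complex.conj_conj, hφ0])
    (fun b => by rw [Complex.conj_conj, hφ1]) (fun a b h h' => by rw [Complex.conj_conj, hφa a b h h']) hN₂
  have hq0 : q ≠ 0 := by rw [hq]; simp [hr]
  have h4 : v + v' = -2 * (A : ℂ) := by
    apply mul_left_cancel₀ (pow_ne_zero 2 hq0)
    linear_combination 2 * eA + 2 * e0
  have hsum2 : x + (q - 1) * z = (q - 1) * q * A := by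
    linear_combination e0 - ((q - 1) * q / 2) * h4
  have hsum : x - z = q * r * ((N₁ : ℂ) + N₂) := by
    apply mul_left_cancel₀ (mul_ne_zero two_ne_zero hr)
    linear_combination -e1 - e2 + q * ((N₁ : ℂ) + N₂) * hq
  refine ⟨A, N₁ + N₂, (N₁ : ℤ) - N₂, N₂, by push_cast; ring, ?_, ?_, h4, ?_⟩
  all_goals push_cast
  · apply mul_left_cancel₀ hq0
    linear_combination hsum2 + (q - 1) * hsum
  · apply mul_left_cancel₀ hq0
    linear_combination hsum2 - hsum
  · have h3 : q * ((N₁ : ℂ) - N₂) = -ω * (v - v') := by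
      apply mul_left_cancel₀ hq0
      linear_combination e1 - e2
    have h5 : r ^ 2 * ((v - v') ^ 2 + 4 * r ^ 2 * ((N₁ : ℂ) - N₂) ^ 2) = 0 := by
      linear_combination (q * ((N₁ : ℂ) - N₂) + -ω * (v - v')) * h3 + (v - v') ^ 2 * hω -
        (q + 2 * r ^ 2) * ((N₁ : ℂ) - N₂) ^ 2 * hq
    have h6 := (mul_eq_zero.mp h5).resolve_left (pow_ne_zero 2 hr)
    linear_combination (1 / 4 : ℂ) * (v + v' - 2 * (A : ℂ)) * h4 - (1 / 4 : ℂ) * h6

end sums

end Cfsg.Agent.Suzuki
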