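import Cfsg.Agent.Suzuki.Torus

/-!
Counting the fixed-point-free elements, and the two orders of their centralisers.
-/

set_option autoImplicit false

open Cfsg MulAction
open scoped Pointwise

namespace Cfsg.Agent.Suzuki

variable {F : Type*} [Field F] [Fintype F] (m : ℕ) [SzField F m]

theorem card_pair_stabilizer {p p' : suzukiOvoid F m} (h : p ≠ p') :
    Nat.card {g : Cfsg.Sz F m // g • p = p ∧ g • p' = p'} = Nat.card F - 1 := by
  have h2 := two_pretransitive (F := F) m
  rw [is_two_pretransitive_iff] at h2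
  obtain ⟨j, hj1, hj2⟩ := h2 h (oPt_ne_oInf m (0 : F) 0).symm
  rw [← card_T m]
  have e1 : j⁻¹ • (oInf m : suzukiOvoid F m) = p := inv_smul_eq_iff.mpr hj1.symm
  have e2 : j⁻¹ • oPt m (0 : F) 0 = p' := inv_smul_eq_iff.mpr hj2.symm
  refine Nat.card_congr ((MulAut.conj j).toEquiv.subtypeEquiv (fun g => ?_))
  show _ ↔ j * g * j⁻¹ ∈ T m
  constructor
  · rintro ⟨hp, hp'⟩
    obtain ⟨s, hs⟩ := exists_t_of_fixed m (g := j * g * j⁻¹)
      (by rw [mul_smul, mul_smul, e1, hp, hj1]) (by rw [mul_smul, mul_smul, e2, hp', hj2])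
    exact hs ▸ t_mem_T m s
  · intro hg
    obtain ⟨s, hs⟩ := (mem_T m).mp hg
    have hg' : g = j⁻¹ * t m s * j := by rw [← hs]; group
    subst hg'
    constructor
    · rw [mul_smul, mul_smul, hj1, t_smul_oInf, e1]
    · rw [mul_smul, mul_smul, hj2, t_smul_oPt]
      simpa using e2

section burnside

variable {G α : Type*} [Group G] [MulAction G α] [Fintype G] [Fintype α] [DecidableEq α]

theorem sum_card_fixed :
    ∑ g : G, (Finset.univ.filter (fun p : α => g • p = p)).card =
      ∑ p : α, Nat.card (stabilizer G p) := by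
  classical
  simp_rw [Finset.card_filter]
  rw [Finset.sum_comm]
  refine Finset.sum_congr rfl (fun p _ => ?_)
  rw [← Finset.card_filter, ← Fintype.card_subtype, Nat.card_eq_fintype_card]
  rfl

theorem sum_sq_card_fixed :
    ∑ g : G, (Finset.univ.filter (fun p : α => g • p = p)).card ^ 2 =
      ∑ x : α × α, Nat.card {g : G // g • x.1 = x.1 ∧ g • x.2 = x.2} := by
  classical
  calc ∑ g : G, (Finset.univ.filter (fun p : α => g • p = p)).card ^ 2
      = ∑ g : G, (Finset.univ.filter (fun x : α × α => g • x.1 = x.1 ∧ g • x.2 = x.2)).card := by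
        refine Finset.sum_congr rfl (fun g _ => ?_)
        rw [sq, ← Finset.card_product]
        congr 1
        ext x
        simp
    _ = _ := by
        simp_rw [Finset.card_filter]
        rw [Finset.sum_comm]
        refine Finset.sum_congr rfl (fun x _ => ?_)
        rw [← Finset.card_filter, ← Fintype.card_subtype, Nat.card_eq_fintype_card]

end burnside

theorem card_fixFree : 2 * Nat.card {g : Cfsg.Sz F m // FixFree m g} =
    Nat.card F ^ 3 * (Nat.card F - 1) ^ 2 := by
  classical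
  have : Fintype (suzukiOvoid F m) := Fintype.ofFinite _
  have : Fintype (Cfsg.Sz F m) := Fintype.ofFinite _
  set f : Cfsg.Sz F m → ℕ :=
    fun g => (Finset.univ.filter (fun p : suzukiOvoid F m => g • p = p)).card with hf
  obtain ⟨q, hq⟩ : ∃ q, Nat.card F = q + 1 := ⟨Nat.card F - 1, by have : 0 < Nat.card F := Nat.card_pos; omega⟩
  have hΩ : Fintype.card (suzukiOvoid F m) = Nat.card F ^ 2 + 1 := by
    rw [← Nat.card_eq_fintype_card, card_ovoid]
  have hG : (Finset.univ : Finset (Cfsg.Sz F m)).card =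
      Nat.card F ^ 2 * (Nat.card F - 1) * (Nat.card F ^ 2 + 1) := by
    rw [Finset.card_univ, ← Nat.card_eq_fintype_card, card_Sz]
  have hle : ∀ g : Cfsg.Sz F m, g ≠ 1 → f g ≤ 2 := by
    intro g hg
    by_contra hlt
    obtain ⟨a, b, c, ha, hb, hc, hab, hac, hbc⟩ := Finset.two_lt_card_iff.mp (not_le.mp hlt)
    simp only [Finset.mem_filter, Finset.mem_univ, true_and] at ha hb hc
    exact hg (eq_one_of_three_fixed m hab hbc hac ha hb hc)
  have h1 : f 1 = Nat.card F ^ 2 + 1 := by
    simp [hf, hΩ]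
  have key : ∀ g, g ≠ 1 → (f g) ^ 2 + 2 = 3 * f g + 2 * (if FixFree m g then 1 else 0) := by
    intro g hg
    have hff : FixFree m g ↔ f g = 0 := by
      simp [hf, FixFree, Finset.card_eq_zero, Finset.filter_eq_empty_iff]
    by_cases h : FixFree m g
    · simp [h, hff.mp h]
    · have := hle g hg
      have h0 : f g ≠ 0 := fun h' => h (hff.mpr h')
      simp only [h, if_false]
      interval_cases f g <;> first | rfl | omega
  have hsum1 : ∑ g, f g = (Nat.card F ^ 2 + 1) * (Nat.card F ^ 2 * (Nat.card F - 1)) := by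
    rw [sum_card_fixed (G := Cfsg.Sz F m) (α := suzukiOvoid F m)]
    have e : ∀ p : suzukiOvoid F m, Nat.card (stabilizer (Cfsg.Sz F m) p) =
        Nat.card F ^ 2 * (Nat.card F - 1) := by
      intro p
      obtain ⟨k, hk⟩ := exists_smul_eq (Cfsg.Sz F m) (oInf m : suzukiOvoid F m) p
      rw [← hk, stabilizer_smul_eq_stabilizer_map_conj, ← card_B m]
      exact (Nat.card_congr ((B m : Subgroup (Cfsg.Sz F m)).equivMapOfInjective _
        (MulAut.conj k).injective).toEquiv).symm
    rw [Finset.sum_congr rfl (fun p _ => e p), Finset.sum_const, Finset.card_univ, hΩ, smul_eq_mul]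
  have hsum2 : ∑ g, f g ^ 2 = (Nat.card F ^ 2 + 1) * (Nat.card F ^ 2 * (Nat.card F - 1)) +
      (Nat.card F ^ 2 + 1) * (Nat.card F ^ 2 * (Nat.card F - 1)) := by
    rw [sum_sq_card_fixed (G := Cfsg.Sz F m) (α := suzukiOvoid F m), ← Finset.univ_product_univ,
      Finset.sum_product]
    have e : ∀ p : suzukiOvoid F m,
        ∑ p' : suzukiOvoid F m, Nat.card {g : Cfsg.Sz F m // g • p = p ∧ g • p' = p'} =
          Nat.card F ^ 2 * (Nat.card F - 1) + Nat.card F ^ 2 * (Nat.card F - 1) := by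
      intro p
      rw [← Finset.add_sum_erase _ _ (Finset.mem_univ p)]
      congr 1
      · obtain ⟨k, hk⟩ := exists_smul_eq (Cfsg.Sz F m) p (oInf m : suzukiOvoid F m)
        rw [← card_B m]
        refine Nat.card_congr ((MulAut.conj k).toEquiv.subtypeEquiv (fun g => ?_))
        show _ ↔ (k * g * k⁻¹) • oInf m = oInf m
        rw [mul_smul, mul_smul, inv_smul_eq_iff.mpr hk.symm, ← hk]
        constructor
        · intro h; rw [h.1]
        · intro h; exact ⟨smul_left_cancel k h, smul_left_cancel k h⟩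
      · rw [Finset.sum_congr rfl (fun p' hp' =>
          card_pair_stabilizer m (Finset.ne_of_mem_erase hp').symm), Finset.sum_const,
          Finset.card_erase_of_mem (Finset.mem_univ p), Finset.card_univ, hΩ, smul_eq_mul]
        simp
    rw [Finset.sum_congr rfl (fun p _ => e p), Finset.sum_const, Finset.card_univ, hΩ, smul_eq_mul,
      mul_add]
  have hsum3 : ∑ g ∈ Finset.univ.erase (1 : Cfsg.Sz F m), ((f g) ^ 2 + 2) =
      ∑ g ∈ Finset.univ.erase (1 : Cfsg.Sz F m), (3 * f g + 2 * (if FixFree m g then 1 else 0)) :=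
    Finset.sum_congr rfl (fun g hg => key g (Finset.ne_of_mem_erase hg))
  rw [Finset.sum_add_distrib, Finset.sum_add_distrib, ← Finset.mul_sum, ← Finset.mul_sum,
    Finset.sum_const, Finset.card_erase_of_mem (Finset.mem_univ _), hG, smul_eq_mul] at hsum3
  have hfree : ∑ g ∈ Finset.univ.erase (1 : Cfsg.Sz F m), (if FixFree m g then 1 else 0) =
      Nat.card {g : Cfsg.Sz F m // FixFree m g} := by
    rw [Finset.sum_boole, Nat.card_eq_fintype_card, Fintype.card_subtype, Nat.cast_id]
    congr 1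
    ext g
    simp only [Finset.mem_filter, Finset.mem_erase, Finset.mem_univ, and_true, true_and]
    exact ⟨fun h => h.2, fun h => ⟨fixFree_ne_one m h, h⟩⟩
  rw [hfree] at hsum3
  have e1 := Finset.add_sum_erase Finset.univ f (Finset.mem_univ (1 : Cfsg.Sz F m))
  have e2 := Finset.add_sum_erase Finset.univ (fun g => f g ^ 2) (Finset.mem_univ (1 : Cfsg.Sz F m))
  simp only [h1] at e1 e2
  rw [hsum1] at e1
  rw [hsum2] at e2
  rw [hq] at e1 e2 hsum3 ⊢
  simp only [Nat.add_sub_cancel] at e1 e2 hsum3 ⊢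
  have hpos : 1 ≤ (q + 1) ^ 2 * q * ((q + 1) ^ 2 + 1) := by
    have h8 := eight_le_card (F := F) m
    rw [← Nat.card_eq_fintype_card, hq] at h8
    have : 1 ≤ q := by omega
    exact Nat.one_le_iff_ne_zero.mpr (by positivity)
  zify [hpos] at e1 e2 hsum3 ⊢
  linarith

include m in
theorem orders_arith {S : Finset ℕ} {c : ℕ → ℕ} (hc : ∀ a ∈ S, c a = 1 ∨ c a = 2 ∨ c a = 4)
    (h5 : ∀ a ∈ S, 5 ≤ a) (hprod : ∏ a ∈ S, a = Nat.card F ^ 2 + 1)
    (hsum : ∑ a ∈ S, (c a : ℚ) * (1 - 1 / (a : ℚ)) =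
      2 * (Nat.card F : ℚ) * ((Nat.card F : ℚ) - 1) / ((Nat.card F : ℚ) ^ 2 + 1)) :
    ∃ a b, a ≠ b ∧ S = {a, b} ∧ c a = 1 ∧ c b = 1 ∧
      a = 2 ^ (2 * m + 1) + 2 ^ (m + 1) + 1 ∧ b = 2 ^ (2 * m + 1) - 2 ^ (m + 1) + 1 := by
  classical
  have h8 := eight_le_card (F := F) m
  rw [← Nat.card_eq_fintype_card] at h8
  set q := Nat.card F with hq
  have hq8 : (8 : ℚ) ≤ q := by exact_mod_cast h8
  have hlt : ∑ a ∈ S, (c a : ℚ) * (1 - 1 / (a : ℚ)) < 2 := by
    rw [hsum, div_lt_iff₀ (by positivity)]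
    nlinarith
  have hge : ∑ a ∈ S, (c a : ℚ) * (4 / 5) ≤ ∑ a ∈ S, (c a : ℚ) * (1 - 1 / (a : ℚ)) := by
    refine Finset.sum_le_sum (fun a ha => mul_le_mul_of_nonneg_left ?_ (by positivity))
    have : (5 : ℚ) ≤ a := by exact_mod_cast h5 a ha
    have : 1 / (a : ℚ) ≤ 1 / 5 := by gcongr
    linarith
  have hC : ∑ a ∈ S, c a ≤ 2 := by
    rw [← Finset.sum_mul] at hge
    have : (∑ a ∈ S, c a : ℕ) < (3 : ℕ) := by
      have h : ((∑ a ∈ S, c a : ℕ) : ℚ) < 3 := by push_cast; linarith
      exact_mod_cast h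
    omega
  have hc1 : ∀ a ∈ S, 1 ≤ c a := fun a ha => by rcases hc a ha with h | h | h <;> omega
  have hS2 : S.card ≤ 2 := by
    have := Finset.card_nsmul_le_sum S (fun a => c a) 1 hc1
    simp at this
    omega
  rcases Nat.lt_or_ge S.card 2 with hlt1 | hge2
  · exfalso
    rcases Nat.lt_or_ge S.card 1 with h0 | h1
    · rw [Finset.card_eq_zero.mp (by omega : S.card = 0), Finset.prod_empty] at hprod
      nlinarith
    · obtain ⟨a, rfl⟩ := Finset.card_eq_one.mp (by omega : S.card = 1)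
      rw [Finset.prod_singleton] at hprod
      subst hprod
      rw [Finset.sum_singleton] at hsum hC
      push_cast at hsum
      have hne : (q : ℚ) ^ 2 + 1 ≠ 0 := by positivity
      have e : (c (q ^ 2 + 1) : ℚ) * (q : ℚ) ^ 2 = 2 * q * (q - 1) := by
        field_simp at hsum
        linear_combination hsum
      rcases hc (q ^ 2 + 1) (Finset.mem_singleton_self _) with h | h | h
      · rw [h, Nat.cast_one] at e; nlinarith
      · rw [h, Nat.cast_ofNat] at e; nlinarith
      · omega
  · obtain ⟨a, b, hab, rfl⟩ := Finset.card_eq_two.mp (le_antisymm hS2 hge2)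
    rw [Finset.sum_pair hab] at hC hsum
    rw [Finset.prod_pair hab] at hprod
    have ha5 : 5 ≤ a := h5 a (by simp)
    have hb5 : 5 ≤ b := h5 b (by simp)
    have hca := hc1 a (by simp)
    have hcb := hc1 b (by simp)
    have hca1 : c a = 1 := by omega
    have hcb1 : c b = 1 := by omega
    have hab' : (a : ℚ) * b = (q : ℚ) ^ 2 + 1 := by exact_mod_cast hprod
    have ha0 : (a : ℚ) ≠ 0 := by positivity
    have hb0 : (b : ℚ) ≠ 0 := by positivity
    rw [hca1, hcb1, ← hab'] at hsum
    push_cast at hsum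
    field_simp at hsum
    have hs : (a : ℚ) + b = 2 * q + 2 := by linear_combination 2 * hab' - hsum
    have hs' : a + b = 2 * q + 2 := by exact_mod_cast hs
    set r := 2 ^ (m + 1) with hr
    have hrr : r * r = 2 * q := by rw [hr, hq, card_nat (F := F) m]; ring
    have hrle : r ≤ q := by
      rw [hr, hq, card_nat (F := F) m]
      exact Nat.pow_le_pow_right (by norm_num) (by omega)
    have hq' : 2 ^ (2 * m + 1) = q := (card_nat (F := F) m).symm
    have h0 : ((a : ℤ) - (q + r + 1)) * ((a : ℤ) - (q - r + 1)) = 0 := by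
      have e1 : (a : ℤ) + b = 2 * q + 2 := by exact_mod_cast hs'
      have e2 : (a : ℤ) * b = (q : ℤ) ^ 2 + 1 := by exact_mod_cast hprod
      have e3 : (r : ℤ) * r = 2 * q := by exact_mod_cast hrr
      linear_combination (a : ℤ) * e1 - e2 - e3
    rw [hq']
    rcases mul_eq_zero.mp h0 with h | h
    · have : a = q + r + 1 := by omega
      exact ⟨a, b, hab, rfl, hca1, hcb1, this, by omega⟩
    · have : a = q - r + 1 := by omega
      exact ⟨b, a, hab.symm, Finset.pair_comm a b, hcb1, hca1, by omega, this⟩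

end Cfsg.Agent.Suzuki
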