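import Mathlib

/-!
Fields with `2^(2m+1)` elements and the endomorphism `th x = x^(2^(m+1))`, whose square is squaring.
-/

set_option autoImplicit false

namespace Cfsg.Agent.Suzuki

/-- The field `F` has `2^(2m+1)` elements and `m ≥ 1`. -/
class SzField (F : Type*) [Field F] [Fintype F] (m : ℕ) : Prop where
  card_eq : Fintype.card F = 2 ^ (2 * m + 1)
  pos : 1 ≤ m

/-- The map `x ↦ x^(2^(m+1))`. -/
def th {F : Type*} [Field F] (m : ℕ) (x : F) : F := x ^ (2 ^ (m + 1))

section general

variable {F : Type*} [Field F] (m : ℕ)

theorem th_def (x : F) : th m x = x ^ (2 ^ (m + 1)) := rfl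
@[simp] theorem th_zero : th m (0 : F) = 0 := by simp [th]
@[simp] theorem th_one : th m (1 : F) = 1 := by simp [th]
theorem th_mul (x y : F) : th m (x * y) = th m x * th m y := mul_pow x y _
theorem th_inv (x : F) : th m x⁻¹ = (th m x)⁻¹ := inv_pow x _
theorem th_pow (x : F) (k : ℕ) : th m (x ^ k) = th m x ^ k := pow_right_comm _ _ _
@[simp] theorem th_eq_zero {x : F} : th m x = 0 ↔ x = 0 := by simp [th]

end general

section field

variable {F : Type*} [Field F] [Fintype F] (m : ℕ) [hS : SzField F m]

include m in
theorem card_nat : Nat.card F = 2 ^ (2 * m + 1) := by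
  rw [Nat.card_eq_fintype_card, hS.card_eq]

include m in
theorem eight_le_card : 8 ≤ Fintype.card F := by
  rw [hS.card_eq]
  calc (8 : ℕ) = 2 ^ 3 := rfl
    _ ≤ 2 ^ (2 * m + 1) := Nat.pow_le_pow_right (by norm_num) (by have := hS.pos; omega)

include m in
theorem charTwo : CharP F 2 := by
  have : Fact (Nat.Prime 2) := ⟨Nat.prime_two⟩
  exact charP_of_card_eq_prime_pow hS.card_eq

include m in
theorem add_self (x : F) : x + x = 0 := by
  have := charTwo (F := F) m
  exact CharTwo.add_self_eq_zero x

include m in
theorem two_eq_zero : (2 : F) = 0 := by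
  have := charTwo (F := F) m
  exact CharTwo.two_eq_zero

include m in
theorem neg_eq (x : F) : -x = x := by
  have := charTwo (F := F) m
  exact CharTwo.neg_eq x

include m in
theorem sub_eq (x y : F) : x - y = x + y := by rw [sub_eq_add_neg, neg_eq m]

include m in
theorem eq_of_add_eq_zero {x y : F} (h : x + y = 0) : x = y := by
  have := eq_neg_of_add_eq_zero_left h
  rwa [neg_eq m] at this

theorem th_add (x y : F) : th m (x + y) = th m x + th m y := by
  have := charTwo (F := F) m
  have : Fact (Nat.Prime 2) := ⟨Nat.prime_two⟩
  exact add_pow_char_pow x y 2 (m + 1)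

theorem th_th (x : F) : th m (th m x) = x ^ 2 := by
  rw [th, th, ← pow_mul, ← pow_add]
  rw [show 2 ^ (m + 1 + (m + 1)) = Fintype.card F * 2 by rw [hS.card_eq]; ring, pow_mul,
    FiniteField.pow_card]

theorem th_neg (x : F) : th m (-x) = -th m x := by rw [neg_eq m, neg_eq m]

/-- `th` as a ring endomorphism. -/
def thHom : F →+* F where
  toFun := th m
  map_one' := th_one m
  map_mul' := th_mul m
  map_zero' := th_zero m
  map_add' := th_add m

@[simp] theorem thHom_apply (x : F) : thHom m x = th m x := rfl

theorem th_injective : Function.Injective (th m : F → F) := (thHom (F := F) m).injective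

theorem th_bijective : Function.Bijective (th m : F → F) :=
  Finite.injective_iff_bijective.mp (th_injective m)

@[simp] theorem th_eq_one {x : F} : th m x = 1 ↔ x = 1 :=
  ⟨fun h => th_injective m (by rw [h, th_one]), fun h => by rw [h, th_one]⟩

include m in
theorem sq_injective : Function.Injective (fun x : F => x ^ 2) := by
  have := charTwo (F := F) m
  exact CharTwo.sq_injective

include m in
theorem eq_one_of_sq {x : F} (h : x ^ 2 = 1) : x = 1 :=
  sq_injective (F := F) m (by simpa using h)

theorem th_eq_self {x : F} (h : th m x = x) : x = 0 ∨ x = 1 := by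
  have h2 := th_th m x
  rw [h, h] at h2
  rcases eq_or_ne x 0 with h0 | h0
  · exact Or.inl h0
  · exact Or.inr (mul_right_cancel₀ h0 (by rw [one_mul, ← sq]; exact h2.symm))

theorem eq_one_of_th_mul {x : F} (h : th m x * x = 1) : x = 1 := by
  have h1 := congrArg (th m) h
  rw [th_mul, th_th, th_one] at h1
  have hx : x ≠ 0 := by rintro rfl; simp at h
  have h3 : th m x * x * x = th m x * x := by linear_combination h1 - h
  rw [h, one_mul] at h3
  exact h3

theorem eq_one_of_sq_mul_th {x : F} (h : x ^ 2 * th m x = 1) : x = 1 := by
  have h1 := congrArg (th m) h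
  rw [th_mul, th_pow, th_th, th_one] at h1
  refine eq_one_of_th_mul m (eq_one_of_sq m ?_)
  linear_combination h1

/-- The norm-like map `a ↦ a · th a` used for the centre of the Sylow 2-subgroup is injective. -/
theorem mul_th_injective : Function.Injective (fun x : F => x * th m x) := by
  intro x y h
  dsimp at h
  rcases eq_or_ne y 0 with hy | hy
  · subst hy
    simpa using h
  · have hty : th m y ≠ 0 := by simpa
    have : th m (x / y) * (x / y) = 1 := by
      rw [div_eq_mul_inv, th_mul, th_inv]
      field_simp
      linear_combination h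
    have := eq_one_of_th_mul m this
    rwa [div_eq_one_iff_eq hy] at this

theorem mul_th_bijective : Function.Bijective (fun x : F => x * th m x) :=
  Finite.injective_iff_bijective.mp (mul_th_injective m)

theorem sq_mul_th_injective : Function.Injective (fun x : F => x ^ 2 * th m x) := by
  intro x y h
  dsimp at h
  rcases eq_or_ne y 0 with hy | hy
  · subst hy
    simpa using h
  · have hty : th m y ≠ 0 := by simpa
    have : (x / y) ^ 2 * th m (x / y) = 1 := by
      rw [div_eq_mul_inv, th_mul, th_inv]
      field_simp
      linear_combination h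
    have := eq_one_of_sq_mul_th m this
    rwa [div_eq_one_iff_eq hy] at this

theorem sq_mul_th_bijective : Function.Bijective (fun x : F => x ^ 2 * th m x) :=
  Finite.injective_iff_bijective.mp (sq_mul_th_injective m)

include m in
theorem odd_card_units : Odd (Nat.card Fˣ) := by
  rw [Nat.card_units, card_nat m]
  exact Nat.Even.sub_odd Nat.one_le_two_pow
    ((Nat.even_pow.mpr ⟨even_two, by omega⟩)) odd_one

include m in
theorem exists_ne_zero_one : ∃ x : F, x ≠ 0 ∧ x ≠ 1 := by
  classical
  by_contra h
  push Not at h
  have h' : (Finset.univ : Finset F) ⊆ {0, 1} := fun x _ => by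
    by_cases hx : x = 0 <;> simp [hx, h x]
  have h1 := Finset.card_le_card h'
  rw [Finset.card_univ] at h1
  have h2 := eight_le_card (F := F) m
  have h3 := Finset.card_le_two (a := (0 : F)) (b := 1)
  omega

end field

end Cfsg.Agent.Suzuki
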