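import Cfsg.Agent.Suzuki.Normalizer

/-!
Fixed points of elements of the Suzuki group, centralisers and TI properties of `U` and `T`,
orders of the fixed-point-free elements.
-/

set_option autoImplicit false

open Cfsg MulAction
open scoped Pointwise

namespace Cfsg.Agent.Suzuki

variable {F : Type*} [Field F]

/-- An element fixing no point of the ovoid. -/
def FixFree (m : ℕ) (g : Cfsg.Sz F m) : Prop := ∀ p : suzukiOvoid F m, g • p ≠ p

variable [Fintype F] (m : ℕ) [SzField F m]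

theorem U_fixed {g : Cfsg.Sz F m} (hg : g ∈ U m) (hg1 : g ≠ 1) {p : suzukiOvoid F m}
    (hp : g • p = p) : p = oInf m := by
  obtain ⟨a, b, rfl⟩ := (mem_U m).mp hg
  rcases ovoid_cases p with h | ⟨x, y, rfl⟩
  · exact h
  · exfalso
    rw [u_smul_oPt, oPt_inj] at hp
    have ha : a = 0 := by linear_combination hp.1
    subst ha
    have hb : b = 0 := by
      have := hp.2
      simp only [th_zero, zero_mul, add_zero] at this
      linear_combination this
    subst hb
    exact hg1 (u_zero m)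

theorem T_fixed {g : Cfsg.Sz F m} (hg : g ∈ T m) (hg1 : g ≠ 1) {p : suzukiOvoid F m}
    (hp : g • p = p) : p = oInf m ∨ p = oPt m 0 0 := by
  obtain ⟨s, rfl⟩ := (mem_T m).mp hg
  rcases ovoid_cases p with h | ⟨x, y, rfl⟩
  · exact Or.inl h
  · by_cases hxy : x ≠ 0 ∨ y ≠ 0
    · exact absurd (by rw [t_eq_one_of_fix m hxy hp, map_one]) hg1
    · push Not at hxy
      obtain ⟨rfl, rfl⟩ := hxy
      exact Or.inr rfl

theorem t_ne_one {s : Fˣ} : t m s ≠ (1 : Cfsg.Sz F m) ↔ s ≠ 1 := by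
  rw [ne_eq, ne_eq, ← (t m).map_one, (t_injective m).eq_iff]

theorem exists_second_fixed {g : Cfsg.Sz F m} (hg : g ∈ B m) (hgU : g ∉ U m) :
    ∃ p : suzukiOvoid F m, p ≠ oInf m ∧ g • p = p := by
  obtain ⟨a, b, s, rfl⟩ := exists_u_t_of_fix_oInf m hg
  have hs : s ≠ 1 := by
    rintro rfl
    rw [map_one, mul_one] at hgU
    exact hgU (u_mem_U m a b)
  have h1 : th m (s : F) + 1 ≠ 0 := fun h =>
    hs (Units.ext ((th_eq_one m).mp (eq_of_add_eq_zero m h)))
  have h2 : (s : F) ^ 2 * th m (s : F) + 1 ≠ 0 := fun h =>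
    hs (Units.ext (eq_one_of_sq_mul_th m (eq_of_add_eq_zero m h)))
  set x := a / (th m (s : F) + 1) with hx
  set y := (b + th m a * (th m (s : F) * x)) / ((s : F) ^ 2 * th m (s : F) + 1) with hy
  refine ⟨oPt m x y, oPt_ne_oInf m x y, ?_⟩
  have ex : x * (th m (s : F) + 1) = a := div_mul_cancel₀ a h1
  have ey : y * ((s : F) ^ 2 * th m (s : F) + 1) = b + th m a * (th m (s : F) * x) :=
    div_mul_cancel₀ _ h2
  rw [mul_smul, t_smul_oPt, u_smul_oPt, oPt_inj]
  constructor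
  · linear_combination (norm := char_two_ring (m)) ex
  · linear_combination (norm := char_two_ring (m)) ey

theorem not_fixFree_of_mem_B {g : Cfsg.Sz F m} (hg : g ∈ B m) : ¬ FixFree m g :=
  fun h => h (oInf m) hg

theorem exists_conj_U_or_T {g : Cfsg.Sz F m} (hg : ¬ FixFree m g) :
    (∃ k, k * g * k⁻¹ ∈ U m) ∨ (∃ k, k * g * k⁻¹ ∈ T m) := by
  simp only [FixFree, ne_eq, not_forall, not_not] at hg
  obtain ⟨p, hp⟩ := hg
  obtain ⟨k, hk⟩ := exists_smul_eq (Cfsg.Sz F m) p (oInf m : suzukiOvoid F m)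
  have hB : k * g * k⁻¹ ∈ B m := by
    rw [mem_B, mul_smul, mul_smul, ← hk, inv_smul_smul, hp]
  by_cases hU : k * g * k⁻¹ ∈ U m
  · exact Or.inl ⟨k, hU⟩
  obtain ⟨p', hp'ne, hp'⟩ := exists_second_fixed m hB hU
  have h2 := two_pretransitive (F := F) m
  rw [is_two_pretransitive_iff] at h2
  obtain ⟨j, hj1, hj2⟩ := h2 hp'ne.symm (oPt_ne_oInf m (0 : F) 0).symm
  refine Or.inr ⟨j * k, ?_⟩
  obtain ⟨s, hs⟩ := exists_t_of_fixed m (g := j * (k * g * k⁻¹) * j⁻¹)
    (by rw [mul_smul, mul_smul, inv_smul_eq_iff.mpr hj1.symm, (mem_B m).mp hB, hj1])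
    (by rw [mul_smul, mul_smul, inv_smul_eq_iff.mpr hj2.symm, hp', hj2])
  rw [show j * k * g * (j * k)⁻¹ = j * (k * g * k⁻¹) * j⁻¹ by group, hs]
  exact t_mem_T m s

theorem centralizer_U_le {g : Cfsg.Sz F m} (hg : g ∈ U m) (hg1 : g ≠ 1) :
    Subgroup.centralizer {g} ≤ U m := by
  intro k hk
  rw [Subgroup.mem_centralizer_singleton_iff] at hk
  have hB : k ∈ B m := by
    refine U_fixed m hg hg1 ?_
    rw [← mul_smul, ← hk, mul_smul, U_le_B m hg]
  obtain ⟨c, d, s, rfl⟩ := exists_u_t_of_fix_oInf m hB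
  obtain ⟨a, b, rfl⟩ := (mem_U m).mp hg
  have h : u m c d * (t m s * u m a b * (t m s)⁻¹) * (u m c d)⁻¹ = u m a b := by
    rw [show u m c d * (t m s * u m a b * (t m s)⁻¹) * (u m c d)⁻¹ =
      (u m c d * t m s) * u m a b * (u m c d * t m s)⁻¹ by group, hk, mul_inv_cancel_right]
  rw [t_u, u_conj, u_inj] at h
  suffices s = 1 by rw [this, map_one, mul_one]; exact u_mem_U m c d
  by_cases ha : a = 0
  · subst ha
    have hb : b ≠ 0 := fun hb => hg1 (by rw [hb, u_zero])
    have := h.2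
    simp only [mul_zero, th_zero, zero_mul, add_zero] at this
    exact Units.ext (eq_one_of_sq_mul_th m (mul_right_cancel₀ hb (this.trans (one_mul b).symm)))
  · exact Units.ext ((th_eq_one m).mp (mul_right_cancel₀ ha (h.1.trans (one_mul a).symm)))

theorem centralizer_T_eq {g : Cfsg.Sz F m} (hg : g ∈ T m) (hg1 : g ≠ 1) :
    Subgroup.centralizer {g} = T m := by
  obtain ⟨s, rfl⟩ := (mem_T m).mp hg
  apply le_antisymm
  · intro k hk
    rw [Subgroup.mem_centralizer_singleton_iff] at hk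
    have key : ∀ p : suzukiOvoid F m, t m s • p = p → k • p = oInf m ∨ k • p = oPt m 0 0 := by
      intro p hp
      refine T_fixed m hg hg1 ?_
      rw [← mul_smul, ← hk, mul_smul, hp]
    have h0 : t m s • oPt m (0 : F) 0 = oPt m 0 0 := by simp [t_smul_oPt]
    rcases key _ (t_smul_oInf m s) with hi | hi
    · rcases key _ h0 with hz | hz
      · exact absurd (smul_left_cancel k (hz.trans hi.symm)) (oPt_ne_oInf m _ _)
      · obtain ⟨r, hr⟩ := exists_t_of_fixed m hi hz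
        exact hr ▸ t_mem_T m r
    · rcases key _ h0 with hz | hz
      · exfalso
        obtain ⟨r, hr⟩ := exists_t_of_fixed m (g := k * w m)
          (by rw [mul_smul, w_smul_oInf, hz]) (by rw [mul_smul, w_smul_zero, hi])
        have hk' : k = t m r * w m := by rw [← hr, mul_assoc, w_mul_w, mul_one]
        rw [hk', mul_assoc, ← mul_assoc (t m s)] at hk
        have h1 : w m * t m s = t m s⁻¹ * w m := by
          rw [← w_t, w_inv, mul_assoc, w_mul_w, mul_one]
        rw [h1, ← mul_assoc, ← map_mul, ← map_mul, mul_left_inj, (t_injective m).eq_iff,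
          mul_comm s r, mul_right_inj] at hk
        have h2 : (s : F) * s = 1 := by
          nth_rewrite 1 [← hk]
          simp
        exact (t_ne_one m).mp hg1 (Units.ext (eq_one_of_sq m (by rw [sq]; exact h2)))
      · exact absurd (smul_left_cancel k (hi.trans hz.symm)) (oPt_ne_oInf m _ _).symm
  · intro k hk
    obtain ⟨r, rfl⟩ := (mem_T m).mp hk
    rw [Subgroup.mem_centralizer_singleton_iff, ← map_mul, ← map_mul, mul_comm]

theorem U_TI {g k : Cfsg.Sz F m} (hk : k ∈ U m) (hk1 : k ≠ 1) (h : g * k * g⁻¹ ∈ U m) : g ∈ B m := by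
  refine U_fixed m h (by rwa [ne_eq, conj_eq_one_iff]) ?_
  rw [mul_smul, mul_smul, inv_smul_smul, U_le_B m hk]

theorem T_TI {g k : Cfsg.Sz F m} (hk : k ∈ T m) (hk1 : k ≠ 1) (h : g * k * g⁻¹ ∈ T m) :
    g ∈ T m ∨ g * w m ∈ T m := by
  have key : ∀ p : suzukiOvoid F m, k • p = p → g • p = oInf m ∨ g • p = oPt m 0 0 := by
    intro p hp
    refine T_fixed m h (by rwa [ne_eq, conj_eq_one_iff]) ?_
    rw [mul_smul, mul_smul, inv_smul_smul, hp]
  have hi0 : k • oInf m = (oInf m : suzukiOvoid F m) := T_le_B m hk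
  have hz0 : k • oPt m (0 : F) 0 = oPt m 0 0 := by
    obtain ⟨r, rfl⟩ := (mem_T m).mp hk
    simp [t_smul_oPt]
  rcases key _ hi0 with hi | hi <;> rcases key _ hz0 with hz | hz
  · exact absurd (smul_left_cancel g (hz.trans hi.symm)) (oPt_ne_oInf m _ _)
  · left
    obtain ⟨r, hr⟩ := exists_t_of_fixed m hi hz
    exact hr ▸ t_mem_T m r
  · right
    obtain ⟨r, hr⟩ := exists_t_of_fixed m (g := g * w m)
      (by rw [mul_smul, w_smul_oInf, hz]) (by rw [mul_smul, w_smul_zero, hi])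
    exact hr ▸ t_mem_T m r
  · exact absurd (smul_left_cancel g (hi.trans hz.symm)) (oPt_ne_oInf m _ _).symm

include m in
theorem coprime_parts : Nat.Coprime (Nat.card F) (Nat.card F - 1) ∧
    Nat.Coprime (Nat.card F) (Nat.card F ^ 2 + 1) ∧
    Nat.Coprime (Nat.card F - 1) (Nat.card F ^ 2 + 1) := by
  have h8 : 1 ≤ Nat.card F := Nat.card_pos
  have h2 : 2 ∣ Nat.card F := by rw [card_nat m]; exact dvd_pow_self 2 (by omega)
  refine ⟨?_, ?_, ?_⟩
  · rw [Nat.coprime_iff_gcd_eq_one, Nat.gcd_self_sub_right h8, Nat.gcd_one_right]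
  · rw [Nat.coprime_iff_gcd_eq_one, sq, Nat.gcd_comm, Nat.gcd_mul_left_add_left, Nat.gcd_one_left]
  · refine Nat.coprime_of_dvd (fun p hp h1 h2' => ?_)
    obtain ⟨c, hc⟩ := h1
    have e : Nat.card F = p * c + 1 := by omega
    have hd : p ∣ 2 := by
      rw [e, show (p * c + 1) ^ 2 + 1 = p * (c * (p * c + 2)) + 2 by ring] at h2'
      exact (Nat.dvd_add_right (dvd_mul_right _ _)).mp h2'
    have hp2 := (Nat.prime_dvd_prime_iff_eq hp Nat.prime_two).mp hd
    subst hp2
    omega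

theorem orderOf_dvd_of_not_fixFree {g : Cfsg.Sz F m} (hg : ¬ FixFree m g) :
    orderOf g ∣ Nat.card F ^ 2 ∨ orderOf g ∣ Nat.card F - 1 := by
  rcases exists_conj_U_or_T m hg with ⟨k, hk⟩ | ⟨k, hk⟩
  · left
    rw [← (MulAut.conj k).orderOf_eq g, ← card_U m]
    exact Subgroup.orderOf_dvd_natCard _ hk
  · right
    rw [← (MulAut.conj k).orderOf_eq g, ← card_T m]
    exact Subgroup.orderOf_dvd_natCard _ hk

theorem fixFree_of_orderOf_dvd {g : Cfsg.Sz F m} (hg1 : g ≠ 1)
    (h : orderOf g ∣ Nat.card F ^ 2 + 1) : FixFree m g := by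
  by_contra hg
  obtain ⟨-, c2, c3⟩ := coprime_parts (F := F) m
  apply hg1
  rw [← orderOf_eq_one_iff]
  rcases orderOf_dvd_of_not_fixFree m hg with h' | h'
  · exact Nat.eq_one_of_dvd_coprimes (c2.pow_left 2) h' h
  · exact Nat.eq_one_of_dvd_coprimes c3 h' h

theorem sq_eq_one_of_swap {g : Cfsg.Sz F m} {p q : suzukiOvoid F m} (hpq : p ≠ q)
    (h1 : g • p = q) (h2 : g • q = p) : g * g = 1 := by
  have h := two_pretransitive (F := F) m
  rw [is_two_pretransitive_iff] at h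
  obtain ⟨j, hj1, hj2⟩ := h hpq (oPt_ne_oInf m (0 : F) 0).symm
  obtain ⟨r, hr⟩ := exists_t_of_fixed m (g := j * g * j⁻¹ * w m)
    (by rw [mul_smul, w_smul_oInf, mul_smul, mul_smul, inv_smul_eq_iff.mpr hj2.symm, h2, hj1])
    (by rw [mul_smul, w_smul_zero, mul_smul, mul_smul, inv_smul_eq_iff.mpr hj1.symm, h1, hj2])
  have e : j * g * j⁻¹ = t m r * w m := by rw [← hr, mul_assoc _ (w m), w_mul_w, mul_one]
  have e2 : (t m r * w m) * (t m r * w m) = 1 := by
    have := w_t m r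
    rw [w_inv] at this
    rw [mul_assoc, ← mul_assoc (w m), this, ← map_mul, mul_inv_cancel, map_one]
  rw [← e, show j * g * j⁻¹ * (j * g * j⁻¹) = j * (g * g) * j⁻¹ by group, conj_eq_one_iff] at e2
  exact e2

theorem fixFree_pow {g : Cfsg.Sz F m} (hg : FixFree m g) {k : ℕ} (hk : g ^ k ≠ 1) :
    FixFree m (g ^ k) := by
  intro p hp
  have hgp : (g ^ k) • (g • p) = g • p := by
    rw [← mul_smul, ← pow_succ, pow_succ', mul_smul, hp]
  have hgp2 : (g ^ k) • (g • g • p) = g • g • p := by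
    rw [← mul_smul, ← pow_succ, pow_succ', mul_smul, hgp]
  have h3 : g • g • p = p := by
    by_contra hne
    exact hk (eq_one_of_three_fixed m (hg p).symm (hg (g • p)).symm (Ne.symm hne) hp hgp hgp2)
  have hsq := sq_eq_one_of_swap m (hg p).symm rfl h3
  rw [← pow_two] at hsq
  rcases Nat.even_or_odd k with ⟨j, hj⟩ | ⟨j, hj⟩
  · exact hk (by rw [hj, ← two_mul, pow_mul, hsq, one_pow])
  · rw [hj, pow_succ, pow_mul, hsq, one_pow, one_mul] at hp
    exact hg p hp

theorem fixFree_conj {g : Cfsg.Sz F m} (k : Cfsg.Sz F m) (hg : FixFree m g) :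
    FixFree m (k * g * k⁻¹) := fun p hp => hg (k⁻¹ • p) (by
      rw [mul_smul, mul_smul] at hp
      exact eq_inv_smul_iff.mpr hp)

theorem fixFree_zpow {g : Cfsg.Sz F m} (hg : FixFree m g) {x : Cfsg.Sz F m}
    (hx : x ∈ Subgroup.zpowers g) (hx1 : x ≠ 1) : FixFree m x := by
  obtain ⟨k, rfl⟩ := (mem_powers_iff_mem_zpowers (x := g)).mpr hx
  exact fixFree_pow m hg hx1

/-- A `p`-element with `p ∣ q` or `p ∣ q - 1` fixes a point. -/
theorem prime_dvd_of_fixFree {g : Cfsg.Sz F m} (hg : FixFree m g) {p : ℕ} [hp : Fact p.Prime]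
    (ho : orderOf g = p) : p ∣ Nat.card F ^ 2 + 1 := by
  have hdvd : p ∣ Nat.card (Cfsg.Sz F m) := ho ▸ orderOf_dvd_natCard g
  have hgp : IsPGroup p (Subgroup.zpowers g) :=
    IsPGroup.of_card (n := 1) (by rw [Nat.card_zpowers, ho, pow_one])
  obtain ⟨P, hP⟩ := hgp.exists_le_sylow
  by_contra hne
  have key : ∀ H : Subgroup (Cfsg.Sz F m), H ≤ B m → ¬ p ∣ H.index → False := by
    intro H hH hi
    obtain ⟨Q⟩ : Nonempty (Sylow p H) := inferInstance
    have hQG : IsPGroup p ((Q : Subgroup H).map H.subtype) := Q.2.map _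
    have hidx : ¬ p ∣ ((Q : Subgroup H).map H.subtype).index := by
      rw [Subgroup.index_map_subtype]
      exact fun h => (hp.out.dvd_mul.mp h).elim Q.not_dvd_index hi
    obtain ⟨k, hk⟩ := exists_smul_eq (Cfsg.Sz F m) P (hQG.toSylow hidx)
    have : k * g * k⁻¹ ∈ H := by
      have hmem : k * g * k⁻¹ ∈ ((k • P : Sylow p (Cfsg.Sz F m)) : Subgroup (Cfsg.Sz F m)) :=
        Subgroup.mem_map_of_mem _ (hP (Subgroup.mem_zpowers g))
      rw [hk] at hmem
      obtain ⟨x, -, hx⟩ := hmem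
      rw [← hx]
      exact x.2
    exact not_fixFree_of_mem_B m (hH this) (fixFree_conj m k hg)
  have hpos : 0 < Nat.card F := Nat.card_pos
  have hpos1 : 0 < Nat.card F - 1 := by
    have := eight_le_card (F := F) m
    rw [Nat.card_eq_fintype_card]
    omega
  obtain ⟨c1, c2, c3⟩ := coprime_parts (F := F) m
  rw [card_Sz] at hdvd
  have hU' := (U m : Subgroup (Cfsg.Sz F m)).card_mul_index
  rw [card_U, card_Sz, mul_assoc] at hU'
  have hT' := (T m : Subgroup (Cfsg.Sz F m)).card_mul_index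
  rw [card_T, card_Sz, show Nat.card F ^ 2 * (Nat.card F - 1) * (Nat.card F ^ 2 + 1) =
    (Nat.card F - 1) * (Nat.card F ^ 2 * (Nat.card F ^ 2 + 1)) by ring] at hT'
  have hU'' := Nat.eq_of_mul_eq_mul_left (by positivity) hU'
  have hT'' := Nat.eq_of_mul_eq_mul_left hpos1 hT'
  rcases hp.out.dvd_mul.mp hdvd with h | h
  · rcases hp.out.dvd_mul.mp h with h | h
    · refine key (U m) (U_le_B m) ?_
      rw [hU'']
      intro h'
      have hpq := hp.out.dvd_of_dvd_pow h
      rcases hp.out.dvd_mul.mp h' with h' | h'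
      · exact hp.out.ne_one (Nat.eq_one_of_dvd_coprimes c1 hpq h')
      · exact hne h'
    · refine key (T m) (T_le_B m) ?_
      rw [hT'']
      intro h'
      rcases hp.out.dvd_mul.mp h' with h' | h'
      · exact hp.out.ne_one (Nat.eq_one_of_dvd_coprimes c1 (hp.out.dvd_of_dvd_pow h') h)
      · exact hne h'
  · exact hne h

theorem orderOf_dvd_of_fixFree {g : Cfsg.Sz F m} (hg : FixFree m g) :
    orderOf g ∣ Nat.card F ^ 2 + 1 := by
  have hdvd : orderOf g ∣ Nat.card (Cfsg.Sz F m) := orderOf_dvd_natCard g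
  rw [card_Sz] at hdvd
  obtain ⟨c1, c2, c3⟩ := coprime_parts (F := F) m
  have hcop : Nat.Coprime (orderOf g) (Nat.card F ^ 2 * (Nat.card F - 1)) := by
    refine Nat.coprime_of_dvd (fun p hp h1 h2 => ?_)
    have := Fact.mk hp
    have ho : orderOf (g ^ (orderOf g / p)) = p :=
      orderOf_pow_orderOf_div (orderOf_pos g).ne' h1
    have hne : g ^ (orderOf g / p) ≠ 1 := fun h => hp.ne_one (by rw [← ho, h, orderOf_one])
    have h3 := prime_dvd_of_fixFree m (fixFree_pow m hg hne) ho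
    exact hp.ne_one (Nat.eq_one_of_dvd_coprimes ((c2.pow_left 2).mul_left c3) h2 h3)
  exact hcop.dvd_of_dvd_mul_left hdvd

theorem fixFree_iff {g : Cfsg.Sz F m} (hg1 : g ≠ 1) :
    FixFree m g ↔ orderOf g ∣ Nat.card F ^ 2 + 1 :=
  ⟨orderOf_dvd_of_fixFree m, fixFree_of_orderOf_dvd m hg1⟩

end Cfsg.Agent.Suzuki
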