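import Cfsg.Agent.Suzuki.Stabilizer

/-!
The Suzuki group as the stabiliser of the ovoid: action, stabilisers, order and the subgroups U, T, Z, B.
-/

set_option autoImplicit false

open Cfsg Matrix MulAction
open scoped Pointwise

namespace Cfsg.Agent.Suzuki

variable {F : Type*} [Field F]

/-- The base point at infinity, as a point of the ovoid. -/
def oInf (m : ℕ) : suzukiOvoid F m := ⟨pInf, pInf_mem m⟩

/-- The finite point with parameters `x, y`, as a point of the ovoid. -/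
def oPt (m : ℕ) (x y : F) : suzukiOvoid F m := ⟨pt m x y, pt_mem m x y⟩

theorem oPt_ne_oInf (m : ℕ) (x y : F) : oPt m x y ≠ oInf m :=
  fun h => pt_ne_pInf m x y (congrArg Subtype.val h)

theorem oPt_inj {m : ℕ} {x y x' y' : F} : oPt m x y = oPt m x' y' ↔ x = x' ∧ y = y' := by
  simp [oPt, pt_inj]

theorem ovoid_cases {m : ℕ} (p : suzukiOvoid F m) : p = oInf m ∨ ∃ x y : F, p = oPt m x y := by
  rcases mem_ovoid.mp p.2 with h | ⟨x, y, h⟩
  · exact Or.inl (Subtype.ext h)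
  · exact Or.inr ⟨x, y, Subtype.ext h⟩

/-- The ovoid is a point at infinity together with `F × F`. -/
noncomputable def ovoidEquiv (m : ℕ) : Option (F × F) ≃ suzukiOvoid F m :=
  Equiv.ofBijective (fun o => o.elim (oInf m) (fun p => oPt m p.1 p.2)) (by
    constructor
    · rintro (_ | ⟨a, b⟩) (_ | ⟨c, d⟩) h
      · rfl
      · exact absurd h.symm (oPt_ne_oInf m c d)
      · exact absurd h (oPt_ne_oInf m a b)
      · obtain ⟨rfl, rfl⟩ := oPt_inj.mp h
        rfl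
    · intro p
      rcases ovoid_cases p with rfl | ⟨x, y, rfl⟩
      · exact ⟨none, rfl⟩
      · exact ⟨some (x, y), rfl⟩)

theorem card_ovoid [Fintype F] (m : ℕ) : Nat.card (suzukiOvoid F m) = Nat.card F ^ 2 + 1 := by
  rw [← Nat.card_congr (ovoidEquiv m), Nat.card_eq_fintype_card, Nat.card_eq_fintype_card,
    Fintype.card_option, Fintype.card_prod, sq]

variable [Fintype F] (m : ℕ) [SzField F m]

/-- The element `u(a,b)` of the Suzuki group. -/
def u (a b : F) : Cfsg.Sz F m := ⟨uSL m a b, uSL_mem_Sz m a b⟩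

/-- The torus homomorphism into the Suzuki group. -/
def t : Fˣ →* Cfsg.Sz F m := (tSL m).codRestrict (Cfsg.Sz F m) (tSL_mem_Sz m)

/-- The antidiagonal involution of the Suzuki group. -/
def w : Cfsg.Sz F m := ⟨wSL, wSL_mem_Sz m⟩

theorem u_mul (a b c d : F) : u m a b * u m c d = u m (a + c) (b + d + th m a * c) :=
  Subtype.ext (uSL_mul m a b c d)

@[simp] theorem u_zero : u m (0 : F) 0 = 1 := Subtype.ext (uSL_zero m)

theorem u_inv (a b : F) : (u m a b)⁻¹ = u m a (b + th m a * a) := by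
  apply inv_eq_of_mul_eq_one_right
  rw [u_mul, add_self m a]
  have : b + (b + th m a * a) + th m a * a = 0 := by
    linear_combination (b + th m a * a) * two_eq_zero (F := F) m
  rw [this, u_zero]

theorem u_smul_oInf (a b : F) : u m a b • oInf m = (oInf m : suzukiOvoid F m) :=
  Subtype.ext (uSL_smul_pInf m a b)

theorem u_smul_oPt (a b x y : F) :
    u m a b • oPt m x y = oPt m (x + a) (y + b + th m a * x) :=
  Subtype.ext (uSL_smul_pt m a b x y)

theorem t_smul_oInf (s : Fˣ) : t m s • oInf m = (oInf m : suzukiOvoid F m) :=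
  Subtype.ext (tSL_smul_pInf m s)

theorem t_smul_oPt (s : Fˣ) (x y : F) :
    t m s • oPt m x y = oPt m (th m (s : F) * x) ((s : F) ^ 2 * th m (s : F) * y) :=
  Subtype.ext (tSL_smul_pt m s x y)

theorem w_smul_oInf : (w m : Cfsg.Sz F m) • oInf m = oPt m (0 : F) 0 := Subtype.ext (wSL_smul_pInf m)

theorem w_smul_zero : (w m : Cfsg.Sz F m) • oPt m (0 : F) 0 = oInf m := Subtype.ext (wSL_smul_pt_zero m)

theorem w_smul_oPt {x y : F} (h : x ≠ 0 ∨ y ≠ 0) :
    (w m : Cfsg.Sz F m) • oPt m x y = oPt m (y / ovf m x y) (x / ovf m x y) :=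
  Subtype.ext (wSL_smul_pt m h)

theorem w_mul_w : (w m : Cfsg.Sz F m) * w m = (1 : Cfsg.Sz F m) := Subtype.ext wSL_mul_self

theorem w_inv : (w m : Cfsg.Sz F m)⁻¹ = w m := inv_eq_of_mul_eq_one_right (w_mul_w m)

theorem w_t (s : Fˣ) : w m * t m s * (w m)⁻¹ = t m s⁻¹ := by
  rw [w_inv]; exact Subtype.ext (wSL_tSL m s)

theorem u_injective : Function.Injective (fun p : F × F => u m p.1 p.2) := by
  rintro ⟨a, b⟩ ⟨c, d⟩ h
  have := congrArg (fun g => g • oPt m (0 : F) 0) h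
  simpa [u_smul_oPt, oPt_inj] using this

theorem u_inj {a b c d : F} : u m a b = u m c d ↔ a = c ∧ b = d :=
  ⟨fun h => Prod.ext_iff.mp (u_injective m (a₁ := (a, b)) (a₂ := (c, d)) h),
    fun ⟨h1, h2⟩ => by rw [h1, h2]⟩

theorem u_eq_one {a b : F} : u m a b = 1 ↔ a = 0 ∧ b = 0 := by
  rw [← u_zero m, u_inj]

theorem t_injective : Function.Injective (t m : Fˣ → Cfsg.Sz F m) := by
  intro s s' h
  have h1 : (tSL m s : Matrix (Fin 4) (Fin 4) F) 1 1 = (tSL m s' : Matrix (Fin 4) (Fin 4) F) 1 1 :=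
    congrArg (fun g : Cfsg.Sz F m => (g.1 : Matrix (Fin 4) (Fin 4) F) 1 1) h
  exact Units.ext (by simpa [coe_tSL, tMat] using h1)

/-- An element is a torus element exactly if it fixes the two base points. -/
theorem exists_t_of_fixed {g : Cfsg.Sz F m} (h1 : g • oInf m = (oInf m : suzukiOvoid F m))
    (h2 : g • oPt m (0 : F) 0 = oPt m 0 0) : ∃ s, g = t m s := by
  obtain ⟨s, hs⟩ := exists_tSL_of_fixed m g.2 (congrArg Subtype.val h1) (congrArg Subtype.val h2)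
  exact ⟨s, Subtype.ext hs⟩

theorem t_u (s : Fˣ) (a b : F) :
    t m s * u m a b * (t m s)⁻¹ = u m (th m (s : F) * a) ((s : F) ^ 2 * th m (s : F) * b) := by
  rw [mul_inv_eq_iff_eq_mul]
  apply Subtype.ext
  apply Subtype.ext
  show tMat m s * uMat m a b = uMat m _ _ * tMat m s
  have h1 : (s : F) ≠ 0 := s.ne_zero
  have h2 : th m (s : F) ≠ 0 := by simp
  ext i j
  fin_cases i <;> fin_cases j <;>
    simp [tMat, uMat, Matrix.diagonal_mul, Matrix.mul_diagonal, ovf, th_mul, th_pow, th_th] <;>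
    field_simp

theorem exists_u_t_of_fix_oInf {g : Cfsg.Sz F m} (h : g • oInf m = (oInf m : suzukiOvoid F m)) :
    ∃ a b : F, ∃ s, g = u m a b * t m s := by
  rcases ovoid_cases (g • oPt m (0 : F) 0) with h1 | ⟨a, b, h1⟩
  · exact absurd (smul_left_cancel g (h1.trans h.symm)) (oPt_ne_oInf m _ _)
  · obtain ⟨s, hs⟩ := exists_t_of_fixed m (g := (u m a b)⁻¹ * g)
      (by rw [mul_smul, h, inv_smul_eq_iff, u_smul_oInf])
      (by rw [mul_smul, h1, inv_smul_eq_iff, u_smul_oPt]; simp)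
    exact ⟨a, b, s, by rw [← hs, mul_inv_cancel_left]⟩

theorem t_eq_one_of_fix {s : Fˣ} {x y : F} (h : x ≠ 0 ∨ y ≠ 0)
    (hf : t m s • oPt m x y = oPt m x y) : s = 1 := by
  rw [t_smul_oPt, oPt_inj] at hf
  obtain ⟨h1, h2⟩ := hf
  apply Units.ext
  rcases h with h | h
  · exact (th_eq_one m).mp (mul_right_cancel₀ h (h1.trans (one_mul x).symm))
  · exact eq_one_of_sq_mul_th m (mul_right_cancel₀ h (h2.trans (one_mul y).symm))

/-- The point stabiliser of infinity. -/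
abbrev B : Subgroup (Cfsg.Sz F m) := MulAction.stabilizer (Cfsg.Sz F m) (oInf m : suzukiOvoid F m)

theorem mem_B {g : Cfsg.Sz F m} : g ∈ B m ↔ g • oInf m = (oInf m : suzukiOvoid F m) := Iff.rfl

/-- The unipotent subgroup. -/
def U : Subgroup (Cfsg.Sz F m) where
  carrier := Set.range (fun p : F × F => u m p.1 p.2)
  mul_mem' := by
    rintro _ _ ⟨p, rfl⟩ ⟨q, rfl⟩
    exact ⟨(_, _), (u_mul m p.1 p.2 q.1 q.2).symm⟩
  one_mem' := ⟨(0, 0), u_zero m⟩
  inv_mem' := by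
    rintro _ ⟨p, rfl⟩
    exact ⟨(p.1, p.2 + th m p.1 * p.1), (u_inv m p.1 p.2).symm⟩

theorem mem_U {g : Cfsg.Sz F m} : g ∈ U m ↔ ∃ a b : F, g = u m a b :=
  ⟨fun ⟨p, hp⟩ => ⟨p.1, p.2, hp.symm⟩, fun ⟨a, b, h⟩ => ⟨(a, b), h.symm⟩⟩

theorem u_mem_U (a b : F) : u m a b ∈ U m := (mem_U m).mpr ⟨a, b, rfl⟩

/-- The torus. -/
def T : Subgroup (Cfsg.Sz F m) := (t m : Fˣ →* Cfsg.Sz F m).range

theorem mem_T {g : Cfsg.Sz F m} : g ∈ T m ↔ ∃ s : Fˣ, g = t m s :=
  ⟨fun ⟨s, hs⟩ => ⟨s, hs.symm⟩, fun ⟨s, hs⟩ => ⟨s, hs.symm⟩⟩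

theorem t_mem_T (s : Fˣ) : t m s ∈ T m := (mem_T m).mpr ⟨s, rfl⟩

theorem U_le_B : U m ≤ (B m : Subgroup (Cfsg.Sz F m)) := by
  intro g hg
  obtain ⟨a, b, rfl⟩ := (mem_U m).mp hg
  exact u_smul_oInf m a b

theorem T_le_B : T m ≤ (B m : Subgroup (Cfsg.Sz F m)) := by
  intro g hg
  obtain ⟨s, rfl⟩ := (mem_T m).mp hg
  exact t_smul_oInf m s

theorem B_le_normalizer_U : (B m : Subgroup (Cfsg.Sz F m)) ≤
    Subgroup.normalizer ((U m : Subgroup (Cfsg.Sz F m)) : Set (Cfsg.Sz F m)) := by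
  have key : ∀ g ∈ (B m : Subgroup (Cfsg.Sz F m)), ∀ x ∈ U m, g * x * g⁻¹ ∈ U m := by
    intro g hg x hx
    obtain ⟨a, b, s, rfl⟩ := exists_u_t_of_fix_oInf m hg
    obtain ⟨c, d, rfl⟩ := (mem_U m).mp hx
    rw [show u m a b * t m s * u m c d * (u m a b * t m s)⁻¹ =
      u m a b * (t m s * u m c d * (t m s)⁻¹) * (u m a b)⁻¹ by group, t_u]
    exact mul_mem (mul_mem (u_mem_U m _ _) (u_mem_U m _ _)) (inv_mem (u_mem_U m _ _))
  intro g hg
  rw [Subgroup.mem_normalizer_iff]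
  intro x
  refine ⟨key g hg x, fun hx => ?_⟩
  have := key g⁻¹ (inv_mem hg) _ hx
  simpa [mul_assoc] using this

theorem card_U : Nat.card (U m : Subgroup (Cfsg.Sz F m)) = Nat.card F ^ 2 := by
  rw [show Nat.card (U m : Subgroup (Cfsg.Sz F m)) =
    Nat.card (Set.range (fun p : F × F => u m p.1 p.2)) from rfl,
    Nat.card_range_of_injective (u_injective m), Nat.card_prod, sq]

theorem card_T : Nat.card (T m : Subgroup (Cfsg.Sz F m)) = Nat.card F - 1 := by
  rw [← Nat.card_units]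
  exact (Nat.card_congr (MonoidHom.ofInjective (t_injective (F := F) m)).toEquiv).symm

instance isPretransitive : IsPretransitive (Cfsg.Sz F m) (suzukiOvoid F m) := by
  refine (isPretransitive_iff_base (oInf m : suzukiOvoid F m)).mpr (fun p => ?_)
  rcases ovoid_cases p with rfl | ⟨x, y, rfl⟩
  · exact ⟨1, one_smul _ _⟩
  · refine ⟨u m x y * w m, ?_⟩
    rw [mul_smul, w_smul_oInf, u_smul_oPt]
    simp

theorem two_pretransitive : IsMultiplyPretransitive (Cfsg.Sz F m) (suzukiOvoid F m) 2 := by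
  rw [is_two_pretransitive_iff]
  have key : ∀ p q : suzukiOvoid F m, p ≠ q →
      ∃ g : Cfsg.Sz F m, g • oInf m = p ∧ g • oPt m (0 : F) 0 = q := by
    intro p q hpq
    obtain ⟨g, hg⟩ := exists_smul_eq (Cfsg.Sz F m) (oInf m : suzukiOvoid F m) p
    rcases ovoid_cases (g⁻¹ • q) with h | ⟨x, y, h⟩
    · rw [inv_smul_eq_iff, hg] at h
      exact absurd h.symm hpq
    · refine ⟨g * u m x y, by rw [mul_smul, u_smul_oInf, hg], ?_⟩
      rw [mul_smul, u_smul_oPt, ← (inv_smul_eq_iff.mp h).symm]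
      simp
  intro a b c d hab hcd
  obtain ⟨g, hg1, hg2⟩ := key a b hab
  obtain ⟨k, hk1, hk2⟩ := key c d hcd
  exact ⟨k * g⁻¹, by rw [mul_smul, ← hg1, inv_smul_smul, hk1],
    by rw [mul_smul, ← hg2, inv_smul_smul, hk2]⟩

/-- No non-identity element fixes three points. -/
theorem eq_one_of_three_fixed {g : Cfsg.Sz F m} {a b c : suzukiOvoid F m} (hab : a ≠ b) (hbc : b ≠ c)
    (hac : a ≠ c) (ha : g • a = a) (hb : g • b = b) (hc : g • c = c) : g = 1 := by
  have h2 := two_pretransitive (F := F) m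
  rw [is_two_pretransitive_iff] at h2
  obtain ⟨k, hk1, hk2⟩ := h2 hab (oPt_ne_oInf m (0 : F) 0).symm
  set h := k * g * k⁻¹ with hh
  have h1 : h • oInf m = (oInf m : suzukiOvoid F m) := by
    rw [hh, mul_smul, mul_smul, ← hk1, inv_smul_smul, ha]
  have h0 : h • oPt m (0 : F) 0 = oPt m 0 0 := by
    rw [hh, mul_smul, mul_smul, ← hk2, inv_smul_smul, hb]
  have h3 : h • (k • c) = k • c := by
    rw [hh, mul_smul, mul_smul, inv_smul_smul, hc]
  obtain ⟨s, hs⟩ := exists_t_of_fixed m h1 h0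
  rcases ovoid_cases (k • c) with hkc | ⟨x, y, hkc⟩
  · exact absurd (smul_left_cancel k (hkc.trans hk1.symm)) hac.symm
  · have hxy : x ≠ 0 ∨ y ≠ 0 := by
      by_contra hne
      push Not at hne
      obtain ⟨rfl, rfl⟩ := hne
      exact hbc.symm (smul_left_cancel k (hkc.trans hk2.symm))
    rw [hkc, hs] at h3
    rw [t_eq_one_of_fix m hxy h3, map_one] at hs
    rwa [conj_eq_one_iff] at hs

instance faithful : FaithfulSMul (Cfsg.Sz F m) (suzukiOvoid F m) := by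
  refine ⟨fun {g k} h => ?_⟩
  have h' : ∀ p : suzukiOvoid F m, (k⁻¹ * g) • p = p := fun p => by
    rw [mul_smul, h, inv_smul_smul]
  have := eq_one_of_three_fixed m (a := oInf m) (b := oPt m (0 : F) 0) (c := oPt m (1 : F) 0)
    (oPt_ne_oInf m _ _).symm (by simp [oPt_inj]) (oPt_ne_oInf m _ _).symm (h' _) (h' _) (h' _)
  exact (inv_mul_eq_one.mp this).symm

theorem card_B : Nat.card (B m : Subgroup (Cfsg.Sz F m)) = Nat.card F ^ 2 * (Nat.card F - 1) := by
  rw [← card_U m, ← card_T m, ← Nat.card_prod]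
  refine (Nat.card_congr (Equiv.ofBijective
    (fun p : ↥(U (F := F) m) × ↥(T (F := F) m) =>
      (⟨p.1.1 * p.2.1, mul_mem (U_le_B m p.1.2) (T_le_B m p.2.2)⟩ :
        (B m : Subgroup (Cfsg.Sz F m)))) ⟨?_, ?_⟩)).symm
  · rintro ⟨⟨a, ha⟩, b, hb⟩ ⟨⟨c, hc⟩, d, hd⟩ h
    have h' : a * b = c * d := congrArg Subtype.val h
    obtain ⟨a1, a2, rfl⟩ := (mem_U m).mp ha
    obtain ⟨c1, c2, rfl⟩ := (mem_U m).mp hc
    obtain ⟨s, rfl⟩ := (mem_T m).mp hb
    obtain ⟨s', rfl⟩ := (mem_T m).mp hd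
    have hp := congrArg (fun g => g • oPt m (0 : F) 0) h'
    simp [mul_smul, t_smul_oPt, u_smul_oPt, oPt_inj] at hp
    obtain ⟨rfl, rfl⟩ := hp
    simp only [mul_right_inj] at h'
    simp [h']
  · rintro ⟨g, hg⟩
    obtain ⟨a, b, s, rfl⟩ := exists_u_t_of_fix_oInf m hg
    exact ⟨(⟨_, u_mem_U m a b⟩, ⟨_, t_mem_T m s⟩), rfl⟩

theorem index_B : (B m : Subgroup (Cfsg.Sz F m)).index = Nat.card F ^ 2 + 1 := by
  rw [index_stabilizer_of_transitive, card_ovoid]

theorem card_Sz : Nat.card (Cfsg.Sz F m) =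
    Nat.card F ^ 2 * (Nat.card F - 1) * (Nat.card F ^ 2 + 1) := by
  rw [← (B m : Subgroup (Cfsg.Sz F m)).card_mul_index, card_B, index_B]

end Cfsg.Agent.Suzuki
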