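import Cfsg.Agent.Suzuki.Field
import Cfsg.Prelude.Def_LieExceptional

/-!
The root elements, torus elements and the antidiagonal element of the Suzuki group in SL₄,
and their action on the Suzuki-Tits ovoid.
-/

set_option autoImplicit false

open Cfsg Matrix

namespace Cfsg.Agent.Suzuki

variable {F : Type*} [Field F]

/-- The first coordinate of the ovoid point with parameters `x, y`. -/
def ovf (m : ℕ) (x y : F) : F := x * y + x ^ 2 * th m x + th m y

/-- The unipotent element with parameters `a, b`, as a matrix. -/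
def uMat (m : ℕ) (a b : F) : Matrix (Fin 4) (Fin 4) F :=
  !![1, a, b + a * th m a, ovf m a b; 0, 1, th m a, b; 0, 0, 1, a; 0, 0, 0, 1]

theorem det_uMat (m : ℕ) (a b : F) : (uMat m a b).det = 1 := by
  rw [Matrix.det_of_isUpperTriangular]
  · simp [Fin.prod_univ_four, uMat]
  · intro i j h
    fin_cases i <;> fin_cases j <;> simp [uMat] at h ⊢

/-- The unipotent element with parameters `a, b`. -/
def uSL (m : ℕ) (a b : F) : Matrix.SpecialLinearGroup (Fin 4) F := ⟨uMat m a b, det_uMat m a b⟩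

/-- The torus element with parameter `s`, as a matrix. -/
def tMat (m : ℕ) (s : Fˣ) : Matrix (Fin 4) (Fin 4) F :=
  Matrix.diagonal ![(s : F) * th m (s : F), s, (s : F)⁻¹, ((s : F) * th m (s : F))⁻¹]

theorem det_tMat (m : ℕ) (s : Fˣ) : (tMat m s).det = 1 := by
  have h1 : (s : F) ≠ 0 := s.ne_zero
  have h2 : th m (s : F) ≠ 0 := by simp
  simp only [tMat, Matrix.det_diagonal, Fin.prod_univ_four]
  simp
  field_simp

/-- The torus element with parameter `s`. -/
def tSL (m : ℕ) : Fˣ →* Matrix.SpecialLinearGroup (Fin 4) F where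
  toFun s := ⟨tMat m s, det_tMat m s⟩
  map_one' := by
    ext i j
    fin_cases i <;> fin_cases j <;> simp [tMat]
  map_mul' s t := by
    ext i j
    change tMat m (s * t) i j = (tMat m s * tMat m t) i j
    rw [tMat, tMat, tMat, Matrix.diagonal_mul_diagonal]
    fin_cases i <;> fin_cases j <;> simp [th_mul] <;> ring

theorem coe_tSL (m : ℕ) (s : Fˣ) :
    (tSL m s : Matrix (Fin 4) (Fin 4) F) = tMat m s := rfl

theorem coe_uSL (m : ℕ) (a b : F) :
    (uSL m a b : Matrix (Fin 4) (Fin 4) F) = uMat m a b := rfl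

/-- The antidiagonal element. -/
def wSL : Matrix.SpecialLinearGroup (Fin 4) F :=
  ⟨!![0, 0, 0, 1; 0, 0, 1, 0; 0, 1, 0, 0; 1, 0, 0, 0], by
    simp [Matrix.det_succ_row_zero, Fin.sum_univ_succ, Fin.succAbove] <;> norm_num⟩

theorem coe_wSL :
    ((wSL : Matrix.SpecialLinearGroup (Fin 4) F) : Matrix (Fin 4) (Fin 4) F) =
      !![0, 0, 0, 1; 0, 0, 1, 0; 0, 1, 0, 0; 1, 0, 0, 0] := rfl

theorem wSL_mul_self : (wSL : Matrix.SpecialLinearGroup (Fin 4) F) * wSL = 1 := by
  ext i j
  fin_cases i <;> fin_cases j <;> simp [coe_wSL, Matrix.mul_apply, Fin.sum_univ_four]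

theorem wSL_inv : (wSL : Matrix.SpecialLinearGroup (Fin 4) F)⁻¹ = wSL :=
  inv_eq_of_mul_eq_one_right wSL_mul_self

theorem wSL_tSL (m : ℕ) (s : Fˣ) : wSL * tSL m s * wSL = tSL m s⁻¹ := by
  ext i j
  simp only [Matrix.SpecialLinearGroup.coe_mul, coe_tSL]
  fin_cases i <;> fin_cases j <;>
    simp [coe_wSL, tMat, Matrix.mul_apply, Fin.sum_univ_four, Matrix.diagonal_apply,
      Matrix.vecHead, Matrix.vecTail, Matrix.vecMul, dotProduct, th_inv, mul_comm]

/-- The point at infinity of the ovoid. -/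
abbrev pInf : Projectivization F (Fin 4 → F) := suzukiPointInfinity F

/-- The finite ovoid point with parameters `x, y`. -/
def pt (m : ℕ) (x y : F) : Projectivization F (Fin 4 → F) :=
  Projectivization.mk F ![ovf m x y, y, x, 1] (fun h => by simpa using congrFun h 3)

theorem ovf_eq (m : ℕ) (x y : F) :
    ovf m x y = x * y + x ^ (2 ^ (m + 1) + 2) + y ^ (2 ^ (m + 1)) := by
  simp only [ovf, th, pow_add]
  ring

theorem mem_ovoid {m : ℕ} {p : Projectivization F (Fin 4 → F)} :
    p ∈ suzukiOvoid F m ↔ p = pInf ∨ ∃ x y : F, p = pt m x y := by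
  constructor
  · rintro ⟨v, hv, rfl, h | ⟨x, y, h⟩⟩
    · left; subst h; rfl
    · right; refine ⟨x, y, ?_⟩; subst h; simp [pt, ovf_eq]
  · rintro (rfl | ⟨x, y, rfl⟩)
    · exact ⟨_, _, rfl, Or.inl rfl⟩
    · exact ⟨_, _, rfl, Or.inr ⟨x, y, by rw [ovf_eq]⟩⟩

theorem pInf_mem (m : ℕ) : (pInf : Projectivization F (Fin 4 → F)) ∈ suzukiOvoid F m :=
  mem_ovoid.mpr (Or.inl rfl)

theorem pt_mem (m : ℕ) (x y : F) : pt m x y ∈ suzukiOvoid F m :=
  mem_ovoid.mpr (Or.inr ⟨x, y, rfl⟩)

theorem pt_ne_pInf (m : ℕ) (x y : F) : pt m x y ≠ pInf := by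
  intro h
  rw [pt, pInf, suzukiPointInfinity, Projectivization.mk_eq_mk_iff'] at h
  obtain ⟨c, hc⟩ := h
  simpa using congrFun hc 3

theorem pt_inj {m : ℕ} {x y x' y' : F} : pt m x y = pt m x' y' ↔ x = x' ∧ y = y' := by
  refine ⟨fun h => ?_, by rintro ⟨rfl, rfl⟩; rfl⟩
  rw [pt, pt, Projectivization.mk_eq_mk_iff'] at h
  obtain ⟨c, hc⟩ := h
  have h3 : c = 1 := by simpa using congrFun hc 3
  subst h3
  exact ⟨by simpa using (congrFun hc 2).symm, by simpa using (congrFun hc 1).symm⟩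

theorem pointZero_eq (m : ℕ) : suzukiPointZero F = pt m 0 0 := by
  rw [suzukiPointZero, pt, Projectivization.mk_eq_mk_iff']
  exact ⟨1, by simp [ovf]⟩

theorem smul_mk_of_mulVec {g : Matrix.SpecialLinearGroup (Fin 4) F} {v w : Fin 4 → F}
    (hv : v ≠ 0) (hw : w ≠ 0) (c : F) (h : (g : Matrix (Fin 4) (Fin 4) F) *ᵥ v = c • w) :
    g • Projectivization.mk F v hv = Projectivization.mk F w hw := by
  rw [Projectivization.smul_mk, Projectivization.mk_eq_mk_iff']
  exact ⟨c, h.symm⟩

theorem uSL_smul_pInf (m : ℕ) (a b : F) : uSL m a b • (pInf : Projectivization F (Fin 4 → F)) = pInf := by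
  refine smul_mk_of_mulVec _ _ 1 ?_
  funext i
  fin_cases i <;> simp [coe_uSL, uMat, dotProduct, Matrix.mulVec, Fin.sum_univ_four]

theorem tSL_smul_pInf (m : ℕ) (s : Fˣ) : tSL m s • (pInf : Projectivization F (Fin 4 → F)) = pInf := by
  refine smul_mk_of_mulVec _ _ ((s : F) * th m (s : F)) ?_
  funext i
  fin_cases i <;> simp [coe_tSL, tMat, Matrix.mulVec_diagonal]

theorem wSL_smul_pInf (m : ℕ) :
    (wSL : Matrix.SpecialLinearGroup (Fin 4) F) • (pInf : Projectivization F (Fin 4 → F)) = pt m (0 : F) 0 := by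
  refine smul_mk_of_mulVec _ _ 1 ?_
  funext i
  fin_cases i <;> simp [coe_wSL, ovf, dotProduct, Matrix.mulVec, Fin.sum_univ_four]

variable [Fintype F] (m : ℕ) [SzField F m]

include m in
theorem three_eq_one : (3 : F) = 1 := by linear_combination two_eq_zero (F := F) m

include m in
theorem four_eq_zero : (4 : F) = 0 := by linear_combination 2 * two_eq_zero (F := F) m

/-- Normalisation of ring expressions in characteristic two. -/
macro "char_two_ring" "(" m:term ")" : tactic => `(tactic| (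
  (try ring_nf)
  <;> (try simp [two_eq_zero $m, three_eq_one $m, four_eq_zero $m])
  <;> (try ring_nf)))

theorem uSL_mul (a b c d : F) :
    uSL m a b * uSL m c d = uSL m (a + c) (b + d + th m a * c) := by
  have h2 := two_eq_zero (F := F) m
  ext i j
  simp only [Matrix.SpecialLinearGroup.coe_mul, coe_uSL]
  fin_cases i <;> fin_cases j <;>
    simp [uMat, ovf, Matrix.mul_apply, Fin.sum_univ_four, th_add, th_mul, th_th]
  all_goals char_two_ring (m)

theorem uSL_zero : uSL m (0 : F) 0 = 1 := by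
  ext i j
  fin_cases i <;> fin_cases j <;> simp [coe_uSL, uMat, ovf]

theorem uSL_smul_pt (a b x y : F) :
    uSL m a b • pt m x y = pt m (x + a) (y + b + th m a * x) := by
  have h2 := two_eq_zero (F := F) m
  refine smul_mk_of_mulVec _ _ 1 ?_
  funext i
  fin_cases i <;> simp [coe_uSL, uMat, ovf, dotProduct, Matrix.mulVec, Fin.sum_univ_four,
    th_add, th_mul, th_th] <;> char_two_ring (m)

theorem tSL_smul_pt (s : Fˣ) (x y : F) :
    tSL m s • pt m x y = pt m (th m (s : F) * x) ((s : F) ^ 2 * th m (s : F) * y) := by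
  have h1 : (s : F) ≠ 0 := s.ne_zero
  have h2 : th m (s : F) ≠ 0 := by simp
  refine smul_mk_of_mulVec _ _ ((s : F) * th m (s : F))⁻¹ ?_
  funext i
  fin_cases i <;> simp [coe_tSL, tMat, Matrix.mulVec_diagonal, ovf, th_mul, th_pow, th_th] <;>
    field_simp

theorem ovf_key (x y : F) :
    ovf m x y * th m (ovf m x y) + x * y * th m (ovf m x y) +
      (th m x * (ovf m x y) ^ 2 + th m y * y ^ 2) = 0 := by
  simp only [ovf, th_add, th_mul, th_pow, th_th]
  char_two_ring (m)

theorem ovf_eq_zero {x y : F} : ovf m x y = 0 ↔ x = 0 ∧ y = 0 := by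
  refine ⟨fun h => ?_, by rintro ⟨rfl, rfl⟩; simp [ovf]⟩
  have h1 := ovf_key m x y
  rw [h] at h1
  simp at h1 ⊢
  have hy : y = 0 := by
    simpa using h1
  subst hy
  simp [ovf] at h
  exact ⟨h, rfl⟩

theorem wSL_smul_pt {x y : F} (h : x ≠ 0 ∨ y ≠ 0) :
    (wSL : Matrix.SpecialLinearGroup (Fin 4) F) • pt m x y = pt m (y / ovf m x y) (x / ovf m x y) := by
  have hf : ovf m x y ≠ 0 := fun hc => by
    obtain ⟨hx, hy⟩ := (ovf_eq_zero m).mp hc
    rcases h with h | h <;> contradiction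
  have htf : th m (ovf m x y) ≠ 0 := by simpa
  refine smul_mk_of_mulVec _ _ (ovf m x y) ?_
  funext i
  have hk := ovf_key m x y
  fin_cases i <;> simp [coe_wSL, dotProduct, Matrix.mulVec, Fin.sum_univ_four]
  · have hexp : ovf m (y / ovf m x y) (x / ovf m x y) =
        y / ovf m x y * (x / ovf m x y) + (y / ovf m x y) ^ 2 * (th m y / th m (ovf m x y)) +
          th m x / th m (ovf m x y) := by
      simp only [div_eq_mul_inv]
      conv_lhs => rw [ovf]
      simp only [th_mul, th_inv]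
    rw [hexp]
    have h2 := two_eq_zero (F := F) m
    field_simp
    linear_combination hk - (x * y * th m (ovf m x y) + th m x * ovf m x y ^ 2 + th m y * y ^ 2) * h2
  all_goals field_simp

theorem wSL_smul_pt_zero :
    (wSL : Matrix.SpecialLinearGroup (Fin 4) F) • pt m (0 : F) 0 = pInf := by
  refine smul_mk_of_mulVec _ _ 1 ?_
  funext i
  fin_cases i <;> simp [coe_wSL, ovf, dotProduct, Matrix.mulVec, Fin.sum_univ_four]

theorem uSL_mem_Sz (a b : F) : uSL m a b ∈ Cfsg.Sz F m := by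
  rw [MulAction.mem_stabilizer_set_iff_smul_set_subset (Set.toFinite _)]
  rintro _ ⟨p, hp, rfl⟩
  rcases mem_ovoid.mp hp with rfl | ⟨x, y, rfl⟩
  · simpa only [uSL_smul_pInf] using pInf_mem m
  · simpa only [uSL_smul_pt] using pt_mem m _ _

theorem tSL_mem_Sz (s : Fˣ) : tSL m s ∈ Cfsg.Sz F m := by
  rw [MulAction.mem_stabilizer_set_iff_smul_set_subset (Set.toFinite _)]
  rintro _ ⟨p, hp, rfl⟩
  rcases mem_ovoid.mp hp with rfl | ⟨x, y, rfl⟩
  · simpa only [tSL_smul_pInf] using pInf_mem m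
  · simpa only [tSL_smul_pt] using pt_mem m _ _

theorem wSL_mem_Sz : (wSL : Matrix.SpecialLinearGroup (Fin 4) F) ∈ Cfsg.Sz F m := by
  rw [MulAction.mem_stabilizer_set_iff_smul_set_subset (Set.toFinite _)]
  rintro _ ⟨p, hp, rfl⟩
  rcases mem_ovoid.mp hp with rfl | ⟨x, y, rfl⟩
  · simpa only [wSL_smul_pInf m] using pt_mem m _ _
  · by_cases h : x ≠ 0 ∨ y ≠ 0
    · simpa only [wSL_smul_pt m h] using pt_mem m _ _
    · simp at h
      obtain ⟨rfl, rfl⟩ := h
      simpa only [wSL_smul_pt_zero] using pInf_mem m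

end Cfsg.Agent.Suzuki
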