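import Cfsg.Agent.Suzuki.Matrices

/-!
An element of SL₄ preserving the Suzuki-Tits ovoid and fixing its two base points is a torus element.
-/

set_option autoImplicit false

open Cfsg Matrix
open scoped Pointwise

namespace Cfsg.Agent.Suzuki

variable {F : Type*} [Field F] [Fintype F] (m : ℕ) [SzField F m]

theorem pow_indep3 {n : ℕ} (hn1 : 2 < n) (hn2 : n + 2 < Fintype.card F) {c0 c1 c2 : F}
    (h : ∀ x : F, c0 * x ^ 2 + c1 * x ^ n + c2 * x ^ (n + 2) = 0) :
    c0 = 0 ∧ c1 = 0 ∧ c2 = 0 := by
  classical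
  set P : Polynomial F := Polynomial.C c0 * Polynomial.X ^ 2 + Polynomial.C c1 * Polynomial.X ^ n +
    Polynomial.C c2 * Polynomial.X ^ (n + 2) with hP
  have hdeg : P.natDegree ≤ n + 2 := by
    rw [hP]
    refine (Polynomial.natDegree_add_le _ _).trans (max_le ((Polynomial.natDegree_add_le _ _).trans
      (max_le ?_ ?_)) (Polynomial.natDegree_C_mul_X_pow_le _ _))
    · exact (Polynomial.natDegree_C_mul_X_pow_le _ _).trans (by omega)
    · exact (Polynomial.natDegree_C_mul_X_pow_le _ _).trans (by omega)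
  have hP0 : P = 0 := by
    refine Polynomial.eq_zero_of_natDegree_lt_card_of_eval_eq_zero P
      (f := fun x : F => x) Function.injective_id (fun x => ?_) (by omega)
    simpa [hP] using h x
  refine ⟨?_, ?_, ?_⟩
  · have := congrArg (fun p => Polynomial.coeff p 2) hP0
    simpa [hP, Polynomial.coeff_X_pow, show (2 : ℕ) ≠ n by omega, show n ≠ 0 by omega] using this
  · have := congrArg (fun p => Polynomial.coeff p n) hP0
    simpa [hP, Polynomial.coeff_X_pow, show n ≠ 2 by omega] using this
  · have := congrArg (fun p => Polynomial.coeff p (n + 2)) hP0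
    simpa [hP, Polynomial.coeff_X_pow, show n ≠ 0 by omega, show n + 2 ≠ n by omega, Polynomial.coeff_C] using this

theorem th_indep3 {c0 c1 c2 : F}
    (h : ∀ x : F, c0 * x ^ 2 + c1 * th m x + c2 * (x ^ 2 * th m x) = 0) :
    c0 = 0 ∧ c1 = 0 ∧ c2 = 0 := by
  have hm : 1 ≤ m := SzField.pos F
  have h4 : 4 ≤ 2 ^ (m + 1) := by
    calc (4 : ℕ) = 2 ^ 2 := rfl
      _ ≤ 2 ^ (m + 1) := Nat.pow_le_pow_right (by norm_num) (by omega)
  have hc : 2 ^ (m + 1) + 2 < Fintype.card F := by
    rw [SzField.card_eq (F := F) (m := m)]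
    calc 2 ^ (m + 1) + 2 < 2 ^ (m + 1) + 2 ^ (m + 1) := by omega
      _ = 2 ^ (m + 2) := by ring
      _ ≤ 2 ^ (2 * m + 1) := Nat.pow_le_pow_right (by norm_num) (by omega)
  refine pow_indep3 (by omega) hc (fun x => ?_)
  have := h x
  rw [th_def] at this
  linear_combination this

/-- The plane `X₃ = 0` is preserved by an element fixing the point at infinity and the ovoid. -/
theorem bottom_row_zero {g : Matrix.SpecialLinearGroup (Fin 4) F} (hg : g ∈ Cfsg.Sz F m)
    (hInf : g • (pInf : Projectivization F (Fin 4 → F)) = pInf) :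
    (g : Matrix (Fin 4) (Fin 4) F) 3 0 = 0 ∧ (g : Matrix (Fin 4) (Fin 4) F) 3 1 = 0 ∧
      (g : Matrix (Fin 4) (Fin 4) F) 3 2 = 0 := by
  have hp := hInf
  rw [pInf, suzukiPointInfinity, Projectivization.smul_mk, Projectivization.mk_eq_mk_iff'] at hp
  obtain ⟨c, hc⟩ := hp
  have h30 : (g : Matrix (Fin 4) (Fin 4) F) 3 0 = 0 := by
    simpa [Matrix.SpecialLinearGroup.smul_def, Matrix.mulVec, dotProduct, Fin.sum_univ_four] using
      (congrFun hc 3).symm
  have key : ∀ x y : F, (g : Matrix (Fin 4) (Fin 4) F) 3 1 * y + (g : Matrix (Fin 4) (Fin 4) F) 3 2 * x +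
      (g : Matrix (Fin 4) (Fin 4) F) 3 3 ≠ 0 := by
    intro x y h0
    have hmem : g • pt m x y ∈ suzukiOvoid F m := by
      rw [← MulAction.mem_stabilizer_iff.mp hg]
      exact Set.smul_mem_smul_set (pt_mem m x y)
    rcases mem_ovoid.mp hmem with h | ⟨x', y', h⟩
    · exact pt_ne_pInf m x y (by rw [← inv_smul_smul g (pt m x y), h, inv_smul_eq_iff, hInf])
    · rw [pt, pt, Projectivization.smul_mk, Projectivization.mk_eq_mk_iff'] at h
      obtain ⟨c, hc⟩ := h
      have h3 : c = 0 := by
        have := congrFun hc 3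
        simp [Matrix.SpecialLinearGroup.smul_def, Matrix.mulVec, dotProduct, Fin.sum_univ_four, h30]
          at this
        rw [this]
        linear_combination h0
      subst h3
      refine (smul_ne_zero_iff_ne g).mpr (fun h' => ?_) (hc.symm.trans (by simp))
      simpa using congrFun h' 3
  refine ⟨h30, ?_, ?_⟩
  · by_contra h
    exact key 0 (-(g : Matrix (Fin 4) (Fin 4) F) 3 3 / (g : Matrix (Fin 4) (Fin 4) F) 3 1)
      (by field_simp; ring)
  · by_contra h
    exact key (-(g : Matrix (Fin 4) (Fin 4) F) 3 3 / (g : Matrix (Fin 4) (Fin 4) F) 3 2) 0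
      (by field_simp; ring)

/-- The stabiliser of the two base points in the group preserving the ovoid consists of torus elements. -/
theorem exists_tSL_of_fixed {g : Matrix.SpecialLinearGroup (Fin 4) F} (hg : g ∈ Cfsg.Sz F m)
    (hInf : g • (pInf : Projectivization F (Fin 4 → F)) = pInf)
    (h0 : g • pt m (0 : F) 0 = pt m 0 0) : ∃ s : Fˣ, g = tSL m s := by
  obtain ⟨h30, h31, h32⟩ := bottom_row_zero m hg hInf
  set g' := (wSL : Matrix.SpecialLinearGroup (Fin 4) F) * g * wSL with hg'
  have hg'S : g' ∈ Cfsg.Sz F m :=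
    mul_mem (mul_mem (wSL_mem_Sz m) hg) (wSL_mem_Sz m)
  have hg'I : g' • (pInf : Projectivization F (Fin 4 → F)) = pInf := by
    rw [hg', mul_smul, mul_smul, wSL_smul_pInf m, h0, wSL_smul_pt_zero]
  obtain ⟨e30, e31, e32⟩ := bottom_row_zero m hg'S hg'I
  simp [hg', coe_wSL, Matrix.mul_apply, Matrix.vecMul, dotProduct, Fin.sum_univ_four] at e30 e31 e32
  -- the first column
  have hp := hInf
  rw [pInf, suzukiPointInfinity, Projectivization.smul_mk, Projectivization.mk_eq_mk_iff'] at hp
  obtain ⟨c, hc⟩ := hp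
  have h10 : (g : Matrix (Fin 4) (Fin 4) F) 1 0 = 0 := by
    simpa [Matrix.SpecialLinearGroup.smul_def, Matrix.mulVec, dotProduct, Fin.sum_univ_four] using
      (congrFun hc 1).symm
  have h20 : (g : Matrix (Fin 4) (Fin 4) F) 2 0 = 0 := by
    simpa [Matrix.SpecialLinearGroup.smul_def, Matrix.mulVec, dotProduct, Fin.sum_univ_four] using
      (congrFun hc 2).symm
  have hq := h0
  rw [pt, Projectivization.smul_mk, Projectivization.mk_eq_mk_iff'] at hq
  obtain ⟨d, hd⟩ := hq
  have h13 : (g : Matrix (Fin 4) (Fin 4) F) 1 3 = 0 := by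
    simpa [Matrix.SpecialLinearGroup.smul_def, Matrix.mulVec, dotProduct, Fin.sum_univ_four, ovf]
      using (congrFun hd 1).symm
  have h23 : (g : Matrix (Fin 4) (Fin 4) F) 2 3 = 0 := by
    simpa [Matrix.SpecialLinearGroup.smul_def, Matrix.mulVec, dotProduct, Fin.sum_univ_four, ovf]
      using (congrFun hd 2).symm
  set M := (g : Matrix (Fin 4) (Fin 4) F) with hM
  set δ := M 3 3 with hδ
  have hdet : M.det = 1 := g.2
  have hδ0 : δ ≠ 0 := by
    intro h
    rw [Matrix.det_eq_zero_of_row_eq_zero 3] at hdet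
    · exact zero_ne_one hdet
    · intro j
      fin_cases j <;> simp [h30, h31, h32, ← hδ, h]
  -- normalised entries
  set α := M 0 0 / δ with hα
  set a := M 1 1 / δ with ha
  set b := M 1 2 / δ with hb
  set c' := M 2 1 / δ with hc'
  set d' := M 2 2 / δ with hd'
  have key : ∀ x y : F, α * ovf m x y = ovf m (c' * y + d' * x) (a * y + b * x) := by
    intro x y
    have hmem : g • pt m x y ∈ suzukiOvoid F m := by
      rw [← MulAction.mem_stabilizer_iff.mp hg]
      exact Set.smul_mem_smul_set (pt_mem m x y)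
    rcases mem_ovoid.mp hmem with h | ⟨x', y', h⟩
    · exact absurd (by rw [← inv_smul_smul g (pt m x y), h, inv_smul_eq_iff, hInf]) (pt_ne_pInf m x y)
    · rw [pt, pt, Projectivization.smul_mk, Projectivization.mk_eq_mk_iff'] at h
      obtain ⟨e, he⟩ := h
      have e0 := congrFun he 0
      have e1 := congrFun he 1
      have e2 := congrFun he 2
      have e3 := congrFun he 3
      simp [Matrix.SpecialLinearGroup.smul_def, Matrix.mulVec, dotProduct, Fin.sum_univ_four,
        ← hM, h10, h20, h13, h23, h30, h31, h32, e30, e31, e32, ← hδ] at e0 e1 e2 e3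
      subst e3
      have hx : x' = c' * y + d' * x := by
        rw [hc', hd']
        field_simp
        linear_combination e2
      have hy : y' = a * y + b * x := by
        rw [ha, hb]
        field_simp
        linear_combination e1
      rw [← hx, ← hy, hα]
      field_simp
      linear_combination -e0
  have hA : ∀ y : F, (a * c') * y ^ 2 + (th m a - α) * th m y +
      (c' ^ 2 * th m c') * (y ^ 2 * th m y) = 0 := by
    intro y
    have := key 0 y
    simp [ovf, th_mul] at this
    linear_combination -this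
  obtain ⟨hac, hta, hc0⟩ := th_indep3 m hA
  have hc'0 : c' = 0 := by
    simpa using hc0
  have hα' : α = th m a := (sub_eq_zero.mp hta).symm
  have hB : ∀ x : F, (b * d') * x ^ 2 + (th m b) * th m x +
      (d' ^ 2 * th m d' - α) * (x ^ 2 * th m x) = 0 := by
    intro x
    have := key x 0
    simp [ovf, th_mul, hc'0] at this
    linear_combination -this
  obtain ⟨hbd, htb, hdα⟩ := th_indep3 m hB
  have hb0 : b = 0 := by simpa using htb
  have hα'' : α = d' ^ 2 * th m d' := (sub_eq_zero.mp hdα).symm
  have had : α = a * d' := by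
    have h := key 1 1
    simp [ovf, th_mul, hc'0, hb0] at h
    linear_combination h - hα' - hα''
  have h01 : M 0 1 = 0 := e32
  have h02 : M 0 2 = 0 := e31
  have h03 : M 0 3 = 0 := e30
  have hdiag : M = Matrix.diagonal ![α * δ, a * δ, d' * δ, δ] := by
    have e00 : M 0 0 = α * δ := by rw [hα]; field_simp
    have e11 : M 1 1 = a * δ := by rw [ha]; field_simp
    have e22 : M 2 2 = d' * δ := by rw [hd']; field_simp
    have e12 : M 1 2 = 0 := by
      rw [hb] at hb0; simpa [hδ0] using hb0
    have e21 : M 2 1 = 0 := by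
      rw [hc'] at hc'0; simpa [hδ0] using hc'0
    ext i j
    fin_cases i <;> fin_cases j <;>
      simp [h01, h02, h03, h10, h13, h20, h23, h30, h31, h32, e00, e11, e22, e12, e21, ← hδ]
  rw [hdiag, Matrix.det_diagonal] at hdet
  simp [Fin.prod_univ_four] at hdet
  have ha0 : a ≠ 0 := by intro h; rw [h] at hdet; simp at hdet
  have hd0 : d' ≠ 0 := by intro h; rw [h] at hdet; simp at hdet
  -- d' = th s, a = s² th s for the unique s with th s = d'
  obtain ⟨s, hs⟩ := (th_bijective (F := F) m).2 d'
  have hs0 : s ≠ 0 := by rintro rfl; exact hd0 (by simpa using hs.symm)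
  have hts0 : th m s ≠ 0 := by simpa
  have haval : a = s ^ 2 * th m s := by
    have h := had.symm.trans hα''
    rw [← hs, th_th] at h
    exact mul_right_cancel₀ hts0 (by linear_combination h)
  have hαval : α = s ^ 2 * th m s ^ 2 := by rw [had, haval, ← hs]; ring
  have hδval : δ = (s * th m s)⁻¹ := by
    rw [hαval, haval, ← hs] at hdet
    have h4 : (δ * (s * th m s)) ^ 4 = 1 := by linear_combination hdet
    have h1 : δ * (s * th m s) = 1 :=
      eq_one_of_sq m (eq_one_of_sq m (by rw [← pow_mul]; exact h4))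
    exact eq_inv_of_mul_eq_one_left h1
  refine ⟨Units.mk0 s hs0, Subtype.ext ?_⟩
  rw [coe_tSL, ← hM, hdiag, tMat]
  congr 1
  funext i
  fin_cases i <;> simp [hαval, haval, ← hs, hδval] <;> field_simp

end Cfsg.Agent.Suzuki
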