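import Cfsg.Agent.Suzuki.Subgroups

/-!
Structure of the normalisers of the cyclic parts, and the number of parts normalised by an element.
-/

set_option autoImplicit false

open Cfsg MulAction
open scoped Pointwise

namespace Cfsg.Agent.Suzuki

theorem card_normalizer_map_conj {G : Type*} [Group G] [Finite G] (A : Subgroup G) (k : G) :
    Nat.card (Subgroup.normalizer ((A.map (MulAut.conj k).toMonoidHom : Subgroup G) : Set G)) =
      Nat.card (Subgroup.normalizer (A : Set G)) := by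
  have h : Set.range (fun l : G => (A.map (MulAut.conj k).toMonoidHom).map (MulAut.conj l).toMonoidHom) =
      Set.range (fun l : G => A.map (MulAut.conj l).toMonoidHom) := by
    ext H
    simp only [Set.mem_range, map_conj_conj]
    exact ⟨fun ⟨l, hl⟩ => ⟨l * k, hl⟩, fun ⟨l, hl⟩ => ⟨l * k⁻¹, by rwa [inv_mul_cancel_right]⟩⟩
  have h1 := card_conjugates (A.map (MulAut.conj k).toMonoidHom)
  rw [h, card_conjugates] at h1
  have e1 := (Subgroup.normalizer ((A.map (MulAut.conj k).toMonoidHom : Subgroup G) : Set G)).card_mul_index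
  rw [← h1, ← (Subgroup.normalizer (A : Set G)).card_mul_index] at e1
  exact Nat.eq_of_mul_eq_mul_right (Nat.pos_of_ne_zero Subgroup.index_ne_zero_of_finite) e1

theorem mem_normalizer_map_conj_iff {G : Type*} [Group G] {A : Subgroup G} {k x : G} :
    x ∈ Subgroup.normalizer ((A.map (MulAut.conj k).toMonoidHom : Subgroup G) : Set G) ↔
      k⁻¹ * x * k ∈ Subgroup.normalizer (A : Set G) := by
  rw [Subgroup.mem_normalizer_iff, Subgroup.mem_normalizer_iff]
  constructor
  · intro h y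
    have := h (k * y * k⁻¹)
    simp only [mem_map_conj_iff] at this
    simpa [mul_assoc] using this
  · intro h y
    simp only [mem_map_conj_iff]
    simpa [mul_assoc] using h (k⁻¹ * y * k)

/-- Double counting of the conjugates of `A` normalised by `x`. -/
theorem card_conjugates_normalized {G : Type*} [Group G] [Finite G] (A : Subgroup G) (x : G) :
    Nat.card {W : Subgroup G // (∃ k, W = A.map (MulAut.conj k).toMonoidHom) ∧
        x ∈ Subgroup.normalizer (W : Set G)} * Nat.card (Subgroup.normalizer (A : Set G)) =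
      Nat.card {y : G // y ∈ Subgroup.normalizer (A : Set G) ∧ IsConj x y} *
        Nat.card (Subgroup.centralizer {x}) := by
  set N := Subgroup.normalizer (A : Set G) with hN
  set S := {g : G // g⁻¹ * x * g ∈ N}
  set W' := {W : Subgroup G // (∃ k, W = A.map (MulAut.conj k).toMonoidHom) ∧
        x ∈ Subgroup.normalizer (W : Set G)}
  set Y := {y : G // y ∈ N ∧ IsConj x y}
  have hcosetN : ∀ a b : G, A.map (MulAut.conj a).toMonoidHom = A.map (MulAut.conj b).toMonoidHom →
      a⁻¹ * b ∈ N := by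
    intro a b h
    rw [hN, Subgroup.mem_normalizer_iff]
    intro z
    have := SetLike.ext_iff.mp h (b * z * b⁻¹)
    simp only [mem_map_conj_iff] at this
    simp only [mul_assoc, inv_mul_cancel_left, inv_mul_cancel, mul_one, mul_inv_rev, inv_inv] at this ⊢
    exact this.symm
  have h1 : Nat.card W' * Nat.card N = Nat.card S := by
    have hk : ∀ W : W', ∃ k, W.1 = A.map (MulAut.conj k).toMonoidHom := fun W => W.2.1
    choose k hk using hk
    rw [← Nat.card_prod]
    have hmem : ∀ (W : W') (h : N), (k W * h)⁻¹ * x * (k W * h) ∈ N := by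
      intro W h
      have h2 := W.2.2
      rw [hk W, mem_normalizer_map_conj_iff] at h2
      rw [show (k W * h)⁻¹ * x * (k W * h) = (h : G)⁻¹ * ((k W)⁻¹ * x * k W) * h by group]
      exact N.mul_mem (N.mul_mem (N.inv_mem h.2) h2) h.2
    refine Nat.card_congr (Equiv.ofBijective (fun p : W' × N => (⟨k p.1 * p.2, hmem p.1 p.2⟩ : S)) ⟨?_, ?_⟩)
    · rintro ⟨W, h⟩ ⟨W₂, h₂⟩ e
      have e' : k W * h = k W₂ * h₂ := congrArg Subtype.val e
      have hW : W = W₂ := by
        apply Subtype.ext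
        rw [hk W, hk W₂]
        ext z
        simp only [mem_map_conj_iff]
        have h3 : (k W₂)⁻¹ * k W = (h₂ : G) * (h : G)⁻¹ := by
          rw [eq_mul_inv_iff_mul_eq, mul_assoc, e', inv_mul_cancel_left]
        have h4 : (k W₂)⁻¹ * k W ∈ N := h3 ▸ N.mul_mem h₂.2 (N.inv_mem h.2)
        have := Subgroup.mem_normalizer_iff.mp h4 ((k W)⁻¹ * z * k W)
        simpa [mul_assoc] using this
      subst hW
      exact Prod.ext rfl (Subtype.ext (mul_left_cancel e'))
    · rintro ⟨g, hg⟩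
      let W : W' := ⟨A.map (MulAut.conj g).toMonoidHom, ⟨g, rfl⟩, mem_normalizer_map_conj_iff.mpr hg⟩
      refine ⟨(W, ⟨(k W)⁻¹ * g, hcosetN _ _ (hk W).symm⟩), Subtype.ext ?_⟩
      exact mul_inv_cancel_left _ _
  have h2 : Nat.card Y * Nat.card (Subgroup.centralizer {x}) = Nat.card S := by
    have hy : ∀ y : Y, ∃ g : G, g⁻¹ * x * g = y.1 := by
      rintro ⟨y, -, hy⟩
      obtain ⟨c, hc⟩ := isConj_iff.mp hy
      exact ⟨c⁻¹, by rwa [inv_inv]⟩
    choose g hg using hy
    rw [← Nat.card_prod]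
    have hmem : ∀ (y : Y) (c : Subgroup.centralizer {x}), (c.1 * g y)⁻¹ * x * (c.1 * g y) = y.1 := by
      intro y c
      have := Subgroup.mem_centralizer_singleton_iff.mp c.2
      rw [← hg y, show (c.1 * g y)⁻¹ * x * (c.1 * g y) = (g y)⁻¹ * (c.1⁻¹ * (x * c.1)) * g y by group,
        ← this, inv_mul_cancel_left]
    refine Nat.card_congr (Equiv.ofBijective (fun p : Y × Subgroup.centralizer {x} =>
      (⟨p.2.1 * g p.1, by rw [hmem]; exact p.1.2.1⟩ : S)) ⟨?_, ?_⟩)
    · rintro ⟨y, c⟩ ⟨y₂, c₂⟩ e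
      have e' : c.1 * g y = c₂.1 * g y₂ := congrArg Subtype.val e
      have hy2 : y = y₂ := Subtype.ext (by rw [← hmem y c, ← hmem y₂ c₂, e'])
      subst hy2
      exact Prod.ext rfl (Subtype.ext (mul_right_cancel e'))
    · rintro ⟨s, hs⟩
      let y : Y := ⟨s⁻¹ * x * s, hs, isConj_iff.mpr ⟨s⁻¹, by rw [inv_inv]⟩⟩
      refine ⟨(y, ⟨s * (g y)⁻¹, ?_⟩), Subtype.ext (inv_mul_cancel_right _ _)⟩
      rw [Subgroup.mem_centralizer_singleton_iff]
      have h3 : (g y)⁻¹ * x * g y = s⁻¹ * x * s := hg y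
      calc s * (g y)⁻¹ * x = s * ((g y)⁻¹ * x * g y) * (g y)⁻¹ := by group
        _ = _ := by rw [h3]; group
  rw [h1, h2]

variable {F : Type*} [Field F] [Fintype F] (m : ℕ) [SzField F m]

/-- The index of the cyclic parts of size `n` in their normalisers. -/
def normIndex (n : ℕ) : ℕ := if n = 2 ^ (2 * m + 1) - 1 then 2 else 4

/-- A cyclic part. -/
def IsCyclicPart (V : Subgroup (Cfsg.Sz F m)) : Prop :=
  IsCyclic V ∧ (Nat.card V = 2 ^ (2 * m + 1) - 1 ∨ Nat.card V = aPlus m ∨ Nat.card V = aMinus m)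

variable {m}

theorem IsCyclicPart.isPart {V : Subgroup (Cfsg.Sz F m)} (hV : IsCyclicPart m V) : IsPart m V := Or.inr hV

theorem IsCyclicPart.centralizer_eq {V : Subgroup (Cfsg.Sz F m)} (hV : IsCyclicPart m V)
    {v : Cfsg.Sz F m} (hv : v ∈ V) (hv1 : v ≠ 1) : Subgroup.centralizer {v} = V :=
  (cyclic_part_eq_centralizer m hV.1 hV.2 hv hv1).symm

include F in
theorem part_sizes : 7 ≤ 2 ^ (2 * m + 1) - 1 ∧ 5 ≤ aMinus m ∧ aMinus m < aPlus m ∧
    2 ^ (2 * m + 1) - 1 ≠ aPlus m ∧ 2 ^ (2 * m + 1) - 1 ≠ aMinus m ∧ 2 ^ (m + 1) + 2 ≤ 2 ^ (2 * m + 1) := by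
  have hm : 1 ≤ m := SzField.pos F
  have h1 : 2 ^ (m + 1) * 2 ^ m = 2 ^ (2 * m + 1) := by rw [← pow_add]; ring_nf
  have h2 : 4 ≤ 2 ^ (m + 1) := by
    calc (4 : ℕ) = 2 ^ 2 := rfl
      _ ≤ 2 ^ (m + 1) := Nat.pow_le_pow_right (by norm_num) (by omega)
  have h3 : 2 ≤ 2 ^ m := by
    calc (2 : ℕ) = 2 ^ 1 := rfl
      _ ≤ 2 ^ m := Nat.pow_le_pow_right (by norm_num) hm
  have h5 : 2 ^ (m + 1) * 2 ≤ 2 ^ (2 * m + 1) := by rw [← h1]; exact Nat.mul_le_mul_left _ h3
  simp only [aPlus, aMinus]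
  omega

theorem IsCyclicPart.five_le {V : Subgroup (Cfsg.Sz F m)} (hV : IsCyclicPart m V) : 5 ≤ Nat.card V := by
  obtain ⟨h1, h2, h3, -⟩ := part_sizes (F := F) (m := m)
  rcases hV.2 with h | h | h <;> omega

theorem IsCyclicPart.exists_ne_one {V : Subgroup (Cfsg.Sz F m)} (hV : IsCyclicPart m V) :
    ∃ v ∈ V, v ≠ 1 := by
  by_contra! h
  have h5 := hV.five_le
  rw [(Subgroup.eq_bot_iff_forall _).mpr h, Subgroup.card_bot] at h5
  omega

theorem IsCyclicPart.odd_orderOf {V : Subgroup (Cfsg.Sz F m)} (hV : IsCyclicPart m V)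
    {v : Cfsg.Sz F m} (hv : v ∈ V) : Odd (orderOf v) := by
  rw [Nat.odd_iff]
  have h := cyclic_part_orderOf m hV.2 hv
  by_contra hne
  exact odd_compl (F := F) m ((Nat.dvd_of_mod_eq_zero (by omega)).trans h)

theorem IsCyclicPart.eq_one_of_pow_four {V : Subgroup (Cfsg.Sz F m)} (hV : IsCyclicPart m V)
    {v : Cfsg.Sz F m} (hv : v ∈ V) (h4 : v ^ 4 = 1) : v = 1 := by
  rw [← orderOf_eq_one_iff]
  refine Nat.eq_one_of_dvd_coprimes ?_ dvd_rfl (orderOf_dvd_of_pow_eq_one h4)
  exact (Nat.coprime_two_right.mpr (hV.odd_orderOf hv)).pow_right 2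

theorem IsCyclicPart.eq_one_of_sq {V : Subgroup (Cfsg.Sz F m)} (hV : IsCyclicPart m V)
    {v : Cfsg.Sz F m} (hv : v ∈ V) (h2 : v * v = 1) : v = 1 :=
  hV.eq_one_of_pow_four hv (by simp [pow_succ, mul_assoc, h2])

theorem IsCyclicPart.inverts {V : Subgroup (Cfsg.Sz F m)} (hV : IsCyclicPart m V) {j : Cfsg.Sz F m}
    (hj : j * j = 1) (hjV : j ∉ V) (hjN : j ∈ Subgroup.normalizer (V : Set (Cfsg.Sz F m)))
    {v : Cfsg.Sz F m} (hv : v ∈ V) : j * v * j⁻¹ = v⁻¹ := by
  have hjj : j⁻¹ = j := inv_eq_of_mul_eq_one_right hj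
  have hc : j * v * j⁻¹ ∈ V := (Subgroup.mem_normalizer_iff.mp hjN v).mp hv
  let _ := hV.1.commGroup
  have hcomm : v * (j * v * j⁻¹) = (j * v * j⁻¹) * v :=
    congrArg Subtype.val (mul_comm (⟨v, hv⟩ : V) ⟨_, hc⟩)
  by_contra hne
  have hy1 : v * (j * v * j⁻¹) ≠ 1 := fun e => hne (inv_eq_of_mul_eq_one_right e).symm
  have hmem : j ∈ Subgroup.centralizer {v * (j * v * j⁻¹)} := by
    rw [Subgroup.mem_centralizer_singleton_iff]
    calc j * (v * (j * v * j⁻¹)) = (j * v * j⁻¹) * (j * j) * v * j⁻¹ := by group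
      _ = ((j * v * j⁻¹) * v) * j := by rw [hj, mul_one, hjj]
      _ = _ := by rw [← hcomm]
  rw [hV.centralizer_eq (V.mul_mem hv hc) hy1] at hmem
  exact hjV hmem

theorem IsCyclicPart.card_normalizer {V : Subgroup (Cfsg.Sz F m)} (hV : IsCyclicPart m V) :
    Nat.card (Subgroup.normalizer (V : Set (Cfsg.Sz F m))) =
      normIndex m (Nat.card V) * Nat.card V := by
  have hsz := part_sizes (F := F) (m := m)
  rcases hV.2 with h | h
  · rw [normIndex, if_pos h]
    obtain ⟨x, hx⟩ := hV.1.exists_ofOrder_eq_natCard (α := V)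
    have hx1 : (x : Cfsg.Sz F m) ≠ 1 := fun e => by
      have := hV.five_le
      rw [← Subgroup.orderOf_coe, e, orderOf_one] at hx
      omega
    have hxo : orderOf (x : Cfsg.Sz F m) = Nat.card F - 1 := by
      rw [Subgroup.orderOf_coe, hx, h, card_nat (F := F) m]
    obtain ⟨c1, c2, c3⟩ := coprime_parts (F := F) m
    have hnf : ¬ FixFree m (x : Cfsg.Sz F m) := fun hf => hx1 (orderOf_eq_one_iff.mp
      (Nat.eq_one_of_dvd_coprimes c3 hxo.dvd (orderOf_dvd_of_fixFree m hf)))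
    obtain ⟨k, hk⟩ : ∃ k : Cfsg.Sz F m, k * (x : Cfsg.Sz F m) * k⁻¹ ∈ T m := by
      rcases exists_conj_U_or_T m hnf with ⟨k, hk⟩ | hk
      · exfalso
        refine hx1 (orderOf_eq_one_iff.mp ?_)
        have h1 : orderOf (k * (x : Cfsg.Sz F m) * k⁻¹) ∣ Nat.card F ^ 2 :=
          card_U (F := F) m ▸ Subgroup.orderOf_dvd_natCard _ hk
        rw [← MulAut.conj_apply, MulEquiv.orderOf_eq] at h1
        exact Nat.eq_one_of_dvd_coprimes (c1.pow_left 2) h1 hxo.dvd
      · exact hk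
    have hk1 : k * (x : Cfsg.Sz F m) * k⁻¹ ≠ 1 := by rwa [ne_eq, conj_eq_one_iff]
    have hmap : V.map (MulAut.conj k).toMonoidHom = T m := by
      rw [← hV.centralizer_eq x.2 hx1, map_conj_centralizer, centralizer_T_eq m hk hk1]
    rw [← card_normalizer_map_conj V k, hmap]
    have hTc : Nat.card (T m : Subgroup (Cfsg.Sz F m)) = Nat.card V := by rw [card_T, h, card_nat (F := F) m]
    rw [← hTc]
    set N := Subgroup.normalizer ((T m : Subgroup (Cfsg.Sz F m)) : Set (Cfsg.Sz F m))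
    have hwN : w m ∈ N := by
      rw [Subgroup.mem_normalizer_iff]
      intro g
      constructor
      · intro hg
        obtain ⟨s, rfl⟩ := (mem_T m).mp hg
        rw [w_t]; exact t_mem_T m _
      · intro hg
        obtain ⟨s, hs⟩ := (mem_T m).mp hg
        have : g = t m s⁻¹ := by
          rw [← w_t, w_inv, ← hs, w_inv, ← mul_assoc, ← mul_assoc, w_mul_w, one_mul, mul_assoc, w_mul_w,
            mul_one]
        rw [this]; exact t_mem_T m _
    have hwT : w m ∉ (T m : Subgroup (Cfsg.Sz F m)) := by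
      intro e
      have := T_le_B m e
      rw [mem_B, w_smul_oInf] at this
      exact oPt_ne_oInf m _ _ this
    have hidx : ((T m).subgroupOf N).index = 2 := by
      rw [Subgroup.index_eq_two_iff]
      refine ⟨⟨w m, hwN⟩, fun b => ?_⟩
      obtain ⟨z, hz, hz1⟩ : ∃ z ∈ (T m : Subgroup (Cfsg.Sz F m)), z ≠ 1 :=
        ⟨_, hk, hk1⟩
      simp only [Subgroup.mem_subgroupOf, Subgroup.coe_mul]
      rcases T_TI m hz hz1 ((Subgroup.mem_normalizer_iff.mp b.2 z).mp hz) with hb | hb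
      · exact Or.inr ⟨hb, fun e => hwT ((Subgroup.mul_mem_cancel_left _ hb).mp e)⟩
      · refine Or.inl ⟨hb, fun e => hwT ((Subgroup.mul_mem_cancel_left _ e).mp hb)⟩
    rw [← ((T m).subgroupOf N).card_mul_index, hidx,
      Nat.card_congr (Subgroup.subgroupOfEquivOfLe Subgroup.le_normalizer).toEquiv, mul_comm]
  · have hne : Nat.card V ≠ 2 ^ (2 * m + 1) - 1 := by rcases h with h | h <;> rw [h] <;> omega
    rw [normIndex, if_neg hne]
    obtain ⟨g, hg, rfl⟩ := isCyclic_card_eq m hV.1 h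
    exact card_normalizer_fixFree m hg

theorem IsCyclicPart.pow_eq_one {V : Subgroup (Cfsg.Sz F m)} (hV : IsCyclicPart m V) {y : Cfsg.Sz F m}
    (hy : y ∈ Subgroup.normalizer (V : Set (Cfsg.Sz F m))) (hyV : y ∉ V) :
    y ^ normIndex m (Nat.card V) = 1 := by
  set N := Subgroup.normalizer (V : Set (Cfsg.Sz F m))
  have hidx : (V.subgroupOf N).index = normIndex m (Nat.card V) := by
    have h := (V.subgroupOf N).card_mul_index
    rw [Nat.card_congr (Subgroup.subgroupOfEquivOfLe Subgroup.le_normalizer).toEquiv, hV.card_normalizer,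
      mul_comm] at h
    exact Nat.eq_of_mul_eq_mul_right Nat.card_pos h
  have hmem : y ^ normIndex m (Nat.card V) ∈ V := by
    have := Subgroup.pow_index_mem (V.subgroupOf N) (⟨y, hy⟩ : N)
    rw [hidx] at this
    exact this
  by_contra hne
  have hc : y ∈ Subgroup.centralizer {y ^ normIndex m (Nat.card V)} := by
    rw [Subgroup.mem_centralizer_singleton_iff]
    exact (Commute.self_pow y _).eq
  rw [hV.centralizer_eq hmem hne] at hc
  exact hyV hc

theorem IsCyclicPart.pow_four {V : Subgroup (Cfsg.Sz F m)} (hV : IsCyclicPart m V) {y : Cfsg.Sz F m}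
    (hy : y ∈ Subgroup.normalizer (V : Set (Cfsg.Sz F m))) (hyV : y ∉ V) : y ^ 4 = 1 := by
  have h := hV.pow_eq_one hy hyV
  unfold normIndex at h
  split_ifs at h
  · rw [pow_two] at h; simp [pow_succ, mul_assoc, h]
  · exact h

theorem IsCyclicPart.sq_of_card {V : Subgroup (Cfsg.Sz F m)} (hV : IsCyclicPart m V)
    (h : Nat.card V = 2 ^ (2 * m + 1) - 1) {y : Cfsg.Sz F m}
    (hy : y ∈ Subgroup.normalizer (V : Set (Cfsg.Sz F m))) (hyV : y ∉ V) : y * y = 1 := by
  have h2 := hV.pow_eq_one hy hyV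
  rwa [normIndex, if_pos h, pow_two] at h2

theorem IsCyclicPart.mul_mem_of_involutions {V : Subgroup (Cfsg.Sz F m)} (hV : IsCyclicPart m V)
    {j k : Cfsg.Sz F m} (hj : j * j = 1) (hjV : j ∉ V)
    (hjN : j ∈ Subgroup.normalizer (V : Set (Cfsg.Sz F m))) (hk : k * k = 1) (hkV : k ∉ V)
    (hkN : k ∈ Subgroup.normalizer (V : Set (Cfsg.Sz F m))) : j * k ∈ V := by
  obtain ⟨v, hv, hv1⟩ := hV.exists_ne_one
  rw [← hV.centralizer_eq hv hv1, Subgroup.mem_centralizer_singleton_iff]
  have h1 := hV.inverts hk hkV hkN hv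
  have h2 := hV.inverts hj hjV hjN (V.inv_mem hv)
  rw [inv_inv] at h2
  calc j * k * v = j * (k * v * k⁻¹) * j⁻¹ * (j * k) := by group
    _ = v * (j * k) := by rw [h1, h2]

theorem IsCyclicPart.exists_involution {V : Subgroup (Cfsg.Sz F m)} (hV : IsCyclicPart m V) :
    ∃ j, j * j = 1 ∧ j ∉ V ∧ j ∈ Subgroup.normalizer (V : Set (Cfsg.Sz F m)) := by
  obtain ⟨v, hv, hv1⟩ := hV.exists_ne_one
  obtain ⟨j, hj, hjv⟩ := exists_involution_inverting m (hV.odd_orderOf hv)
  refine ⟨j, by rw [← pow_two, ← hj]; exact pow_orderOf_eq_one j, fun e => ?_,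
    normalizer_of_conj_mem m hV.isPart hv hv1 (hjv ▸ V.inv_mem hv)⟩
  have := hV.odd_orderOf e
  rw [hj] at this
  exact absurd this (by decide)

/-- The involutions of the normaliser form one coset. -/
theorem IsCyclicPart.card_involutions {V : Subgroup (Cfsg.Sz F m)} (hV : IsCyclicPart m V) :
    Nat.card {y : Cfsg.Sz F m // y ∈ Subgroup.normalizer (V : Set (Cfsg.Sz F m)) ∧ orderOf y = 2} =
      Nat.card V := by
  obtain ⟨j, hj, hjV, hjN⟩ := hV.exists_involution
  have hjj : j⁻¹ = j := inv_eq_of_mul_eq_one_right hj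
  refine (Nat.card_congr (Equiv.ofBijective (fun v : V => (⟨j * v, ?_, ?_⟩ :
    {y : Cfsg.Sz F m // y ∈ Subgroup.normalizer (V : Set (Cfsg.Sz F m)) ∧ orderOf y = 2})) ⟨?_, ?_⟩)).symm
  · exact mul_mem hjN (Subgroup.le_normalizer v.2)
  · refine orderOf_eq_two m ?_ (fun e => hjV ?_)
    · calc j * v * (j * v) = j * v * j⁻¹ * v := by rw [hjj]; group
        _ = 1 := by rw [hV.inverts hj hjV hjN v.2, inv_mul_cancel]
    · rw [eq_inv_of_mul_eq_one_left e]; exact V.inv_mem v.2
  · intro a b e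
    exact Subtype.ext (mul_left_cancel (congrArg Subtype.val e))
  · rintro ⟨y, hyN, hy⟩
    have hy2 : y * y = 1 := by rw [← pow_two, ← hy]; exact pow_orderOf_eq_one y
    have hyV : y ∉ V := fun e => by
      have := hV.eq_one_of_sq e hy2
      rw [this, orderOf_one] at hy; omega
    refine ⟨⟨j * y, hV.mul_mem_of_involutions hj hjV hjN hy2 hyV hyN⟩, Subtype.ext ?_⟩
    show j * (j * y) = y
    rw [← mul_assoc, hj, one_mul]

/-- An element of order four in the normaliser of a part of index four. -/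
theorem IsCyclicPart.exists_order_four {V : Subgroup (Cfsg.Sz F m)} (hV : IsCyclicPart m V)
    (h : Nat.card V ≠ 2 ^ (2 * m + 1) - 1) :
    ∃ y ∈ Subgroup.normalizer (V : Set (Cfsg.Sz F m)), orderOf y = 4 := by
  by_contra! hno
  set N := Subgroup.normalizer (V : Set (Cfsg.Sz F m)) with hN
  have hinv : ∀ y ∈ N, y ∉ V → y * y = 1 := by
    intro y hy hyV
    by_contra hne
    refine hno y hy ?_
    have : Fact (Nat.Prime 2) := ⟨Nat.prime_two⟩
    exact orderOf_eq_prime_pow (p := 2) (n := 1) (by rwa [pow_one, pow_two]) (hV.pow_four hy hyV)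
  obtain ⟨j, hj, hjV, hjN⟩ := hV.exists_involution
  have hsub : (N : Set (Cfsg.Sz F m)) ⊆ (V : Set (Cfsg.Sz F m)) ∪ (fun v => j * v) '' V := by
    intro y hy
    by_cases hyV : y ∈ V
    · exact Or.inl hyV
    · refine Or.inr ⟨j * y, hV.mul_mem_of_involutions hj hjV hjN (hinv y hy hyV) hyV hy, ?_⟩
      show j * (j * y) = y
      rw [← mul_assoc, hj, one_mul]
  have h1 := (Set.ncard_le_ncard hsub (Set.toFinite _)).trans (Set.ncard_union_le _ _)
  rw [Set.ncard_image_of_injective _ (mul_right_injective j)] at h1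
  have h2 : ∀ H : Subgroup (Cfsg.Sz F m), (H : Set (Cfsg.Sz F m)).ncard = Nat.card H := fun H =>
    (Nat.card_coe_set_eq _).symm
  rw [h2, h2, hN, hV.card_normalizer, normIndex, if_neg h] at h1
  have := hV.five_le
  omega

theorem IsCyclicPart.card_order_four {V : Subgroup (Cfsg.Sz F m)} (hV : IsCyclicPart m V)
    (h : Nat.card V ≠ 2 ^ (2 * m + 1) - 1) :
    Nat.card {y : Cfsg.Sz F m // y ∈ Subgroup.normalizer (V : Set (Cfsg.Sz F m)) ∧ orderOf y = 4} =
      2 * Nat.card V := by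
  set N := Subgroup.normalizer (V : Set (Cfsg.Sz F m)) with hN
  have : Fact (Nat.Prime 2) := ⟨Nat.prime_two⟩
  have hsplit : (N : Set (Cfsg.Sz F m)) = (V : Set (Cfsg.Sz F m)) ∪
      ({y | y ∈ N ∧ orderOf y = 2} ∪ {y | y ∈ N ∧ orderOf y = 4}) := by
    ext y
    constructor
    · intro hy
      by_cases hyV : y ∈ V
      · exact Or.inl hyV
      · right
        by_cases h2 : y * y = 1
        · exact Or.inl ⟨hy, orderOf_eq_two m h2 (fun e => hyV (e ▸ V.one_mem))⟩
        · exact Or.inr ⟨hy, orderOf_eq_prime_pow (p := 2) (n := 1) (by rwa [pow_one, pow_two])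
            (hV.pow_four hy hyV)⟩
    · rintro (hy | hy | hy)
      · exact Subgroup.le_normalizer hy
      · exact hy.1
      · exact hy.1
  have hd1 : Disjoint ({y | y ∈ N ∧ orderOf y = 2} : Set (Cfsg.Sz F m)) {y | y ∈ N ∧ orderOf y = 4} :=
    Set.disjoint_left.mpr fun y hy hy' => by simp only [Set.mem_ofPred_eq] at hy hy'; omega
  have hd2 : Disjoint (V : Set (Cfsg.Sz F m))
      ({y | y ∈ N ∧ orderOf y = 2} ∪ {y | y ∈ N ∧ orderOf y = 4}) :=
    Set.disjoint_left.mpr fun y hy hy' => by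
      have h1 := hV.odd_orderOf hy
      rcases hy' with hy' | hy' <;> simp only [Set.mem_ofPred_eq] at hy' <;> rw [hy'.2] at h1 <;>
        exact absurd h1 (by decide)
  have h1 := congrArg Set.ncard hsplit
  rw [Set.ncard_union_eq hd2, Set.ncard_union_eq hd1] at h1
  simp only [← Nat.card_coe_set_eq] at h1
  have h2 := hV.card_involutions
  have h3 := hV.card_normalizer
  rw [normIndex, if_neg h, ← hN] at h3
  change Nat.card N = Nat.card V + (Nat.card {y : Cfsg.Sz F m // y ∈ N ∧ orderOf y = 2} +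
    Nat.card {y : Cfsg.Sz F m // y ∈ N ∧ orderOf y = 4}) at h1
  rw [h2, h3] at h1
  omega

/-- Cyclic parts of the same order are conjugate. -/
theorem IsCyclicPart.exists_conj {V W : Subgroup (Cfsg.Sz F m)} (hV : IsCyclicPart m V)
    (hW : IsCyclicPart m W) (h : Nat.card V = Nat.card W) :
    ∃ k, W = V.map (MulAut.conj k).toMonoidHom := by
  obtain ⟨-, -, -, n1, n2, -⟩ := part_sizes (F := F) (m := m)
  rcases hV.2 with hv | hv
  · have toT : ∀ V : Subgroup (Cfsg.Sz F m), IsCyclicPart m V → Nat.card V = 2 ^ (2 * m + 1) - 1 →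
        ∃ k, V.map (MulAut.conj k).toMonoidHom = T m := by
      intro V hV hv
      obtain ⟨x, hx, hx1⟩ := hV.exists_ne_one
      obtain ⟨c1, c2, c3⟩ := coprime_parts (F := F) m
      have hxo : orderOf x ∣ Nat.card F - 1 := by
        rw [card_nat (F := F) m, ← hv]; exact Subgroup.orderOf_dvd_natCard _ hx
      have hnf : ¬ FixFree m x := fun hf => hx1 (orderOf_eq_one_iff.mp
        (Nat.eq_one_of_dvd_coprimes c3 hxo (orderOf_dvd_of_fixFree m hf)))
      rcases exists_conj_U_or_T m hnf with ⟨k, hk⟩ | ⟨k, hk⟩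
      · exfalso
        refine hx1 (orderOf_eq_one_iff.mp ?_)
        have h1 : orderOf (k * x * k⁻¹) ∣ Nat.card F ^ 2 :=
          card_U (F := F) m ▸ Subgroup.orderOf_dvd_natCard _ hk
        rw [← MulAut.conj_apply, MulEquiv.orderOf_eq] at h1
        exact Nat.eq_one_of_dvd_coprimes (c1.pow_left 2) h1 hxo
      · refine ⟨k, ?_⟩
        rw [← hV.centralizer_eq hx hx1, map_conj_centralizer,
          centralizer_T_eq m hk (by rwa [ne_eq, conj_eq_one_iff])]
    obtain ⟨k, hk⟩ := toT V hV hv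
    obtain ⟨l, hl⟩ := toT W hW (h ▸ hv)
    refine ⟨l⁻¹ * k, ?_⟩
    rw [← map_conj_conj, hk, ← hl, map_conj_conj, inv_mul_cancel, map_one]
    exact (Subgroup.map_id _).symm
  · obtain ⟨g, hg, rfl⟩ := isCyclic_card_eq m hV.1 hv
    obtain ⟨g', hg', rfl⟩ := isCyclic_card_eq m hW.1 (h ▸ hv)
    exact exists_conj_of_card_eq m hg hg' h

theorem IsCyclicPart.map_conj {V : Subgroup (Cfsg.Sz F m)} (hV : IsCyclicPart m V) (k : Cfsg.Sz F m) :
    IsCyclicPart m (V.map (MulAut.conj k).toMonoidHom) := by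
  refine ⟨?_, ?_⟩
  · have := hV.1
    exact isCyclic_of_surjective (V.equivMapOfInjective _ (MulAut.conj k).injective).toMonoidHom
      (V.equivMapOfInjective _ (MulAut.conj k).injective).surjective
  · rw [← Nat.card_congr (V.equivMapOfInjective _ (MulAut.conj k).injective).toEquiv]
    exact hV.2

/-- The number of parts of a given order normalised by an element. -/
theorem card_parts_normalized {V : Subgroup (Cfsg.Sz F m)} (hV : IsCyclicPart m V) (x : Cfsg.Sz F m) :
    Nat.card {W : Subgroup (Cfsg.Sz F m) // IsCyclicPart m W ∧ Nat.card W = Nat.card V ∧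
        x ∈ Subgroup.normalizer (W : Set (Cfsg.Sz F m))} * (normIndex m (Nat.card V) * Nat.card V) =
      Nat.card {y : Cfsg.Sz F m // y ∈ Subgroup.normalizer (V : Set (Cfsg.Sz F m)) ∧ IsConj x y} *
        Nat.card (Subgroup.centralizer {x}) := by
  rw [← hV.card_normalizer, ← card_conjugates_normalized V x]
  congr 1
  refine Nat.card_congr (Equiv.subtypeEquivRight fun W => ?_)
  constructor
  · rintro ⟨hW, hc, hx⟩
    exact ⟨hV.exists_conj hW hc.symm, hx⟩
  · rintro ⟨⟨k, rfl⟩, hx⟩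
    exact ⟨hV.map_conj k, (Nat.card_congr (V.equivMapOfInjective _ (MulAut.conj k).injective).toEquiv).symm,
      hx⟩

end Cfsg.Agent.Suzuki
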